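import Cfsg.Agent.Lib.EightMax.Small

/-!
The blocks of a proper subgroup containing the normaliser only contain normalising matrices.
-/

set_option autoImplicit false
set_option linter.unusedSectionVars false
set_option maxHeartbeats 1000000

namespace CfsgLib.EightMax

open Matrix
open scoped MatrixGroups commutatorElement

variable {F : Type*} [Field F] [Fintype F]

local notation "M4" => Matrix I4 I4 F
local notation "M8" => Matrix I8 I8 F
local notation "M2" => Matrix (ZMod 2) (ZMod 2) F

variable {p : ℕ} {i : F} {M : Subgroup (GL I8 F)}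

/-- In a finite group a set closed under products is a subgroup. -/
theorem exists_subgroup {G : Type*} [Group G] [Finite G] (P : G → Prop) (h1 : P 1)
    (hm : ∀ x y, P x → P y → P (x * y)) : ∃ H : Subgroup G, ∀ x, x ∈ H ↔ P x := by
  refine ⟨{ carrier := {x | P x}, one_mem' := h1, mul_mem' := fun {x y} => hm x y, inv_mem' := ?_ }, fun x => Iff.rfl⟩
  intro x hx
  have hpow : ∀ n : ℕ, P (x ^ n) := fun n => by
    induction n with
    | zero => rw [pow_zero]; exact h1
    | succ n ih => rw [pow_succ]; exact hm _ _ ih hx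
  have e : x⁻¹ = x ^ (orderOf x - 1) := inv_eq_of_mul_eq_one_right (by
    rw [← pow_succ', Nat.sub_add_cancel (orderOf_pos x), pow_orderOf_eq_one])
  show P x⁻¹
  rw [e]
  exact hpow _

/-- Two blocks according to the second qubit. -/
def D2 (a b : M2) : M4 := blockDiagonal fun k : ZMod 2 => if k = 0 then a else b

theorem D2_mul (a b c d : M2) : D2 a b * D2 c d = D2 (a * c) (b * d) := by
  rw [D2, D2, D2, ← blockDiagonal_mul]
  congr 1
  funext k
  split <;> rfl

theorem D2_one : D2 (1 : M2) 1 = 1 := by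
  rw [D2]; simp only [ite_self]; exact blockDiagonal_one

theorem D2_det (a b : M2) : (D2 a b).det = a.det * b.det := by
  rw [D2, det_blockDiagonal]
  show (∏ x : Fin 2, (if (x : ZMod 2) = 0 then a else b).det) = _
  rw [Fin.prod_univ_two]
  rfl

theorem D2_inj {a b c d : M2} (e : D2 a b = D2 c d) : a = c ∧ b = d := by
  constructor <;> ext r s
  · simpa [D2, blockDiagonal_apply] using congrFun (congrFun e (r, 0)) (s, 0)
  · simpa [D2, blockDiagonal_apply] using congrFun (congrFun e (r, 1)) (s, 1)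

theorem D2_smul (c : F) (a b : M2) : c • D2 a b = D2 (c • a) (c • b) := by
  rw [D2, D2, ← blockDiagonal_smul]
  congr 1
  funext k
  simp only [Pi.smul_apply]
  split <;> rfl

theorem D2_Z : (W F d4 (((0, 0), (0, 1)) : I4 × I4) : M4) = D2 1 (-1) := by
  ext ⟨r, k⟩ ⟨c, l⟩
  rcases z2 k with rfl | rfl <;> rcases z2 l with rfl | rfl <;> by_cases e : r = c <;>
    simp [D2, W_apply, d4, sg2_zero, sg2_one, blockDiagonal_apply, e]

/-- The swap of one qubit. -/
def X2 (F : Type*) [Field F] : Matrix (ZMod 2) (ZMod 2) F := Matrix.of fun r c => if r = c + 1 then 1 else 0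

theorem D2_X : (W F d4 (((1, 0), (0, 0)) : I4 × I4) : M4) = D2 (X2 F) (X2 F) := by
  ext ⟨r, k⟩ ⟨c, l⟩
  rcases z2 k with rfl | rfl <;> rcases z2 l with rfl | rfl <;>
    simp [D2, X2, W_apply, d4, sg2_zero, blockDiagonal_apply]

theorem D2_of_comm (h2 : (2 : F) ≠ 0) {A : M4} (h : A * D2 1 (-1) = D2 1 (-1) * A) : ∃ a b, A = D2 a b := by
  refine ⟨Matrix.of fun r c => A (r, 0) (c, 0), Matrix.of fun r c => A (r, 1) (c, 1), ?_⟩
  have hd : D2 (1 : M2) (-1) = Matrix.diagonal fun c : I4 => sg2 F c.2 := by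
    rw [← D2_Z]
    ext r c
    by_cases e : r = c <;> simp [W_apply, d4, e, Prod.mk_zero_zero]
  ext ⟨r, k⟩ ⟨c, l⟩
  by_cases hkl : k = l
  · subst hkl
    rcases z2 k with rfl | rfl <;> simp [D2, blockDiagonal_apply]
  · have e := congrFun (congrFun h (r, k)) (c, l)
    rw [hd, Matrix.mul_diagonal, Matrix.diagonal_mul] at e
    simp only at e
    have : (sg2 F l - sg2 F k) * A (r, k) (c, l) = 0 := by linear_combination e
    rw [(mul_eq_zero.1 this).resolve_left (sub_ne_zero.2 fun e' => hkl (sg2_inj h2 e').symm)]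
    simp [D2, blockDiagonal_apply, hkl]

/-- Exchanging the last two qubits. -/
def sig : Equiv.Perm I8 :=
  Function.Involutive.toPerm (fun x => ((x.1.1, x.2), x.1.2)) fun _ => rfl

theorem sig_apply (x : I8) : sig x = ((x.1.1, x.2), x.1.2) := rfl

theorem sig_conj (X : M8) :
    sig.permMatrix F * X * sig.permMatrix F = X.submatrix sig sig := by
  rw [Equiv.Perm.permMatrix, PEquiv.toMatrix_toPEquiv_mul, PEquiv.mul_toMatrix_toPEquiv,
    Matrix.submatrix_submatrix]
  rfl

theorem sig_sq : sig.permMatrix F * sig.permMatrix F = (1 : M8) := by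
  rw [← Matrix.permMatrix_mul, show sig * sig = 1 from Equiv.ext fun _ => rfl, Matrix.permMatrix_one]

theorem sig_act : Act d8 (sig.permMatrix F : M8) fun v => (sig v.1, sig v.2) := by
  intro v
  refine ⟨1, ?_⟩
  have hd : ∀ x y : I8, d8 (sig x) y = d8 x (sig y) := by decide +kernel
  have ha : ∀ x y : I8, sig (x + y) = sig x + sig y := by decide +kernel
  have e : (W F d8 v : M8).submatrix sig sig = W F d8 (sig v.1, sig v.2) := by
    ext r c
    simp only [Matrix.submatrix_apply, W_apply]
    have e1 : sig r = sig c + v.1 ↔ r = c + sig v.1 := by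
      rw [← sig.apply_eq_iff_eq (x := r), ha]
      rfl
    simp only [e1, hd]
  rw [one_smul, ← e, ← sig_conj, Matrix.mul_assoc, sig_sq, Matrix.mul_one]

theorem B2_D2_sig (a b c d : M2) :
    (B2 (D2 a b) (D2 c d)).submatrix sig sig = B2 (D2 a c) (D2 b d) := by
  ext ⟨⟨r, j⟩, k⟩ ⟨⟨s, j'⟩, l⟩
  rcases z2 j with rfl | rfl <;> rcases z2 j' with rfl | rfl <;> rcases z2 k with rfl | rfl <;>
    rcases z2 l with rfl | rfl <;> simp [sig_apply, B2, D2, blockDiagonal_apply]

theorem transvection_submatrix (a b : I8) (t : F) :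
    (transvection a b t).submatrix sig sig = transvection (sig a) (sig b) t := by
  have e : ∀ x y : I8, sig x = y ↔ x = sig y := by decide +kernel
  ext r c
  simp [transvection, Matrix.single_apply, Matrix.one_apply, e, show ∀ x, sig (sig x) = x from fun _ => rfl]

theorem B2_transvection {r c : I4} (t : F) :
    transvection (r, (0 : ZMod 2)) (c, 0) t = B2 (transvection r c t) (1 : M4) ∧
    transvection (r, (1 : ZMod 2)) (c, 1) t = B2 (1 : M4) (transvection r c t) := by
  constructor <;> ext ⟨r', k⟩ ⟨c', l⟩ <;> rcases z2 k with rfl | rfl <;> rcases z2 l with rfl | rfl <;>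
    simp [B2, blockDiagonal_apply, transvection, Matrix.single_apply, Matrix.one_apply]

theorem in_B2_inv {a b A B : M4} (hab : In M (B2 a b)) (ha : a * A = 1) (hb : b * B = 1) : In M (B2 A B) := by
  refine in_right (A := B2 a b) ?_ hab
  rw [B2_mul, ha, hb, B2_one]
  exact in_one

theorem exists_inv {a : M4} (h : IsUnit a) : ∃ A, a * A = 1 ∧ A * a = 1 := by
  obtain ⟨a, rfl⟩ := h
  exact ⟨_, a.mul_inv, a.inv_mul⟩

namespace Setup

variable (h : Setup p i M)
include h

theorem in_sig {A : M8} (hA : In M A) : In M (A.submatrix sig sig) := by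
  have hs : In M (sig.permMatrix F : M8) := h.in_act (by
    rw [det_permutation, show Equiv.Perm.sign sig = 1 by decide +kernel]; norm_num) sig_act
  rw [← sig_conj]
  exact in_mul (in_mul hs hA) hs

variable (hbig : ∀ g : Matrix I4 I4 F, g.det = 1 → ∃ b, In M (B2 g b))
include hbig

/-- The second blocks belonging to the unit matrix are scalar. -/
theorem ker_scalar {k : M4} (hk : In M (B2 1 k)) : ∃ c : F, k = c • 1 := by
  classical
  have hdk : k.det = 1 := by
    have := h.in_det hk
    rwa [B2_det, det_one, one_mul] at this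
  by_contra hns
  haveI : Finite (SpecialLinearGroup I4 F) := Finite.of_injective _ Subtype.val_injective
  obtain ⟨K, hK⟩ := exists_subgroup (fun s : SpecialLinearGroup I4 F => In M (B2 1 (s : M4)))
    (by show In M (B2 1 (1 : M4)); rw [B2_one]; exact in_one)
    (fun x y hx hy => by
      have := in_mul hx hy
      rw [B2_mul, one_mul] at this
      exact this)
  have hn : K.Normal := ⟨fun x hx s => by
    rw [hK] at hx ⊢
    obtain ⟨b, hb⟩ := hbig (s : M4) s.2
    have hb' := h.in_swap hb
    obtain ⟨B, bB, -⟩ := exists_inv (isUnit_of_B2 hb).2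
    have hS : (s : M4) * ((s⁻¹ : SpecialLinearGroup I4 F) : M4) = 1 := by
      exact congrArg Subtype.val (mul_inv_cancel s)
    have := in_mul (in_mul hb' hx) (in_B2_inv hb' bB hS)
    rw [B2_mul, B2_mul, mul_one, bB] at this
    exact this⟩
  have htop := normal_eq_top (Or.inl (by simp)) K (g := ⟨k, hdk⟩) ((hK _).2 hk) (fun ⟨c, hc⟩ => hns ⟨c, hc⟩)
  have hblock : ∀ g : M4, g.det = 1 → In M (B2 1 g) := fun g hg =>
    (hK ⟨g, hg⟩).1 (by rw [htop]; exact Subgroup.mem_top _)
  -- transvections inside a block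
  have hT0 : ∀ (r c : I4) (l : ZMod 2) (t : F), r ≠ c → In M (transvection (r, l) (c, l) t) := by
    intro r c l t hrc
    rcases z2 l with rfl | rfl
    · rw [(B2_transvection t).1]
      exact h.in_swap (hblock _ (det_transvection_of_ne r c hrc t))
    · rw [(B2_transvection t).2]
      exact hblock _ (det_transvection_of_ne r c hrc t)
  have hT1 : ∀ (a b : I8) (t : F), a ≠ b → a.1.2 = b.1.2 → In M (transvection a b t) := by
    rintro ⟨⟨a, j⟩, k⟩ ⟨⟨b, j'⟩, l⟩ t hab (rfl : j = j')
    have := h.in_sig (hT0 (a, k) (b, l) j t fun e => hab (by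
      simp_all))
    rwa [transvection_submatrix] at this
  haveI : Finite (SpecialLinearGroup I8 F) := Finite.of_injective _ Subtype.val_injective
  obtain ⟨H, hH⟩ := exists_subgroup (fun s : SpecialLinearGroup I8 F => In M (s : M8))
    in_one (fun x y hx hy => in_mul hx hy)
  have htop8 : H = ⊤ := by
    refine CfsgLib.Classical.eq_top_of_transvection_mem H ?_
    rintro ⟨r, k⟩ ⟨c, l⟩ hij t
    by_cases hkl : k = l
    · subst hkl
      exact (hH _).2 (hT0 r c k t fun e => hij (by rw [e]))
    by_cases hrc : r.2 = c.2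
    · exact (hH _).2 (hT1 _ _ t hij hrc)
    have e1 : ((r, k) : I8) ≠ (r, l) := fun e => hkl (congrArg Prod.snd e)
    have hrc' : r ≠ c := fun e => hrc (by rw [e])
    have e2 : ((r, l) : I8) ≠ (c, l) := fun e => hrc' (congrArg Prod.fst e)
    rw [← CfsgLib.Classical.commutator_transvection hij e1 e2 t, commutatorElement_def]
    have m1 : SpecialLinearGroup.transvection e1 t ∈ H := (hH _).2 (hT1 _ _ t e1 rfl)
    have m2 : SpecialLinearGroup.transvection e2 (1 : F) ∈ H := (hH _).2 (hT0 r c l 1 hrc')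
    exact mul_mem (mul_mem (mul_mem m1 m2) (inv_mem m1)) (inv_mem m2)
  refine h.ntop fun g hg => ?_
  obtain ⟨g', hg', e⟩ := (hH ⟨(g : M8), hg⟩).1 (by rw [htop8]; exact Subgroup.mem_top _)
  rwa [Units.ext e] at hg'

/-- There is no such group. -/
theorem big_false : False := by
  classical
  have h2 := h.two
  have hi0 := dot4.i_ne h.isq
  haveI : NeZero (2 : F) := ⟨h2⟩
  -- squares lift to block diagonal matrices
  have hsq : ∀ c : M2, c.det = 1 → ∃ a b : M2, In M (B2 (D2 1 (c * c)) (D2 a b)) := by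
    intro c hc
    obtain ⟨g, hg⟩ := hbig (D2 1 c) (by rw [D2_det, det_one, one_mul, hc])
    obtain ⟨H1, hH1, hH1'⟩ := exists_inv (isUnit_of_B2 hg).1
    obtain ⟨G', hG', hG''⟩ := exists_inv (isUnit_of_B2 hg).2
    obtain ⟨Z, hZ⟩ : ∃ Z : M4, Z = D2 1 (-1) := ⟨_, rfl⟩
    have ZZ : Z * Z = 1 := by rw [hZ, D2_mul, one_mul, neg_mul_neg, one_mul, D2_one]
    have hZM : In M (B2 Z Z) := by
      rw [hZ, ← D2_Z, ← W8_emb_B2]
      exact h.in_W _
    have hk := in_mul (in_mul (in_mul hg hZM) (in_B2_inv hg hH1 hG')) hZM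
    simp only [B2_mul] at hk
    have hc1 : D2 1 c * Z * H1 * Z = 1 := by
      have : D2 1 c * Z = Z * D2 1 c := by rw [hZ, D2_mul, D2_mul]; simp
      rw [this, Matrix.mul_assoc Z, hH1, Matrix.mul_one, ZZ]
    rw [hc1] at hk
    obtain ⟨lam, hl⟩ := ker_scalar h hbig hk
    have e1 : g * Z = lam • (Z * g) := by
      have := congrArg (fun X => X * Z * g) hl
      simp only [Matrix.mul_assoc, Matrix.smul_mul, Matrix.one_mul] at this
      rw [← Matrix.mul_assoc Z Z, ZZ, Matrix.one_mul, hG'', Matrix.mul_one] at this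
      exact this
    have e2 : Z * g = lam • (g * Z) := by
      have := congrArg (fun X => Z * X * Z) e1
      simp only [Matrix.mul_assoc, Matrix.smul_mul, Matrix.mul_smul, ZZ, Matrix.mul_one] at this
      rw [← Matrix.mul_assoc Z Z, ZZ, Matrix.one_mul] at this
      exact this
    have e3 : g * g * Z = Z * (g * g) := by
      calc g * g * Z = lam • (g * Z) * g := by
            conv_lhs => rw [Matrix.mul_assoc, e1, Matrix.mul_smul, ← Matrix.mul_assoc]
            rw [Matrix.smul_mul]
        _ = Z * g * g := by rw [← e2]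
        _ = Z * (g * g) := Matrix.mul_assoc _ _ _
    obtain ⟨a, b, hab⟩ := D2_of_comm h2 (A := g * g) (hZ ▸ e3)
    refine ⟨a, b, ?_⟩
    have := in_mul hg hg
    rwa [B2_mul, D2_mul, one_mul, hab] at this
  haveI : Finite (SpecialLinearGroup (ZMod 2) F) := Finite.of_injective _ Subtype.val_injective
  obtain ⟨K, hK⟩ := exists_subgroup
    (fun s : SpecialLinearGroup (ZMod 2) F => ∃ (lam : F) (B : M2), In M (B2 (D2 1 (s : M2)) (D2 (lam • 1) B)))
    ⟨1, 1, by show In M (B2 (D2 1 (1 : M2)) _); rw [one_smul, D2_one, B2_one]; exact in_one⟩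
    (by
      rintro x y ⟨l, B, hx⟩ ⟨l', B', hy⟩
      refine ⟨l * l', B * B', ?_⟩
      have := in_mul hx hy
      rw [B2_mul, D2_mul, D2_mul, one_mul, Matrix.smul_mul, one_mul, smul_smul] at this
      exact this)
  have hn : K.Normal := by
    rw [← Subgroup.normalizer_eq_top_iff]
    refine CfsgLib.Classical.eq_top_of_transvection_mem _ fun r s hrs t => ?_
    rw [Subgroup.mem_normalizer_iff]
    have key : ∀ (t : F) (x : SpecialLinearGroup (ZMod 2) F), x ∈ K →
        SpecialLinearGroup.transvection hrs t * x * (SpecialLinearGroup.transvection hrs t)⁻¹ ∈ K := by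
      intro t x hx
      rw [hK] at hx ⊢
      obtain ⟨l, B, hx⟩ := hx
      obtain ⟨a, b, hab⟩ := hsq (Matrix.transvection r s (t / 2)) (det_transvection_of_ne r s hrs _)
      rw [transvection_mul_transvection_same r s hrs, add_halves] at hab
      obtain ⟨A, hA, -⟩ := exists_inv (isUnit_of_B2 hab).2
      have hS : Matrix.transvection r s t * Matrix.transvection r s (-t) = 1 := by
        rw [transvection_mul_transvection_same r s hrs, add_neg_cancel, transvection_zero]
      have hab1 : ∃ a' b' : M2, a * a' = 1 ∧ b * b' = 1 := by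
        have hd := (Matrix.isUnit_iff_isUnit_det _).1 (isUnit_of_B2 hab).2
        rw [D2_det, IsUnit.mul_iff] at hd
        exact ⟨a⁻¹, b⁻¹, Matrix.mul_nonsing_inv _ hd.1, Matrix.mul_nonsing_inv _ hd.2⟩
      obtain ⟨a', b', ha', hb'⟩ := hab1
      have := in_mul (in_mul hab hx) (in_B2_inv (A := D2 1 (Matrix.transvection r s (-t))) (B := D2 a' b') hab
        (by rw [D2_mul, one_mul, hS, D2_one]) (by rw [D2_mul, ha', hb', D2_one]))
      simp only [B2_mul, D2_mul, one_mul, Matrix.mul_smul, Matrix.smul_mul, mul_one, ha'] at this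
      refine ⟨l, b * B * b', ?_⟩
      rw [SpecialLinearGroup.transvection_inv]
      exact this
    refine fun x => ⟨key t x, fun hx => ?_⟩
    have := key (-t) _ hx
    rwa [← SpecialLinearGroup.transvection_inv, inv_inv,
      show (SpecialLinearGroup.transvection hrs t)⁻¹ * (SpecialLinearGroup.transvection hrs t * x *
        (SpecialLinearGroup.transvection hrs t)⁻¹) * SpecialLinearGroup.transvection hrs t = x by group] at this
  -- a first element
  obtain ⟨b0, hb0⟩ : ∃ b0 : M2, b0 = Matrix.diagonal fun r => sg2 F r * i := ⟨_, rfl⟩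
  have hb0d : b0.det = 1 := by
    rw [hb0, det_diagonal]
    show (∏ x : Fin 2, sg2 F (x : ZMod 2) * i) = 1
    rw [Fin.prod_univ_two]
    change sg2 F (0 : ZMod 2) * i * (sg2 F (1 : ZMod 2) * i) = 1
    rw [sg2_zero, sg2_one]
    linear_combination -h.isq
  have hb0K : (⟨b0, hb0d⟩ : SpecialLinearGroup (ZMod 2) F) ∈ K := by
    refine (hK _).2 ⟨1, b0, ?_⟩
    show In M (B2 (D2 1 b0) _)
    rw [one_smul]
    have e : D2 1 b0 = ((1 + i) ^ 4)⁻¹ • (G i d4 (((0, 0), (1, 0)) : I4 × I4) *
        (G i d4 (((0, 0), (1, 1)) : I4 × I4) * (G i d4 (((0, 0), (1, 1)) : I4 × I4) *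
          G i d4 (((0, 0), (1, 1)) : I4 × I4)))) := by
      have h1i : (1 + i) ≠ 0 := fun e => h2 (by linear_combination (1 - i) * e + h.isq)
      refine smul_right_injective M4 (pow_ne_zero 4 h1i) ?_
      simp only
      rw [smul_inv_smul₀ (pow_ne_zero 4 h1i)]
      have hdg : ∀ b : I4, G i d4 (((0, 0), b) : I4 × I4) = Matrix.diagonal fun c => 1 + i * sg2 F (d4 b c) := by
        intro b
        ext r c
        by_cases e : r = c <;> simp [G, E, ec, W_apply, e, Prod.mk_zero_zero, dot4.zero_right]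
      have hL : D2 1 b0 = Matrix.diagonal fun c : I4 => if c.2 = 0 then 1 else sg2 F c.1 * i := by
        ext ⟨r, k⟩ ⟨c, l⟩
        rcases z2 k with rfl | rfl <;> rcases z2 l with rfl | rfl <;> by_cases e : r = c <;>
          simp [D2, blockDiagonal_apply, hb0, e]
      rw [hdg, hdg, hL, diagonal_mul_diagonal, diagonal_mul_diagonal, diagonal_mul_diagonal, ← diagonal_smul]
      congr 1
      funext ⟨r, k⟩
      rcases z2 r with rfl | rfl <;> rcases z2 k with rfl | rfl <;>
        simp [d4, sg2_zero, sg2_one, show (1 : ZMod 2) + 1 = 0 from rfl] <;>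
        first
          | linear_combination (0 : F) * h.isq
          | linear_combination (i ^ 3 + 5 * i ^ 2 + 3 * i - 1) * h.isq
          | linear_combination (-(1 + i) ^ 3) * h.isq
          | linear_combination (8 * i) * h.isq
    have hA : ∃ L, Act d4 (D2 1 b0) L := e ▸ ⟨_, ((dot4.G_act h.isq _).comp
      ((dot4.G_act h.isq _).comp ((dot4.G_act h.isq _).comp (dot4.G_act h.isq _)))).smul _⟩
    exact h.in_nkron (by rw [D2_det, det_one, one_mul, hb0d]) hA.choose_spec
  have hiq : i ^ 2 ≠ 1 := fun e => h2 (by linear_combination -e + h.isq)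
  have htop := normal_eq_top (Or.inr ⟨i, hi0, hiq⟩) K hb0K (by
    rintro ⟨c, hc⟩
    have e0 := congrFun (congrFun hc 0) 0
    have e1 := congrFun (congrFun hc 1) 1
    simp [hb0, sg2_zero, sg2_one] at e0 e1
    exact h2 (mul_left_cancel₀ hi0 (by linear_combination e0 - e1)))
  -- the final contradiction
  obtain ⟨U, hU⟩ : ∃ U : M2, U = Matrix.transvection (0 : ZMod 2) 1 1 := ⟨_, rfl⟩
  have hUd : U.det = 1 := hU ▸ det_transvection_of_ne _ _ zero_ne_one _
  obtain ⟨lam, B, hB⟩ := (hK ⟨U, hUd⟩).1 (by rw [htop]; exact Subgroup.mem_top _)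
  have hB' := h.in_sig hB
  simp only [B2_D2_sig] at hB'
  obtain ⟨A', hA', -⟩ := exists_inv (isUnit_of_B2 hB').1
  obtain ⟨G', hG', hG''⟩ := exists_inv (isUnit_of_B2 hB').2
  obtain ⟨X, hX⟩ : ∃ X : M4, X = D2 (X2 F) (X2 F) := ⟨_, rfl⟩
  have XX : X * X = 1 := by
    rw [hX, ← D2_X, dot4.W_sq, show d4 ((0, 0) : I4) ((1, 0) : I4) = 0 from by decide, sg2_zero, one_smul]
  have hXM : In M (B2 X X) := by
    rw [hX, ← D2_X, ← W8_emb_B2]
    exact h.in_W _
  have hk := in_mul (in_mul (in_mul hB' hXM) (in_B2_inv hB' hA' hG')) hXM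
  simp only [B2_mul] at hk
  have hc1 : D2 1 (lam • 1) * X * A' * X = 1 := by
    have : D2 1 (lam • 1) * X = X * D2 1 (lam • 1) := by rw [hX, D2_mul, D2_mul]; simp
    rw [this, Matrix.mul_assoc X, hA', Matrix.mul_one, XX]
  rw [hc1] at hk
  obtain ⟨c, hc⟩ := ker_scalar h hbig hk
  have e1 : D2 U B * X = c • (X * D2 U B) := by
    have := congrArg (fun Y => Y * X * D2 U B) hc
    simp only [Matrix.mul_assoc, Matrix.smul_mul, Matrix.one_mul] at this
    rw [← Matrix.mul_assoc X X, XX, Matrix.one_mul, hG'', Matrix.mul_one] at this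
    exact this
  rw [hX, D2_mul, D2_mul, D2_smul] at e1
  have e2 := congrFun (congrFun (D2_inj e1).1 0) 0
  rw [hU] at e2
  simp [transvection_mul_apply_same, X2, Matrix.mul_apply, transvection, Matrix.single_apply, Matrix.one_apply] at e2

omit hbig

/-- The blocks of determinant one normalise. -/
theorem small : Small M := by
  classical
  haveI : Finite (GL I4 F) := Finite.of_injective _ Units.val_injective
  obtain ⟨P, hP⟩ := exists_subgroup (fun g : GL I4 F => (g : M4).det = 1 ∧ ∃ b, In M (B2 (g : M4) b))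
    ⟨by simp, 1, by rw [Units.val_one, B2_one]; exact in_one⟩
    (by
      rintro x y ⟨hx, b, hb⟩ ⟨hy, b', hb'⟩
      refine ⟨by rw [Units.val_mul, det_mul, hx, hy, one_mul], b * b', ?_⟩
      rw [Units.val_mul, ← B2_mul]
      exact in_mul hb hb')
  rcases four_dich h.prime h.card h.five h.isq P
      (fun g hd hg => (hP g).2 ⟨hd, _, hg.elim fun L hL => h.in_nkron hd hL⟩) with hall | hall
  · refine (big_false h fun g hg => ?_).elim
    exact ((hP (GeneralLinearGroup.mkOfDetNeZero g (by rw [hg]; exact one_ne_zero))).1 (hall _ hg)).2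
  · intro a b hab hd
    obtain ⟨u, rfl⟩ := (isUnit_of_B2 hab).1
    exact hall u ((hP u).2 ⟨hd, b, hab⟩) hd

/-- The setting provides the elements used in the local arguments. -/
theorem core : Core i M where
  two := h.two
  isq := h.isq
  det := h.det
  in_W := h.in_W
  in_G v hv := h.in_act (by
    rw [det_smul, G8_det h.isq h.two hv, Fintype.card_prod, Fintype.card_prod, ZMod.card, inv_pow,
      show (1 + i) ^ (2 * 2 * 2) = 16 by
        rw [pow_mul, show (1 + i) ^ (2 * 2) = -4 by linear_combination ((1 + i) ^ 2 + 2 * i + (4 : F)) * h.isq]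
        norm_num]
    refine inv_mul_cancel₀ ?_
    rw [show (16 : F) = 2 ^ 4 by norm_num]
    exact pow_ne_zero _ h.two) ((dot8.G_act h.isq v).smul _)
  in_lift _ hL := h.in_lift hL
  in_ctl := h.in_ctl
  in_sig A hA σ hσ := by
    rw [show σ = sig from Equiv.ext hσ]
    exact h.in_sig hA
  in_kronG a := h.in_kron (dot4.G_unit h.isq h.two a) (dot4.G_act h.isq a)
  in_kron a _ hab _ hL := h.in_kron (isUnit_of_B2 hab).1 hL
  move4 v w hv hw := by
    obtain ⟨A, L, hd, hA, e⟩ := h.move4 hv hw
    exact ⟨A, L, hd, h.in_nkron hd hA, hA, e⟩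

end Setup

end CfsgLib.EightMax
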