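import Cfsg.Agent.Lib.EightMax.Fusion
import Cfsg.Agent.Lib.ZStar.Main
import Cfsg.Agent.Lib.Coprime.Generation

/-!
In the setting of `Fr` the subgroup is the whole group as soon as some involution moves the vectors by a
transvection.
-/

set_option autoImplicit false
set_option linter.unusedSectionVars false
set_option maxHeartbeats 1000000

namespace CfsgLib.EightMax

variable {G : Type*} [Group G] [Finite G] {V : Type*} [AddCommGroup V] [Finite V]

namespace Fr

variable {s : V → V → ZMod 2} {W : V → G} {N : Subgroup G} (F : Fr s W N)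
include F

/-- The centralizer of an involution acting as a transvection lies in the subgroup. -/
theorem cent_transvection (hV : Nat.card V = 64) {w : G} (hw : w ∈ N) {a : V} (ha : a ≠ 0)
    (hc : Cj W w (tr s a)) {h : G} (hh : h * w = w * h) : h ∈ N := by
  classical
  haveI : Fact (Nat.Prime 2) := ⟨Nat.prime_two⟩
  set H := Subgroup.centralizer ({w} : Set G) with hHdef
  have memH : ∀ x : G, x ∈ H ↔ x * w = w * x := fun x => Subgroup.mem_centralizer_singleton_iff
  have fixW : ∀ v, s v a = 0 → W v ∈ H := fun v hv => (memH _).2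
    ((F.commute_iff hc v).2 (tr_zero hv)).symm
  obtain ⟨z, hz⟩ : ∃ z : H, z = ⟨W a, fixW a (F.form.alt a)⟩ := ⟨_, rfl⟩
  have hzv : (z : G) = W a := by rw [hz]
  have hiso : Cfsg.IsIsolatedInvolution z := by
    refine ⟨?_, fun g hg => ?_⟩
    · rw [← Subgroup.orderOf_coe, hzv]
      exact orderOf_eq_prime (by rw [pow_two, F.sq]) fun e => ha (F.inj a e)
    · have e0 : W a * ((g : G) * W a * (g : G)⁻¹) = (g : G) * W a * (g : G)⁻¹ * W a := by
        have := congrArg Subtype.val hg.eq
        simpa [hzv] using this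
      have hyN : (g : G) * W a * (g : G)⁻¹ ∈ N := F.cent a ha _ (by rw [← e0, mul_inv_cancel_right])
      have hgN : (g : G) ∈ N := F.ctrl hV ha hyN
      obtain ⟨K, hK, -⟩ := F.act _ hgN
      have hKi := F.cj_isom hgN hK
      have hKa : K a = a := by
        have e1 : K ∘ tr s a = tr s a ∘ K := F.cj_uniq (n := (g : G) * w) (hK.mul hc)
          (by rw [(memH _).1 g.2]; exact hc.mul hK)
        refine F.form.ext fun x => ?_
        by_contra hne
        obtain ⟨y, rfl⟩ : ∃ y, x = K y := by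
          have hinj : Function.Injective K := fun u u' e => F.form.ext fun b => by
            rw [← hKi.pres u b, e, hKi.pres]
          exact ⟨_, ((Finite.injective_iff_surjective.1 hinj) x).choose_spec.symm⟩
        have e2 := congrFun e1 y
        simp only [Function.comp_apply] at e2
        rw [hKi.pres] at hne
        rcases z2 (s y a) with e | e <;> rcases z2 (s (K y) a) with e' | e'
        · exact hne (by rw [F.form.symm a y, e, F.form.symm a, e'])
        · rw [tr_zero e, tr_one e'] at e2; exact ha (left_eq_add.1 e2)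
        · rw [tr_one e, tr_zero e', hKi.add] at e2
          exact ha (F.form.ext fun b => by
            rw [← hKi.pres, add_eq_left.1 e2, F.form.zero_left, F.form.zero_left])
        · exact hne (by rw [F.form.symm a y, e, F.form.symm a, e'])
      refine Subtype.ext ?_
      simp only [Subgroup.coe_mul, InvMemClass.coe_inv, hzv]
      rw [hK, hKa]
  have hcore := ZStar.commutatorsInCore_of_isolated hiso ⟨h, (memH h).2 hh⟩
  -- the odd core is generated by centralizers of vectors
  set O := (Cfsg.pPrimeCore 2 H).map H.subtype with hO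
  obtain ⟨b, hb1, hb2⟩ : ∃ b, s b a = 0 ∧ b ≠ 0 ∧ b ≠ a := by
    haveI := Fintype.ofFinite V
    by_contra hall
    push Not at hall
    obtain ⟨u, hu⟩ := F.form.exists_one ha
    have hsub : (Finset.univ : Finset V) ⊆ {0, a, u, u + a} := by
      intro x _
      rcases z2 (s x a) with e | e
      · by_cases hx : x = 0
        · simp [hx]
        · simp [hall x e hx]
      · have e' : s (x + u) a = 0 := by rw [F.form.add_left, e, F.form.symm, hu]; rfl
        by_cases hxu : x + u = 0
        · simp [F.form.eq_of_add_eq_zero hxu]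
        · have := hall _ e' hxu
          simp [show x = u + a by rw [← this, add_comm x, ← add_assoc, F.form.two, zero_add]]
    have := (Finset.card_le_card hsub).trans Finset.card_le_four
    rw [Finset.card_univ, ← Nat.card_eq_fintype_card, hV] at this
    omega
  obtain ⟨A, hA⟩ : ∃ A : Subgroup G, A = F.vecs
      { carrier := {v | v = 0 ∨ v = a ∨ v = b ∨ v = a + b}
        add_mem' := by
          intro x y hx hy
          have q1 : a + (a + b) = b := by rw [← add_assoc, F.form.two, zero_add]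
          have q2 : b + (a + b) = a := by rw [add_comm a b, ← add_assoc, F.form.two, zero_add]
          rcases hx with hx | hx | hx | hx <;> rcases hy with hy | hy | hy | hy <;> rw [hx, hy] <;>
            simp [F.form.two, add_comm b a, add_comm (a + b) a, add_comm (a + b) b, q1, q2]
        zero_mem' := Or.inl rfl
        neg_mem' := by intro x hx; rw [F.form.neg_eq]; exact hx } := ⟨_, rfl⟩
  haveI : IsMulCommutative A := ⟨⟨by
    subst hA
    rintro ⟨_, x, -, rfl⟩ ⟨_, y, -, rfl⟩
    exact Subtype.ext (F.comm x y)⟩⟩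
  have memA : ∀ v, (v = 0 ∨ v = a ∨ v = b ∨ v = a + b) → W v ∈ A := fun v hv => hA ▸ ⟨v, hv, rfl⟩
  have hA2 : ∀ x ∈ A, x ^ 2 = 1 := by
    subst hA
    rintro _ ⟨x, -, rfl⟩
    rw [pow_two, F.sq]
  have hAH : A ≤ H := by
    subst hA
    rintro _ ⟨x, (rfl | rfl | rfl | rfl), rfl⟩ <;> refine fixW _ ?_
    · rw [F.form.zero_left]
    · exact F.form.alt _
    · exact hb1
    · rw [F.form.add_left, F.form.alt, hb1, add_zero]
  haveI := Transfer.pPrimeCore_normal 2 H
  have hAO : A ≤ Subgroup.normalizer (O : Set G) := hAH.trans (by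
    intro x hx
    rw [Subgroup.mem_normalizer_iff]
    have key : ∀ x ∈ H, ∀ y ∈ O, x * y * x⁻¹ ∈ O := by
      rintro x hx _ ⟨y, hy, rfl⟩
      exact ⟨_, Subgroup.Normal.conj_mem (H := Cfsg.pPrimeCore 2 H) inferInstance y hy ⟨x, hx⟩, rfl⟩
    refine fun y => ⟨key x hx y, fun hy => ?_⟩
    have := key x⁻¹ (inv_mem hx) _ hy
    rwa [show x⁻¹ * (x * y * x⁻¹) * x⁻¹⁻¹ = y by group] at this)
  have hA4 : 2 < Nat.card A := by
    have h3 : ({(⟨W 0, memA 0 (Or.inl rfl)⟩ : A), ⟨W a, memA a (Or.inr (Or.inl rfl))⟩,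
        ⟨W b, memA b (Or.inr (Or.inr (Or.inl rfl)))⟩} : Finset A).card = 3 := by
      rw [Finset.card_insert_of_notMem, Finset.card_pair]
      · exact fun e => hb2.2 (F.inj' (congrArg Subtype.val e)).symm
      · simp only [Finset.mem_insert, Finset.mem_singleton, Subtype.mk.injEq]
        rintro (e | e)
        · exact ha (F.inj' e).symm
        · exact hb2.1 (F.inj' e).symm
    haveI := Fintype.ofFinite A
    have := Finset.card_le_univ ({(⟨W 0, memA 0 (Or.inl rfl)⟩ : A), ⟨W a, memA a (Or.inr (Or.inl rfl))⟩,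
        ⟨W b, memA b (Or.inr (Or.inr (Or.inl rfl)))⟩} : Finset A)
    rw [h3, ← Nat.card_eq_fintype_card] at this
    omega
  have hON : O ≤ N := by
    refine Coprime.le_of_centralizer_le (Coprime.not_isCyclic_of_exponent hA2 two_pos hA4) hAO ?_ ?_
    · have h2 : IsPGroup 2 A := fun x => ⟨1, Subtype.ext (by simpa using hA2 x x.2)⟩
      obtain ⟨k, hk⟩ := IsPGroup.iff_card.1 h2
      rw [hk, hO, Subgroup.card_map_of_injective H.subtype_injective]
      exact Nat.Coprime.pow_left k (Nat.coprime_two_left.2 ZStar.odd_card_core)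
    · subst hA
      rintro _ ⟨v, hv, rfl⟩ hv1 x ⟨-, hx⟩
      refine F.cent v (fun e => hv1 (by rw [e, F.zero])) x ?_
      have := Subgroup.mem_centralizer_singleton_iff.1 hx
      rw [this, mul_inv_cancel_right]
  have hmem : W a * h * (W a)⁻¹ * h⁻¹ ∈ N := hON ⟨_, hcore, by simp [hzv]⟩
  refine F.ctrl hV ha ?_
  rw [show h * W a * h⁻¹ = (W a * h * (W a)⁻¹ * h⁻¹)⁻¹ * W a by group]
  exact mul_mem (inv_mem hmem) (F.memN a)

/-- The subgroup is everything. -/
theorem eq_top (hV : Nat.card V = 64) {κ : G} (hκ : κ ∈ N) (hκ2 : κ * κ = 1) {a : V} (ha : a ≠ 0)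
    (hc : Cj W κ (tr s a)) (g : G) : g ∈ N := by
  classical
  -- conjugates of `κ` in the subgroup
  have ctrlκ : ∀ x : G, x * κ * x⁻¹ ∈ N → x ∈ N := by
    intro x hx
    obtain ⟨L, hL, -⟩ := F.act _ hx
    have hLi := F.cj_isom hx hL
    have y2 : x * κ * x⁻¹ * (x * κ * x⁻¹) = 1 := by
      rw [show x * κ * x⁻¹ * (x * κ * x⁻¹) = x * (κ * κ) * x⁻¹ by group, hκ2, mul_one, mul_inv_cancel]
    obtain ⟨v, hv, hLv⟩ : ∃ v, v ≠ 0 ∧ L v = v := by
      obtain ⟨u, hu⟩ := F.form.exists_one ha
      have hu0 : u ≠ 0 := fun e => by rw [e, F.form.zero_right] at hu; exact absurd hu (by decide)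
      by_cases e : L u = u
      · exact ⟨u, hu0, e⟩
      · exact ⟨L u + u, fun e0 => e (F.form.eq_of_add_eq_zero e0), by rw [hLi.add, F.cj_invol y2 hL, add_comm]⟩
    have e1 := (F.commute_iff hL v).2 hLv
    have hmemN : x⁻¹ * W v * x ∈ N := by
      refine F.cent_transvection hV hκ ha hc ?_
      calc x⁻¹ * W v * x * κ = x⁻¹ * (W v * (x * κ * x⁻¹)) * x := by group
        _ = x⁻¹ * (x * κ * x⁻¹ * W v) * x := by rw [e1]
        _ = κ * (x⁻¹ * W v * x) := by group
    have := F.ctrl hV (g := x⁻¹) hv (by rwa [inv_inv])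
    simpa using inv_mem this
  refine ctrlκ g ?_
  obtain ⟨y, hy⟩ : ∃ y, y = g * κ * g⁻¹ := ⟨_, rfl⟩
  rw [← hy]
  have y2 : y * y = 1 := by
    rw [hy, show g * κ * g⁻¹ * (g * κ * g⁻¹) = g * (κ * κ) * g⁻¹ by group, hκ2, mul_one, mul_inv_cancel]
  obtain ⟨v₀, hv₀⟩ : ∃ v₀, v₀ = a := ⟨_, rfl⟩
  have h0 : v₀ ≠ 0 := hv₀ ▸ ha
  obtain ⟨u, hu⟩ : ∃ u, u = W v₀ * y := ⟨_, rfl⟩
  have hxu : W v₀ * u = y := by rw [hu, ← mul_assoc, F.sq, one_mul]
  have huinv : W v₀ * u * W v₀ = u⁻¹ := by
    rw [hxu, hu, _root_.mul_inv_rev, F.inv, inv_eq_of_mul_eq_one_right y2]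
  have hpow : ∀ j : ℕ, W v₀ * u ^ j * W v₀ = (u ^ j)⁻¹ := by
    intro j
    rw [← inv_pow, ← huinv]
    conv_rhs => rw [show W v₀ * u * W v₀ = W v₀ * u * (W v₀)⁻¹ by rw [F.inv], conj_pow, F.inv]
  have huy : ∀ j : ℕ, y * u ^ j * y = (u ^ j)⁻¹ := by
    intro j
    have e : y * u * y = u⁻¹ := by
      rw [hu, _root_.mul_inv_rev, F.inv, inv_eq_of_mul_eq_one_right y2]
      rw [show y * (W v₀ * y) * y = y * W v₀ * (y * y) by group, y2, mul_one]
    rw [← inv_pow, ← e, show y * u * y = y * u * y⁻¹ by rw [inv_eq_of_mul_eq_one_right y2], conj_pow,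
      inv_eq_of_mul_eq_one_right y2]
  rcases Nat.even_or_odd (orderOf u) with ⟨k, hk⟩ | ⟨k, hk⟩
  · have hk0 : 0 < k := by have := orderOf_pos u; omega
    obtain ⟨w, hw⟩ : ∃ w, w = u ^ k := ⟨_, rfl⟩
    have w2 : w * w = 1 := by rw [hw, ← pow_add, ← hk, pow_orderOf_eq_one]
    have winv : w⁻¹ = w := inv_eq_of_mul_eq_one_right w2
    have w1 : w ≠ 1 := fun e => by
      have := orderOf_le_of_pow_eq_one hk0 (hw ▸ e)
      omega
    have wx : W v₀ * w = w * W v₀ := by
      have := hpow k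
      rw [← hw, winv] at this
      calc W v₀ * w = W v₀ * w * W v₀ * W v₀ := by rw [mul_assoc _ _ (W v₀), F.sq, mul_one]
        _ = w * W v₀ := by rw [this]
    have wy : y * w = w * y := by
      have := huy k
      rw [← hw, winv] at this
      calc y * w = y * w * y * y := by rw [mul_assoc _ y y, y2, mul_one]
        _ = w * y := by rw [this]
    have hwN : w ∈ N := F.cent v₀ h0 w (by rw [← wx, mul_inv_cancel_right])
    have hcj : ∀ j : ℕ, (u ^ j)⁻¹ * W v₀ * u ^ j = W v₀ * u ^ (j + j) := fun j => by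
      rw [← hpow, mul_assoc (W v₀ * u ^ j), F.sq, mul_one, mul_assoc, ← pow_add]
    rcases Nat.even_or_odd k with ⟨j, hj⟩ | ⟨j, hj⟩
    · -- conjugate to the vector
      have hmem : (u ^ j)⁻¹ * W v₀ * (u ^ j)⁻¹⁻¹ ∈ N := by
        rw [inv_inv, hcj, ← hj, ← hw]
        exact mul_mem (F.memN _) hwN
      obtain ⟨v', hv'⟩ := F.weak hV hmem
      rw [inv_inv, hcj, ← hj, ← hw] at hv'
      have e : w = W (v₀ + v') := by rw [F.hom, ← hv', ← mul_assoc, F.sq, one_mul]
      refine F.cent (v₀ + v') (fun e0 => w1 (by rw [e, e0, F.zero])) y ?_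
      rw [← e, wy, mul_inv_cancel_right]
    · -- conjugate to `y`
      have e : W v₀ * w = (u ^ j)⁻¹ * y * u ^ j := by
        calc W v₀ * w = W v₀ * (u ^ j * u * u ^ j) := by
              rw [hw, hj, ← pow_succ, ← pow_add]; congr 2; omega
          _ = (W v₀ * u ^ j * W v₀) * (W v₀ * u) * u ^ j := by
              rw [show W v₀ * u ^ j * W v₀ * (W v₀ * u) = W v₀ * u ^ j * (W v₀ * W v₀) * u by group, F.sq, mul_one]
              group
          _ = _ := by rw [hpow, hxu]
      obtain ⟨hh, hhh⟩ : ∃ hh, hh = (u ^ j)⁻¹ * g := ⟨_, rfl⟩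
      have e' : W v₀ * w = hh * κ * hh⁻¹ := by rw [e, hy, hhh]; group
      have hhN : hh ∈ N := ctrlκ hh (e' ▸ mul_mem (F.memN _) hwN)
      obtain ⟨L, hL, -⟩ := F.act hh hhN
      obtain ⟨K, hK, -⟩ := F.act hh⁻¹ (inv_mem hhN)
      have hLi := F.cj_isom hhN hL
      have hLK : ∀ x, L (K x) = x := fun x =>
        congrFun (F.cj_uniq (hL.mul hK) (show Cj W (hh * hh⁻¹) id by rw [mul_inv_cancel]; exact cj_one W)) x
      have hwc : Cj W w (tr s (L a)) := by
        intro x
        have e2 : w = W v₀ * (hh * κ * hh⁻¹) := by rw [← e', ← mul_assoc, F.sq, one_mul]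
        rw [e2, ((F.cj_W v₀).mul ((hL.mul hc).mul hK)) x]
        simp only [Function.comp_apply, id]
        congr 1
        rcases z2 (s (K x) a) with q | q
        · rw [tr_zero q, hLK, tr_zero (by rw [← hLK x, hLi.pres, q])]
        · rw [tr_one q, hLi.add, hLK, tr_one (by rw [← hLK x, hLi.pres, q])]
      exact F.cent_transvection hV hwN (fun e0 => ha (F.form.ext fun b => by
        rw [← hLi.pres, e0, F.form.zero_left, F.form.zero_left])) hwc wy
  · -- conjugate to the vector: impossible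
    exfalso
    have e : W v₀ = u ^ (k + 1) * y * (u ^ (k + 1))⁻¹ := by
      rw [← huy, show u ^ (k + 1) * y * (y * u ^ (k + 1) * y) = u ^ (k + 1) * (y * y) * u ^ (k + 1) * y by group,
        y2, mul_one, ← pow_add, show k + 1 + (k + 1) = orderOf u + 1 by omega, pow_succ, pow_orderOf_eq_one,
        one_mul, hu, mul_assoc, y2, mul_one]
    obtain ⟨hh, hhh⟩ : ∃ hh, hh = u ^ (k + 1) * g := ⟨_, rfl⟩
    have e' : W v₀ = hh * κ * hh⁻¹ := by rw [e, hy, hhh]; group
    have hhN : hh ∈ N := ctrlκ hh (e' ▸ F.memN _)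
    obtain ⟨K, hK, -⟩ := F.act _ (inv_mem hhN)
    have : κ = W (K v₀) := by rw [← hK, e']; group
    obtain ⟨b, hb⟩ := F.form.exists_one ha
    have h2 : tr s a b = b := congrFun (F.cj_uniq hc (this ▸ F.cj_W _)) b
    rw [F.form.symm] at hb
    rw [tr_one hb] at h2
    exact ha (add_eq_left.1 h2)

end Fr

end CfsgLib.EightMax
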