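import Mathlib

/-!
Symplectic forms on elementary abelian two-groups: transvections, generation by them, and some counting.
-/

set_option autoImplicit false
set_option linter.unusedSectionVars false

namespace CfsgLib.EightMax

variable {V : Type*} [AddCommGroup V] {s : V → V → ZMod 2}

theorem z2 : ∀ z : ZMod 2, z = 0 ∨ z = 1 := by decide

/-- A non-degenerate alternating form on a group of exponent two. -/
structure Sform (s : V → V → ZMod 2) : Prop where
  two : ∀ v : V, v + v = 0
  add_left : ∀ a b c, s (a + b) c = s a c + s b c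
  symm : ∀ a b, s a b = s b a
  alt : ∀ a, s a a = 0
  nondeg : ∀ a, (∀ b, s a b = 0) → a = 0

/-- The transvection at `a`. -/
def tr (s : V → V → ZMod 2) (a x : V) : V := if s x a = 1 then x + a else x

theorem tr_one {a x : V} (h : s x a = 1) : tr s a x = x + a := if_pos h

theorem tr_zero {a x : V} (h : s x a = 0) : tr s a x = x := if_neg (by rw [h]; decide)

/-- An additive isometry. -/
structure Isom (s : V → V → ZMod 2) (L : V → V) : Prop where
  add : ∀ a b, L (a + b) = L a + L b
  pres : ∀ a b, s (L a) (L b) = s a b

theorem Isom.comp {L K : V → V} (h : Isom s L) (h' : Isom s K) : Isom s (L ∘ K) :=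
  ⟨fun a b => by simp [h'.add, h.add], fun a b => by simp [h.pres, h'.pres]⟩

theorem isom_id : Isom s (id : V → V) := ⟨fun _ _ => rfl, fun _ _ => rfl⟩

namespace Sform

variable (h : Sform s)
include h

theorem add_right (a b c : V) : s a (b + c) = s a b + s a c := by
  rw [h.symm, h.add_left, h.symm b, h.symm c]

theorem zero_left (a : V) : s 0 a = 0 := by
  have := h.add_left 0 0 a
  rw [add_zero] at this
  exact left_eq_add.1 this

theorem zero_right (a : V) : s a 0 = 0 := by rw [h.symm, h.zero_left]

theorem neg_eq (a : V) : -a = a := neg_eq_of_add_eq_zero_left (h.two a)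

theorem add_add_cancel (a b : V) : a + b + b = a := by rw [add_assoc, h.two, add_zero]

theorem eq_of_add_eq_zero {a b : V} (e : a + b = 0) : a = b := by
  rw [← h.add_add_cancel a b, e, zero_add]

theorem ext {a c : V} (e : ∀ b, s a b = s c b) : a = c :=
  h.eq_of_add_eq_zero (h.nondeg _ fun b => by rw [h.add_left, e, CharTwo.add_self_eq_zero])

theorem exists_one {a : V} (ha : a ≠ 0) : ∃ b, s a b = 1 := by
  by_contra hall
  push Not at hall
  exact ha (h.nondeg a fun b => (z2 _).resolve_right (hall b))

theorem exists_one_one {a b : V} (ha : a ≠ 0) (hb : b ≠ 0) : ∃ w, s a w = 1 ∧ s b w = 1 := by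
  obtain ⟨u, hu⟩ := h.exists_one ha
  obtain ⟨v, hv⟩ := h.exists_one hb
  rcases z2 (s b u) with e | e
  · rcases z2 (s a v) with e' | e'
    · exact ⟨u + v, by rw [h.add_right, hu, e', add_zero], by rw [h.add_right, e, hv, zero_add]⟩
    · exact ⟨v, e', hv⟩
  · exact ⟨u, hu, e⟩

theorem tr_isom (a : V) : Isom s (tr s a) := by
  constructor
  · intro x y
    rcases z2 (s x a) with ex | ex <;> rcases z2 (s y a) with ey | ey
    · rw [tr_zero (x := x + y) (by rw [h.add_left, ex, ey]; rfl), tr_zero ex, tr_zero ey]
    · rw [tr_one (x := x + y) (by rw [h.add_left, ex, ey]; rfl), tr_zero ex, tr_one ey, add_assoc]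
    · rw [tr_one (x := x + y) (by rw [h.add_left, ex, ey]; rfl), tr_one ex, tr_zero ey]; abel
    · rw [tr_zero (x := x + y) (by rw [h.add_left, ex, ey]; rfl), tr_one ex, tr_one ey, add_add_add_comm,
        h.two, add_zero]
  · intro x y
    have e : ∀ z, s a z = s z a := h.symm a
    rcases z2 (s x a) with ex | ex <;> rcases z2 (s y a) with ey | ey
    · rw [tr_zero ex, tr_zero ey]
    · rw [tr_zero ex, tr_one ey, h.add_right, ex, add_zero]
    · rw [tr_one ex, tr_zero ey, h.add_left, e, ey, add_zero]
    · rw [tr_one ex, tr_one ey, h.add_left, h.add_right, h.add_right, ex, e, ey, h.alt]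
      rcases z2 (s x y) with e' | e' <;> rw [e'] <;> rfl

theorem tr_tr (a x : V) : tr s a (tr s a x) = x := by
  rcases z2 (s x a) with e | e
  · rw [tr_zero e, tr_zero e]
  · rw [tr_one e, tr_one (by rw [h.add_left, e, h.alt, add_zero]), h.add_add_cancel]

theorem tr_self (a : V) : tr s a a = a := tr_zero (h.alt a)

/-- Mapping one vector to another by a transvection. -/
theorem tr_move {u v : V} (e : s u v = 1) : tr s (u + v) u = v := by
  rw [tr_one (by rw [h.add_right, h.alt, e, zero_add]), ← add_assoc, h.two, zero_add]

theorem diag_add {L : V → V} (hL : Isom s L) (hinv : ∀ x, L (L x) = x) (x y : V) :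
    s (x + y) (L (x + y)) = s x (L x) + s y (L y) := by
  rw [hL.add, h.add_left, h.add_right, h.add_right, show s y (L x) = s x (L y) by
    rw [← hL.pres y, hinv, h.symm]]
  rcases z2 (s x (L y)) with e | e <;> rw [e]
  · simp
  · rw [add_assoc, ← add_assoc 1 1, show (1 : ZMod 2) + 1 = 0 from rfl, zero_add]

/-- Induction along transvections. -/
theorem isom_induction [Finite V] (P : (V → V) → Prop) (h1 : P id)
    (hstep : ∀ a L, P L → P (tr s a ∘ L)) : ∀ L, Isom s L → P L := by
  classical
  haveI := Fintype.ofFinite V
  suffices key : ∀ n L, Isom s L → (Finset.univ.filter fun x => L x ≠ x).card ≤ n → P L from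
    fun L hL => key _ L hL le_rfl
  intro n
  induction n with
  | zero =>
    intro L hL hc
    have : L = id := funext fun x => by
      by_contra hx
      have : 0 < (Finset.univ.filter fun x => L x ≠ x).card :=
        Finset.card_pos.2 ⟨x, Finset.mem_filter.2 ⟨Finset.mem_univ _, hx⟩⟩
      omega
    exact this ▸ h1
  | succ n ih =>
    intro L hL hc
    -- a vector sent to a non-orthogonal one
    have grow : ∀ K : V → V, Isom s K → (∀ x, L x = x → K x = x) → (∃ v, s (K v) v = 1) → P K := by
      rintro K hK hfix ⟨v, hv⟩
      obtain ⟨a, ha⟩ : ∃ a, a = K v + v := ⟨_, rfl⟩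
      have hav : (tr s a ∘ K) v = v := by
        show tr s a (K v) = v
        rw [ha, h.tr_move hv]
      have hK' : P (tr s a ∘ K) := by
        refine ih _ ((h.tr_isom a).comp hK) ?_
        have hlt : (Finset.univ.filter fun x => (tr s a ∘ K) x ≠ x) ⊂ (Finset.univ.filter fun x => L x ≠ x) := by
          refine (Finset.ssubset_iff_of_subset fun x hx => ?_).2 ⟨v, ?_, ?_⟩
          · simp only [Finset.mem_filter, Finset.mem_univ, true_and] at hx ⊢
            intro e
            refine hx ?_
            show tr s a (K x) = x
            rw [hfix x e, tr_zero]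
            rw [ha, h.add_right, ← hfix x e, hK.pres, hfix x e, CharTwo.add_self_eq_zero]
          · simp only [Finset.mem_filter, Finset.mem_univ, true_and]
            intro e
            rw [hfix v e, h.alt] at hv
            exact absurd hv (by decide)
          · simp only [Finset.mem_filter, Finset.mem_univ, true_and, not_not]
            exact hav
        have := Finset.card_lt_card hlt
        omega
      have := hstep a _ hK'
      rwa [show tr s a ∘ (tr s a ∘ K) = K from funext fun x => h.tr_tr a (K x)] at this
    by_cases hex : ∃ v, s (L v) v = 1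
    · exact grow L hL (fun _ e => e) hex
    by_cases hid : L = id
    · exact hid ▸ h1
    push Not at hex
    have hex' : ∀ x, s (L x) x = 0 := fun x => (z2 _).resolve_right (hex x)
    have hsym : ∀ x u, s (L x) u = s x (L u) := fun x u => by
      have e := hex' (x + u)
      rw [hL.add, h.add_left, h.add_right, h.add_right, hex', hex', zero_add, add_zero] at e
      rw [h.symm x, CharTwo.add_eq_zero.1 e]
    obtain ⟨u, hu⟩ : ∃ u, L u ≠ u := by
      by_contra hall
      push Not at hall
      exact hid (funext hall)
    obtain ⟨a, ha⟩ : ∃ a, a = L u + u := ⟨_, rfl⟩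
    obtain ⟨x, hx⟩ := h.exists_one (a := a) fun e => hu (h.eq_of_add_eq_zero (ha ▸ e))
    have hK : P (tr s a ∘ L) := grow _ ((h.tr_isom a).comp hL) (fun y e => by
        show tr s a (L y) = y
        rw [e, tr_zero]
        rw [ha, h.add_right, ← hsym, e, CharTwo.add_self_eq_zero]) ⟨x, by
        show s (tr s a (L x)) x = 1
        have e1 : s (L x) a = 1 := by
          rw [← hx, ha, h.symm (L u + u), h.add_right, h.add_right, hL.pres, hsym, add_comm]
        rw [tr_one e1, h.add_left, hex', hx, zero_add]⟩
    have := hstep a _ hK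
    rwa [show tr s a ∘ (tr s a ∘ L) = L from funext fun x => h.tr_tr a (L x)] at this

end Sform

end CfsgLib.EightMax
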