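import Cfsg.Agent.Lib.EightMax.Qubits
import Cfsg.Agent.Lib.Classical.SLFour.SympFour.Main
import Cfsg.Agent.Lib.Classical.Transvection

/-!
The dichotomy on two qubits, and normal subgroups of special linear groups.
-/

set_option autoImplicit false
set_option linter.unusedSectionVars false
set_option maxHeartbeats 1000000

namespace CfsgLib.EightMax

open Matrix
open scoped MatrixGroups commutatorElement

variable {F : Type*} [Field F]

local notation "M4" => Matrix I4 I4 F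

/-- A normal subgroup of a special linear group with a non-scalar element is everything. -/
theorem normal_eq_top {ι : Type} [Fintype ι] [DecidableEq ι] [Nontrivial ι]
    (h : 3 ≤ Fintype.card ι ∨ ∃ x : F, x ≠ 0 ∧ x ^ 2 ≠ 1) (K : Subgroup (SpecialLinearGroup ι F)) [K.Normal]
    {g : SpecialLinearGroup ι F} (hg : g ∈ K) (hns : ¬ ∃ c : F, (g : Matrix ι ι F) = c • 1) : K = ⊤ := by
  haveI := CfsgLib.Classical.isSimpleGroup_PSL (F := F) (ι := ι) h
  set π := QuotientGroup.mk' (Subgroup.center (SpecialLinearGroup ι F)) with hπ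
  have hsurj : Function.Surjective π := QuotientGroup.mk'_surjective _
  haveI : (K.map π).Normal := Subgroup.Normal.map inferInstance π hsurj
  have hne : K.map π ≠ ⊥ := by
    intro e
    have hc : g ∈ Subgroup.center (SpecialLinearGroup ι F) := by
      have : π g ∈ K.map π := Subgroup.mem_map_of_mem _ hg
      rw [e, Subgroup.mem_bot, hπ, QuotientGroup.mk'_apply, QuotientGroup.eq_one_iff] at this
      exact this
    rw [Matrix.SpecialLinearGroup.mem_center_iff] at hc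
    obtain ⟨r, -, hr⟩ := hc
    exact hns ⟨r, by rw [← hr, Matrix.smul_one_eq_diagonal]; rfl⟩
  have htop : K.map π = ⊤ :=
    ((IsSimpleGroup.eq_bot_or_eq_top_of_normal _ (inferInstance : (K.map π).Normal))).resolve_left hne
  refine eq_top_iff.2 ((CfsgLib.Classical.commutator_SL_eq_top (F := F) (ι := ι) h).ge.trans ?_)
  rw [commutator_def, Subgroup.commutator_le]
  intro a _ b _
  obtain ⟨x, hx, ex⟩ : π a ∈ K.map π := htop ▸ Subgroup.mem_top _
  rw [hπ, QuotientGroup.mk'_apply, QuotientGroup.mk'_apply, QuotientGroup.eq] at ex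
  obtain ⟨z, hz, rfl⟩ : ∃ z ∈ Subgroup.center (SpecialLinearGroup ι F), a = x * z :=
    ⟨x⁻¹ * a, ex, by rw [mul_inv_cancel_left]⟩
  rw [show ⁅x * z, b⁆ = x * (z * b * z⁻¹) * x⁻¹ * b⁻¹ by rw [commutatorElement_def]; group,
    (Subgroup.mem_center_iff.1 hz b).symm, mul_inv_cancel_right,
    show x * b * x⁻¹ * b⁻¹ = x * (b * x⁻¹ * b⁻¹) by group]
  exact mul_mem hx (Subgroup.Normal.conj_mem inferInstance _ (inv_mem hx) b)

/-- The indices of two qubits as four points. -/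
def e4 : I4 ≃ Fin 4 where
  toFun r := if r.1 = 0 then (if r.2 = 0 then 0 else 1) else (if r.2 = 0 then 2 else 3)
  invFun := ![(0, 0), (0, 1), (1, 0), (1, 1)]
  left_inv := by decide
  right_inv := by decide

section std

open CfsgLib.Classical.SLFour.SympFour (std A0 B0 C0 D0)

theorem std_gen (i : F) :
    A0 F = (W F d4 ((0, 0), (0, 1))).submatrix e4.symm e4.symm ∧
    B0 F = (W F d4 ((0, 1), (0, 0))).submatrix e4.symm e4.symm ∧
    C0 i = i • (W F d4 ((0, 0), (1, 0))).submatrix e4.symm e4.symm ∧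
    D0 F = (W F d4 ((1, 0), (1, 0))).submatrix e4.symm e4.symm := by
  refine ⟨?_, ?_, ?_, ?_⟩ <;>
    (ext r c; simp only [Matrix.smul_apply, Matrix.submatrix_apply]; fin_cases r <;> fin_cases c <;> simp [A0, B0, C0, D0, W_apply, e4, d4, sg2_zero, sg2_one,
      Prod.ext_iff, show (1 : ZMod 2) + 1 = 0 from rfl])

theorem std_M {i : F} (hi : i * i = -1) (v : Pauli.V) :
    ∃ (c : F) (w : I4 × I4), c ^ 4 = 1 ∧
      (std i hi).M v = c • (W F d4 w).submatrix e4.symm e4.symm := by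
  obtain ⟨hA, hB, hC, hD⟩ := std_gen i
  have h4 : i ^ 4 = 1 := by linear_combination (i * i - 1) * hi
  have hsg : ∀ x : ZMod 2, sg2 F x ^ 4 = 1 := fun x => by
    rw [show sg2 F x ^ 4 = (sg2 F x * sg2 F x) ^ 2 by ring, sg2_self, one_pow]
  let P : Matrix (Fin 4) (Fin 4) F → Prop := fun X =>
    ∃ (c : F) (w : I4 × I4), c ^ 4 = 1 ∧ X = c • (W F d4 w).submatrix e4.symm e4.symm
  have hone : P 1 := ⟨1, 0, one_pow 4, by rw [dot4.W_zero, one_smul, Matrix.submatrix_one_equiv]⟩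
  have hmul : ∀ {X Y}, P X → P Y → P (X * Y) := by
    rintro X Y ⟨a, v, ha, rfl⟩ ⟨b, w, hb, rfl⟩
    refine ⟨a * b * sg2 F (d4 v.2 w.1), v + w, by rw [mul_pow, mul_pow, ha, hb, hsg, one_mul, one_mul], ?_⟩
    rw [Matrix.smul_mul, Matrix.mul_smul, Matrix.submatrix_mul_equiv, dot4.W_mul, Matrix.submatrix_smul,
      Pi.smul_apply, Pi.smul_apply, smul_smul, smul_smul, mul_assoc]
  have hpow : ∀ {X} (n : ℕ), P X → P (X ^ n) := by
    intro X n hX
    induction n with
    | zero => rw [pow_zero]; exact hone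
    | succ n ih => rw [pow_succ]; exact hmul ih hX
  show P _
  rw [Pauli.Frame.M]
  exact hmul (hmul (hpow _ ⟨1, _, one_pow 4, by rw [one_smul]; exact hA⟩)
      (hpow _ ⟨1, _, one_pow 4, by rw [one_smul]; exact hB⟩))
    (hmul (hpow _ ⟨i, _, h4, hC⟩) (hpow _ ⟨1, _, one_pow 4, by rw [one_smul]; exact hD⟩))

theorem M_std {i : F} (hi : i * i = -1) (w : I4 × I4) :
    ∃ (v : Pauli.V) (u : F), (W F d4 w).submatrix e4.symm e4.symm = u • (std i hi).M v := by
  obtain ⟨hA, hB, hC, hD⟩ := std_gen i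
  let P : Matrix (Fin 4) (Fin 4) F → Prop := fun X => ∃ (v : Pauli.V) (u : F), X = u • (std i hi).M v
  have hmul : ∀ {X Y}, P X → P Y → P (X * Y) := by
    rintro X Y ⟨v, a, rfl⟩ ⟨v', b, rfl⟩
    exact ⟨v + v', a * b * CfsgLib.Pauli.sg F (Pauli.cyc v v'), by
      rw [Matrix.smul_mul, Matrix.mul_smul, Pauli.Frame.M_mul, smul_smul, smul_smul, mul_assoc]⟩
  have hsmul : ∀ (k : F) {X}, P X → P (k • X) := by
    rintro k X ⟨v, a, rfl⟩
    exact ⟨v, k * a, by rw [smul_smul]⟩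
  have hi0 : i ≠ 0 := fun e => by rw [e] at hi; simp at hi
  have gA : P ((W F d4 (((0, 0), (0, 1)) : I4 × I4)).submatrix e4.symm e4.symm) :=
    ⟨_, 1, by rw [one_smul, ← hA, ← (std i hi).a_eq]; rfl⟩
  have gB : P ((W F d4 (((0, 1), (0, 0)) : I4 × I4)).submatrix e4.symm e4.symm) :=
    ⟨_, 1, by rw [one_smul, ← hB, ← (std i hi).b_eq]; rfl⟩
  have gC : P ((W F d4 (((0, 0), (1, 0)) : I4 × I4)).submatrix e4.symm e4.symm) :=
    ⟨(0, 0, 1, 0), i⁻¹, by rw [← (std i hi).c_eq, show (std i hi).c = C0 i from rfl, hC, inv_smul_smul₀ hi0]⟩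
  have gD : P ((W F d4 (((1, 0), (1, 0)) : I4 × I4)).submatrix e4.symm e4.symm) :=
    ⟨_, 1, by rw [one_smul, ← hD, ← (std i hi).d_eq]; rfl⟩
  have g1 : P ((W F d4 (0 : I4 × I4)).submatrix e4.symm e4.symm) :=
    ⟨0, 1, by rw [one_smul, Pauli.Frame.M_zero, dot4.W_zero, Matrix.submatrix_one_equiv]⟩
  have gadd : ∀ v v' : I4 × I4, P ((W F d4 v).submatrix e4.symm e4.symm) →
      P ((W F d4 v').submatrix e4.symm e4.symm) → P ((W F d4 (v + v')).submatrix e4.symm e4.symm) := by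
    intro v v' h h'
    have e : (W F d4 (v + v')).submatrix e4.symm e4.symm = sg2 F (d4 v.2 v'.1) •
        ((W F d4 v).submatrix e4.symm e4.symm * (W F d4 v').submatrix e4.symm e4.symm) := by
      rw [Matrix.submatrix_mul_equiv, dot4.W_mul, Matrix.submatrix_smul, Pi.smul_apply, Pi.smul_apply, smul_smul,
        sg2_self, one_smul]
    rw [e]
    exact hsmul _ (hmul h h')
  have hdec : ∀ w : I4 × I4, w = (if w.1.1 = 0 then 0 else ((1, 0), (1, 0))) + (if w.1.2 = 0 then 0 else ((0, 1), (0, 0))) +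
      ((if w.2.2 = 0 then 0 else ((0, 0), (0, 1))) + (if w.1.1 + w.2.1 = 0 then 0 else ((0, 0), (1, 0)))) := by decide
  show P _
  rw [hdec w]
  refine gadd _ _ (gadd _ _ ?_ ?_) (gadd _ _ ?_ ?_) <;> split_ifs <;> assumption

/-- A group containing the normaliser on two qubits is everything or consists of normalising matrices. -/
theorem four_dich [Fintype F] {p : ℕ} (hp : p.Prime) (hcard : Fintype.card F = p) (hp5 : 5 ≤ p) {i : F}
    (hi : i * i = -1) (P : Subgroup (GL I4 F))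
    (hP : ∀ g : GL I4 F, (g : M4).det = 1 → (∃ L, Act d4 (g : M4) L) → g ∈ P) :
    (∀ g : GL I4 F, (g : M4).det = 1 → g ∈ P) ∨
      ∀ g ∈ P, (g : M4).det = 1 → ∃ L, Act d4 (g : M4) L := by
  classical
  haveI : Fact p.Prime := ⟨hp⟩
  haveI : CharP F p := charP_of_card_eq_prime hcard
  haveI : Finite (GL I4 F) := Finite.of_injective _ Units.val_injective
  have hne : ∀ k : ℕ, 0 < k → k < 5 → ((k : ℕ) : F) ≠ 0 := fun k h0 h5 e => by
    have := Nat.le_of_dvd h0 ((CharP.cast_eq_zero_iff F p k).1 e)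
    omega
  have h2 : (2 : F) ≠ 0 := by exact_mod_cast hne 2 (by norm_num) (by norm_num)
  have h3 : (3 : F) ≠ 0 := by exact_mod_cast hne 3 (by norm_num) (by norm_num)
  obtain ⟨φ, hφ⟩ : ∃ φ : GL I4 F ≃* GL (Fin 4) F, ∀ g, (φ g : Matrix (Fin 4) (Fin 4) F) =
      (g : M4).submatrix e4.symm e4.symm :=
    ⟨Units.mapEquiv (Matrix.reindexAlgEquiv F F e4).toMulEquiv, fun g => rfl⟩
  obtain ⟨R, hR⟩ : ∃ R : Subgroup (GL (Fin 4) F), R = (dot4.grp (F := F)).map φ.toMonoidHom := ⟨_, rfl⟩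
  have memR : ∀ X : Matrix (Fin 4) (Fin 4) F, (∃ (c : F) (w : I4 × I4), c ^ 4 = 1 ∧
      X = c • (W F d4 w).submatrix e4.symm e4.symm) → X ∈ Cfsg.Geo.matrixSet R := by
    rintro X ⟨c, w, hc, rfl⟩
    have hc0 : c ≠ 0 := fun e => by rw [e] at hc; simp at hc
    obtain ⟨g, hg⟩ : ∃ g : GL I4 F, (g : M4) = c • W F d4 w :=
      ⟨GeneralLinearGroup.mkOfDetNeZero (c • W F d4 w)
        (by rw [det_smul]; exact mul_ne_zero (pow_ne_zero _ hc0) (dot4.det_ne w)), rfl⟩
    refine ⟨φ g, ?_, ?_⟩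
    · rw [hR]; exact ⟨g, ⟨c, w, hc, hg⟩, rfl⟩
    · show (φ g : Matrix (Fin 4) (Fin 4) F) = _
      rw [hφ, hg, Matrix.submatrix_smul]
      rfl
  have h4 : i ^ 4 = 1 := by linear_combination (i * i - 1) * hi
  have hS : Pauli.Spans (std i hi) R := by
    refine ⟨?_, ?_, ?_, ?_, ?_⟩
    · exact memR _ ⟨1, _, one_pow 4, by rw [one_smul]; exact (std_gen i).1⟩
    · exact memR _ ⟨1, _, one_pow 4, by rw [one_smul]; exact (std_gen i).2.1⟩
    · exact memR _ ⟨i, _, h4, (std_gen i).2.2.1⟩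
    · exact memR _ ⟨1, _, one_pow 4, by rw [one_smul]; exact (std_gen i).2.2.2⟩
    · rw [hR]
      rintro _ ⟨g, ⟨c, w, -, eg⟩, rfl⟩
      obtain ⟨v, u, hu⟩ := M_std hi w
      refine ⟨v, c * u, ?_⟩
      show (φ g : Matrix (Fin 4) (Fin 4) F) = _
      rw [hφ, eg, Matrix.submatrix_smul, Pi.smul_apply, Pi.smul_apply, hu, smul_smul]
  have hmax := CfsgLib.Classical.SLFour.SympFour.isMaximalIn_std (by rw [Nat.card_eq_fintype_card, hcard]; exact hp)
    h2 h3 hi hS
    (memR _ ⟨-1, 0, by ring, by rw [dot4.W_zero, Matrix.submatrix_one_equiv, neg_one_smul]⟩)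
    (memR _ ⟨i, 0, h4, by rw [dot4.W_zero, Matrix.submatrix_one_equiv]⟩) (by
      rw [hR]
      rintro _ ⟨g, ⟨c, w, hc, eg⟩, rfl⟩
      rw [← map_pow]
      have e : g ^ 4 = 1 := Units.ext (by
        rw [Units.val_pow_eq_pow_val, eg, smul_pow, hc, one_smul, Units.val_one, show 4 = 2 * 2 from rfl, pow_mul,
          show W F d4 w ^ 2 = sg2 F (d4 w.2 w.1) • (1 : M4) from (pow_two _).trans (dot4.W_sq w), smul_pow, one_pow,
          pow_two, sg2_self, one_smul])
      rw [e, map_one])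
  have hdet : ∀ g, (φ g : Matrix (Fin 4) (Fin 4) F).det = (g : M4).det := fun g => by
    rw [hφ, Matrix.det_submatrix_equiv_self]
  have memSL : ∀ g, φ g ∈ Cfsg.Geo.specialLinear (Fin 4) F ↔ (g : M4).det = 1 := fun g => by
    rw [← hdet]
    constructor
    · intro hg
      obtain ⟨s, hs⟩ := CfsgLib.Classical.MinIndex.mem_specialLinear.1 hg
      rw [← hs]; exact s.2
    · intro hg
      exact CfsgLib.Classical.MinIndex.mem_specialLinear.2 ⟨⟨_, hg⟩, Units.ext rfl⟩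
  have memN : ∀ g, φ g ∈ Cfsg.Geo.subgroupNormalizer R ↔ ∃ L, Act d4 (g : M4) L := fun g => by
    rw [← dot4.mem_normalizer_iff, Cfsg.Geo.subgroupNormalizer, hR]
    constructor
    · intro hg
      rw [← Subgroup.map_equiv_normalizer_eq] at hg
      obtain ⟨g', hg', e⟩ := hg
      exact φ.injective e ▸ hg'
    · intro hg
      rw [← Subgroup.map_equiv_normalizer_eq]
      exact ⟨g, hg, rfl⟩
  rcases hmax.2 (P.map φ.toMonoidHom ⊓ Cfsg.Geo.specialLinear (Fin 4) F) (fun x hx => by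
      obtain ⟨g, rfl⟩ := φ.surjective x
      exact ⟨⟨g, hP g ((memSL g).1 hx.2) ((memN g).1 hx.1), rfl⟩, hx.2⟩) inf_le_right with h | h
  · refine Or.inr fun g hg hd => (memN g).1 ?_
    have hx : φ g ∈ P.map φ.toMonoidHom ⊓ Cfsg.Geo.specialLinear (Fin 4) F := ⟨⟨g, hg, rfl⟩, (memSL g).2 hd⟩
    rw [h] at hx
    exact hx.1
  · refine Or.inl fun g hd => ?_
    have hx : φ g ∈ Cfsg.Geo.specialLinear (Fin 4) F := (memSL g).2 hd
    rw [← h] at hx
    obtain ⟨g', hg', e⟩ := hx.1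
    exact φ.injective e ▸ hg'

end std

end CfsgLib.EightMax
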