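import Cfsg.Agent.Lib.EightMax.Form

/-!
Groups with an elementary abelian subgroup that is normal in a subgroup acting on it as a symplectic group.
-/

set_option autoImplicit false
set_option linter.unusedSectionVars false

namespace CfsgLib.EightMax

variable {G : Type*} [Group G] {V : Type*} [AddCommGroup V]

/-- `n` moves the vectors as `L` prescribes. -/
def Cj (W : V → G) (n : G) (L : V → V) : Prop := ∀ v, n * W v * n⁻¹ = W (L v)

theorem Cj.mul {W : V → G} {m n : G} {L K : V → V} (hm : Cj W m L) (hn : Cj W n K) : Cj W (m * n) (L ∘ K) := by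
  intro v
  rw [Function.comp_apply, ← hm, ← hn]
  group

theorem cj_one (W : V → G) : Cj W 1 id := fun v => by simp

/-- The setting of the fusion argument. -/
structure Fr (s : V → V → ZMod 2) (W : V → G) (N : Subgroup G) : Prop where
  form : Sform s
  hom : ∀ a b, W (a + b) = W a * W b
  inj : ∀ a, W a = 1 → a = 0
  memN : ∀ a, W a ∈ N
  act : ∀ n ∈ N, ∃ L : V → V, Cj W n L ∧ ∀ a b, s (L a) (L b) = s a b
  ker : ∀ n ∈ N, Cj W n id → ∃ v, n = W v
  lift : ∀ a, ∃ n ∈ N, Cj W n (tr s a)
  cent : ∀ v, v ≠ 0 → ∀ g, g * W v * g⁻¹ = W v → g ∈ N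

namespace Fr

variable {s : V → V → ZMod 2} {W : V → G} {N : Subgroup G} (F : Fr s W N)
include F

theorem zero : W 0 = 1 := by
  have := F.hom 0 0
  rw [add_zero] at this
  exact mul_eq_left.1 this.symm

theorem sq (a : V) : W a * W a = 1 := by rw [← F.hom, F.form.two, F.zero]

theorem inv (a : V) : (W a)⁻¹ = W a := inv_eq_of_mul_eq_one_right (F.sq a)

theorem comm (a b : V) : W a * W b = W b * W a := by rw [← F.hom, add_comm, F.hom]

theorem inj' {a b : V} (e : W a = W b) : a = b :=
  F.form.eq_of_add_eq_zero (F.inj _ (by rw [F.hom, e, F.sq]))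

theorem conj_W (a b : V) : W a * W b * (W a)⁻¹ = W b := by rw [F.inv, F.comm a b, mul_assoc, F.sq, mul_one]

theorem cj_W (a : V) : Cj W (W a) id := F.conj_W a

theorem cj_uniq {n : G} {L K : V → V} (hL : Cj W n L) (hK : Cj W n K) : L = K :=
  funext fun v => F.inj' ((hL v).symm.trans (hK v))

theorem cj_isom {n : G} (hn : n ∈ N) {L : V → V} (hL : Cj W n L) : Isom s L := by
  obtain ⟨K, hK, hs⟩ := F.act n hn
  obtain rfl := F.cj_uniq hL hK
  refine ⟨fun a b => F.inj' ?_, hs⟩
  rw [F.hom, ← hL, ← hL, ← hL, F.hom]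
  group

theorem cj_comm_W {n : G} {L : V → V} (hL : Cj W n L) (v : V) : n * W v = W (L v) * n := by
  rw [← hL, inv_mul_cancel_right]

theorem commute_iff {n : G} {L : V → V} (hL : Cj W n L) (v : V) : n * W v = W v * n ↔ L v = v := by
  constructor
  · intro e
    refine F.inj' ?_
    rw [← hL, e, mul_inv_cancel_right]
  · intro e
    rw [F.cj_comm_W hL, e]

/-- An element of order two moves the vectors by an involution. -/
theorem cj_invol {n : G} (h2 : n * n = 1) {L : V → V} (hL : Cj W n L) (v : V) : L (L v) = v :=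
  congrFun (F.cj_uniq (hL.mul hL) (show Cj W (n * n) id by rw [h2]; exact cj_one W)) v

theorem trans {u v : V} (hu : u ≠ 0) (hv : v ≠ 0) : ∃ n ∈ N, n * W u * n⁻¹ = W v := by
  have one : ∀ {u v : V}, s u v = 1 → ∃ n ∈ N, n * W u * n⁻¹ = W v := fun {u v} e => by
    obtain ⟨n, hn, hc⟩ := F.lift (u + v)
    exact ⟨n, hn, by rw [hc, F.form.tr_move e]⟩
  obtain ⟨w, h1, h2⟩ := F.form.exists_one_one hu hv
  obtain ⟨n, hn, e⟩ := one h1
  obtain ⟨m, hm, e'⟩ := one (u := w) (v := v) (by rw [F.form.symm, h2])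
  exact ⟨m * n, mul_mem hm hn, by rw [← e', ← e]; group⟩

/-- Moving a vector to a vector by conjugation puts the element inside. -/
theorem cross {q : G} {u u' : V} (hu : u ≠ 0) (e : q * W u * q⁻¹ = W u') : q ∈ N := by
  have hu' : u' ≠ 0 := fun e0 => hu (F.inj u (by
    rw [e0, F.zero, mul_inv_eq_one, mul_eq_left] at e
    exact e))
  obtain ⟨n, hn, en⟩ := F.trans hu' hu
  have := F.cent u hu (n * q) (by
    rw [← e] at en
    calc n * q * W u * (n * q)⁻¹ = n * (q * W u * q⁻¹) * n⁻¹ := by group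
      _ = W u := en)
  have := mul_mem (inv_mem hn) this
  rwa [inv_mul_cancel_left] at this

end Fr

end CfsgLib.EightMax
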