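import Cfsg.Agent.Lib.EightMax.Frame

/-!
In the setting of `Fr` with sixty-four vectors, a conjugate of a vector lying in the subgroup is a vector.
-/

set_option autoImplicit false
set_option linter.unusedSectionVars false
set_option maxHeartbeats 1000000

namespace CfsgLib.EightMax

variable {G : Type*} [Group G] [Finite G] {V : Type*} [AddCommGroup V] [Finite V]

theorem card_le_of_maximal {C S Q : Subgroup G} (hS : IsPGroup 2 S) (hSC : S ≤ C)
    (hmax : ∀ T : Subgroup G, IsPGroup 2 T → S ≤ T → T ≤ C → T = S) (hQ : IsPGroup 2 Q) (hQC : Q ≤ C) :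
    Nat.card Q ≤ Nat.card S := by
  haveI : Fact (Nat.Prime 2) := ⟨Nat.prime_two⟩
  let P : Sylow 2 C := ⟨S.subgroupOf C, hS.comap_of_injective _ C.subtype_injective, fun {T} hT hle => by
    have h1 := hmax (T.map C.subtype) (hT.map _) (fun x hx => ⟨⟨x, hSC hx⟩, hle hx, rfl⟩)
      (Subgroup.map_subtype_le T)
    exact Subgroup.map_injective C.subtype_injective (h1.trans (Subgroup.map_subgroupOf_eq_of_le hSC).symm)⟩
  obtain ⟨R, hR⟩ := (hQ.comap_of_injective C.subtype C.subtype_injective :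
    IsPGroup 2 (Q.subgroupOf C)).exists_le_sylow
  have h1 : Nat.card (Q.subgroupOf C) ≤ Nat.card (R : Subgroup C) := Subgroup.card_le_of_le hR
  rw [Sylow.card_eq_multiplicity R, ← Sylow.card_eq_multiplicity P] at h1
  have h2 : Nat.card (Q.subgroupOf C) = Nat.card Q := Nat.card_congr (Subgroup.subgroupOfEquivOfLe hQC).toEquiv
  have h3 : Nat.card (S.subgroupOf C) = Nat.card S := Nat.card_congr (Subgroup.subgroupOfEquivOfLe hSC).toEquiv
  have h4 : Nat.card (P : Subgroup C) = Nat.card (S.subgroupOf C) := rfl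
  omega

namespace Fr

variable {s : V → V → ZMod 2} {W : V → G} {N : Subgroup G} (F : Fr s W N)
include F

/-- The vectors fixed by a map. -/
def fixGrp {L : V → V} (hL : Isom s L) : AddSubgroup V where
  carrier := {v | L v = v}
  add_mem' {a b} ha hb := by show L (a + b) = a + b; rw [hL.add, ha, hb]
  zero_mem' := by
    show L 0 = 0
    have := hL.add 0 0
    rw [add_zero] at this
    exact left_eq_add.1 this
  neg_mem' {a} ha := by rw [F.form.neg_eq]; exact ha

/-- The twisting group as a subgroup. -/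
def vecs (A : AddSubgroup V) : Subgroup G where
  carrier := {x | ∃ v ∈ A, x = W v}
  one_mem' := ⟨0, A.zero_mem, F.zero.symm⟩
  mul_mem' := by rintro _ _ ⟨a, ha, rfl⟩ ⟨b, hb, rfl⟩; exact ⟨a + b, A.add_mem ha hb, (F.hom a b).symm⟩
  inv_mem' := by rintro _ ⟨a, ha, rfl⟩; exact ⟨a, ha, F.inv a⟩

theorem vecs_pgroup (A : AddSubgroup V) : IsPGroup 2 (F.vecs A) := by
  rintro ⟨_, a, ha, rfl⟩
  exact ⟨1, Subtype.ext (by simp [pow_two, F.sq])⟩

theorem le_normalizer_vecs {H : Subgroup G} (hH : H ≤ N) (A : AddSubgroup V)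
    (hA : ∀ n ∈ H, ∀ L, Cj W n L → ∀ v ∈ A, L v ∈ A) : H ≤ Subgroup.normalizer (F.vecs A : Set G) := by
  have key : ∀ n ∈ H, ∀ x ∈ F.vecs A, n * x * n⁻¹ ∈ F.vecs A := by
    rintro n hn _ ⟨v, hv, rfl⟩
    obtain ⟨L, hL, -⟩ := F.act n (hH hn)
    exact ⟨L v, hA n hn L hL v hv, hL v⟩
  intro n hn
  rw [Subgroup.mem_normalizer_iff]
  intro x
  refine ⟨key n hn x, fun hx => ?_⟩
  have := key n⁻¹ (inv_mem hn) _ hx
  rwa [show n⁻¹ * (n * x * n⁻¹) * n⁻¹⁻¹ = x by group] at this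

/-- An element fixing a two-group of the centralizer and moving it out of the subgroup. -/
theorem exists_out (hV : Nat.card V = 64) {g : G} {v₀ : V} (h0 : v₀ ≠ 0) {y : G} (hy : y = g * W v₀ * g⁻¹)
    (hyN : y ∈ N) {L : V → V} (hL : Cj W y L) (hid : L ≠ id) {H : Subgroup G} (hH : IsPGroup 2 H) (hHN : H ≤ N)
    (hHy : ∀ x ∈ H, x * y = y * x) :
    ∃ (q : G) (S : Subgroup G), H ≤ S ∧ S ≤ N ∧ (∀ x ∈ S, x * y = y * x) ∧ (∀ v, L v = v → W v ∈ S) ∧
      (∀ x ∈ S, q * x * q⁻¹ ∈ S) ∧ (∀ x ∈ S, q⁻¹ * x * q ∈ S) ∧ q * y = y * q ∧ q ∉ N := by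
  classical
  haveI : Fact (Nat.Prime 2) := ⟨Nat.prime_two⟩
  have memC : ∀ x : G, x ∈ Subgroup.centralizer ({y} : Set G) ↔ x * y = y * x := fun x =>
    Subgroup.mem_centralizer_singleton_iff
  have hLi := F.cj_isom hyN hL
  set C := Subgroup.centralizer ({y} : Set G) with hC
  set A := F.fixGrp hLi with hA
  have hHC : H ≤ N ⊓ C := fun x hx => ⟨hHN hx, (memC x).2 (hHy x hx)⟩
  have hvC : F.vecs A ≤ N ⊓ C := by
    rintro _ ⟨v, hv, rfl⟩
    exact ⟨F.memN v, (memC _).2 ((F.commute_iff hL v).2 hv).symm⟩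
  have hnorm : N ⊓ C ≤ Subgroup.normalizer (F.vecs A : Set G) :=
    F.le_normalizer_vecs inf_le_left A fun n hn K hK v hv => by
      show L (K v) = K v
      have e : L ∘ K = K ∘ L := F.cj_uniq (n := n * y) (by rw [(memC n).1 hn.2]; exact hL.mul hK) (hK.mul hL)
      exact (congrFun e v).trans (congrArg K hv)
  have hsup : IsPGroup 2 (H ⊔ F.vecs A : Subgroup G) :=
    hH.to_sup_of_normal_right' (F.vecs_pgroup A) (hHC.trans hnorm)
  obtain ⟨S, hS1, hS⟩ := Finite.exists_le_maximal (p := fun Q : Subgroup G => IsPGroup 2 Q ∧ Q ≤ N ⊓ C)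
    ⟨hsup, sup_le hHC hvC⟩
  obtain ⟨hSg, hSC⟩ := hS.1
  have hmax : ∀ T : Subgroup G, IsPGroup 2 T → S ≤ T → T ≤ N ⊓ C → T = S := fun T hT h1 h2 =>
    le_antisymm (hS.2 ⟨hT, h2⟩ h1) h1
  -- a larger two-group of the centralizer
  obtain ⟨Q, hQg, hSQ, hQC, hQS⟩ : ∃ Q : Subgroup G, IsPGroup 2 Q ∧ S ≤ Q ∧ Q ≤ C ∧ Q ≠ S := by
    by_contra hall
    push Not at hall
    obtain ⟨P, hP1, hP⟩ := Finite.exists_le_maximal (p := fun Q : Subgroup G => IsPGroup 2 Q ∧ Q ≤ N)
      ⟨F.vecs_pgroup ⊤, show F.vecs ⊤ ≤ N by rintro _ ⟨v, -, rfl⟩; exact F.memN v⟩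
    obtain ⟨hPg, hPN⟩ := hP.1
    -- a vector fixed by the whole two-group
    choose K hK using fun x : P => (F.act x (hPN x.2))
    letI : MulAction P V :=
      { smul := fun x v => K x v
        one_smul := fun v => congrFun (F.cj_uniq (hK 1).1 (by
          show Cj W ((1 : P) : G) id
          exact cj_one W)) v
        mul_smul := fun x z v => congrFun (F.cj_uniq (hK (x * z)).1 ((hK x).1.mul (hK z).1)) v }
    have hfix := hPg.card_modEq_card_fixedPoints V
    obtain ⟨v₁, hv₁, h1ne⟩ : ∃ v₁ ∈ MulAction.fixedPoints P V, v₁ ≠ 0 := by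
      by_contra hno
      push Not at hno
      have h0m : (0 : V) ∈ MulAction.fixedPoints P V := fun x =>
        (F.cj_isom (hPN x.2) (hK x).1).add 0 0 |> fun e => by
          show K x 0 = 0
          rw [add_zero] at e
          exact left_eq_add.1 e
      have : MulAction.fixedPoints P V = {0} := Set.eq_singleton_iff_unique_mem.2 ⟨h0m, hno⟩
      rw [this, hV] at hfix
      simp [Nat.ModEq] at hfix
    obtain ⟨n, hn, en⟩ := F.trans h1ne h0
    obtain ⟨t, ht⟩ : ∃ t, t = g * n := ⟨_, rfl⟩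
    have hP' : P.map (MulAut.conj t).toMonoidHom ≤ C := by
      rintro _ ⟨x, hx, rfl⟩
      refine (memC _).2 ?_
      have e1 : x * W v₁ = W v₁ * x := (F.commute_iff (hK ⟨x, hx⟩).1 v₁).2 (hv₁ ⟨x, hx⟩)
      show t * x * t⁻¹ * y = y * (t * x * t⁻¹)
      rw [hy, ← en, ht]
      calc g * n * x * (g * n)⁻¹ * (g * (n * W v₁ * n⁻¹) * g⁻¹) = g * n * (x * W v₁) * (g * n)⁻¹ := by group
        _ = _ := by rw [e1]; group
    have hcard := card_le_of_maximal hSg (hSC.trans inf_le_right) (fun T hT h1 h2 => hall T hT h1 h2)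
      (hPg.map _) hP'
    rw [Subgroup.card_map_of_injective (MulAut.conj t).injective] at hcard
    have hvN : S ≤ Subgroup.normalizer (F.vecs ⊤ : Set G) :=
      F.le_normalizer_vecs (hSC.trans inf_le_left) ⊤ fun _ _ _ _ _ _ => AddSubgroup.mem_top _
    have hbig : IsPGroup 2 (S ⊔ F.vecs ⊤ : Subgroup G) := hSg.to_sup_of_normal_right' (F.vecs_pgroup ⊤) hvN
    have hle := card_le_of_maximal hPg hPN (fun T hT h1 h2 => le_antisymm (hP.2 ⟨hT, h2⟩ h1) h1) hbig
      (sup_le (hSC.trans inf_le_left) (by rintro _ ⟨v, -, rfl⟩; exact F.memN v))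
    have heq : S = S ⊔ F.vecs ⊤ := Subgroup.eq_of_le_of_card_ge le_sup_left (hle.trans hcard)
    refine hid (funext fun v => (F.commute_iff hL v).1 ?_)
    exact ((memC _).1 (hSC (heq ▸ Subgroup.mem_sup_right ⟨v, AddSubgroup.mem_top v, rfl⟩)).2).symm
  haveI : Group.IsNilpotent Q := hQg.isNilpotent
  have hlt : S.subgroupOf Q < ⊤ := lt_top_iff_ne_top.2 fun e =>
    hQS (le_antisymm (Subgroup.subgroupOf_eq_top.1 e) hSQ)
  obtain ⟨q, hq, hqS⟩ := SetLike.exists_of_lt (normalizerCondition_of_isNilpotent _ hlt)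
  have hq1 : ∀ x ∈ S, (q : G) * x * (q : G)⁻¹ ∈ S := fun x hx =>
    (Subgroup.mem_normalizer_iff.1 hq ⟨x, hSQ hx⟩).1 hx
  have hq2 : ∀ x ∈ S, (q : G)⁻¹ * x * (q : G) ∈ S := fun x hx => by
    have := (Subgroup.mem_normalizer_iff.1 (inv_mem hq) ⟨x, hSQ hx⟩).1 hx
    simpa [Subgroup.mem_subgroupOf] using this
  refine ⟨q, S, le_sup_left.trans hS1, hSC.trans inf_le_left, fun x hx => (memC x).1 (hSC hx).2,
    fun v hv => (le_sup_right.trans hS1) ⟨v, hv, rfl⟩, hq1, hq2, (memC _).1 (hQC q.2), fun hqN => hqS ?_⟩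
  have hle : S ⊔ Subgroup.zpowers (q : G) ≤ N ⊓ C := sup_le hSC (Subgroup.zpowers_le.2 ⟨hqN, hQC q.2⟩)
  have := hmax _ (hQg.to_le (sup_le hSQ (Subgroup.zpowers_le.2 q.2))) le_sup_left hle
  exact show (q : G) ∈ S from this ▸ (le_sup_right : Subgroup.zpowers (q : G) ≤ _) (Subgroup.mem_zpowers _)

/-- The maps attached to the fixed vectors. -/
theorem lf {y : G} (hyN : y ∈ N) {L : V → V} (hL : Cj W y L) {q : G} {S : Subgroup G} (hSN : S ≤ N)
    (hfix : ∀ v, L v = v → W v ∈ S) (hq1 : ∀ x ∈ S, q * x * q⁻¹ ∈ S) (hq2 : ∀ x ∈ S, q⁻¹ * x * q ∈ S)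
    (hqN : q ∉ N) {v : V} (hv : L v = v) {M : V → V} (hM : Cj W (q * W v * q⁻¹) M) :
    (∀ w, L w = w → M w = w) ∧ (M = id → v = 0) := by
  refine ⟨fun w hw => ?_, fun e => ?_⟩
  · obtain ⟨K, hK, -⟩ := F.act _ (hSN (hq2 _ (hfix w hw)))
    have e : q * W (K v + v) * q⁻¹ = W (w + M w) := by
      rw [F.hom, F.hom, ← hK, ← hM]
      calc q * (q⁻¹ * W w * q * W v * (q⁻¹ * W w * q)⁻¹ * W v) * q⁻¹
          = W w * (q * W v * q⁻¹ * (W w)⁻¹ * (q * W v * q⁻¹)) := by group
        _ = W w * (q * W v * q⁻¹ * W w * (q * W v * q⁻¹)⁻¹) := by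
            rw [F.inv, _root_.mul_inv_rev, _root_.mul_inv_rev, inv_inv, F.inv, mul_assoc q (W v)]
    by_contra hne
    by_cases h0 : K v + v = 0
    · rw [h0, F.zero, mul_one, mul_inv_cancel] at e
      exact hne (F.form.eq_of_add_eq_zero (F.inj _ e.symm)).symm
    · exact hqN (F.cross h0 e)
  · by_contra h0
    subst e
    obtain ⟨v', hv'⟩ := F.ker _ (hSN (hq1 _ (hfix v hv))) hM
    exact hqN (F.cross h0 hv')

/-- The fixed space of the image of a conjugate of a vector is small. -/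
theorem fix_le_eight (hV : Nat.card V = 64) {g : G} {v₀ : V} (h0 : v₀ ≠ 0) {y : G} (hy : y = g * W v₀ * g⁻¹)
    (hyN : y ∈ N) {L : V → V} (hL : Cj W y L) (hLi : Isom s L) (hid : L ≠ id) :
    Nat.card (F.fixGrp hLi) ≤ 8 := by
  classical
  obtain ⟨q, S, -, hSN, -, hfix, hq1, hq2, -, hqN⟩ := F.exists_out hV h0 hy hyN hL hid (H := ⊥)
    (IsPGroup.of_card (n := 0) (by simp)) bot_le (fun x hx => by simp [Subgroup.mem_bot.1 hx])
  by_contra hgt
  push Not at hgt
  set A := F.fixGrp hLi with hA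
  -- two vectors spanning the rest
  obtain ⟨e₁, e₂, hsp⟩ : ∃ e₁ e₂ : V, ∀ x, ∃ w ∈ A, x = w ∨ x = w + e₁ ∨ x = w + e₂ ∨ x = w + (e₁ + e₂) := by
    have hQ : Nat.card (V ⧸ A) ≤ 4 := by
      have h1 := AddSubgroup.card_eq_card_quotient_mul_card_addSubgroup A
      rw [hV] at h1
      by_contra h5
      push Not at h5
      obtain ⟨k, hk, hk'⟩ := (Nat.dvd_prime_pow Nat.prime_two).1 (show Nat.card A ∣ 2 ^ 6 from ⟨_, h1.trans (mul_comm _ _)⟩)
      rw [hk'] at h1 hgt
      have h4 : 4 ≤ k := by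
        by_contra hlt
        have := Nat.pow_le_pow_right (show 0 < 2 by norm_num) (show k ≤ 3 by omega)
        omega
      have := Nat.mul_le_mul h5 (Nat.pow_le_pow_right (show 0 < 2 by norm_num) h4)
      omega
    haveI := Fintype.ofFinite (V ⧸ A)
    have span : ∃ a b : V ⧸ A, ∀ x : V ⧸ A, x = 0 ∨ x = a ∨ x = b ∨ x = a + b := by
      have htwo : ∀ x : V ⧸ A, x + x = 0 := fun x => by
        obtain ⟨x, rfl⟩ := QuotientAddGroup.mk_surjective x
        rw [← QuotientAddGroup.mk_add, F.form.two]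
        rfl
      by_cases h1 : ∀ x : V ⧸ A, x = 0
      · exact ⟨0, 0, fun x => Or.inl (h1 x)⟩
      push Not at h1
      obtain ⟨a, ha⟩ := h1
      by_cases h2 : ∀ x : V ⧸ A, x = 0 ∨ x = a
      · exact ⟨a, 0, fun x => by rcases h2 x with h | h <;> simp [h]⟩
      push Not at h2
      obtain ⟨b, hb0, hba⟩ := h2
      have hab : a + b ≠ 0 ∧ a + b ≠ a ∧ a + b ≠ b :=
        ⟨fun e => hba (by rw [← add_zero b, ← htwo a, add_left_comm, add_comm b, e, add_zero]),
          fun e => hb0 (add_eq_left.1 e), fun e => ha (add_eq_right.1 e)⟩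
      have huniv : ({0, a, b, a + b} : Finset (V ⧸ A)) = Finset.univ := by
        refine Finset.eq_univ_of_card _ (le_antisymm (Finset.card_le_univ _) ?_)
        rw [Finset.card_insert_of_notMem (by simp [Ne.symm ha, Ne.symm hb0, Ne.symm hab.1]),
          Finset.card_insert_of_notMem (by simp [Ne.symm hba, Ne.symm hab.2.1]),
          Finset.card_pair (Ne.symm hab.2.2), ← Nat.card_eq_fintype_card]
        omega
      refine ⟨a, b, fun x => ?_⟩
      have := Finset.mem_univ x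
      rw [← huniv] at this
      simpa using this
    obtain ⟨a, b, hab⟩ := span
    obtain ⟨e₁, rfl⟩ := QuotientAddGroup.mk_surjective a
    obtain ⟨e₂, rfl⟩ := QuotientAddGroup.mk_surjective b
    refine ⟨e₁, e₂, fun x => ?_⟩
    have key : ∀ e : V, (x : V ⧸ A) = (e : V ⧸ A) → x + e ∈ A ∧ x = x + e + e := fun e h => by
      refine ⟨?_, (F.form.add_add_cancel x e).symm⟩
      have := QuotientAddGroup.eq.1 h.symm
      rwa [F.form.neg_eq, add_comm] at this
    rcases hab x with h | h | h | h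
    · exact ⟨x, by simpa using (key 0 h).1, Or.inl rfl⟩
    · exact ⟨_, (key _ h).1, Or.inr (Or.inl (key _ h).2)⟩
    · exact ⟨_, (key _ h).1, Or.inr (Or.inr (Or.inl (key _ h).2))⟩
    · rw [← QuotientAddGroup.mk_add] at h
      exact ⟨_, (key _ h).1, Or.inr (Or.inr (Or.inr (key _ h).2))⟩
  -- the maps attached to fixed vectors are determined by three bits
  have hmem : ∀ v : A, q * W v * q⁻¹ ∈ N := fun v => hSN (hq1 _ (hfix v v.2))
  choose M hM hMs using fun v : A => F.act _ (hmem v)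
  have hMi : ∀ v : A, Isom s (M v) := fun v => F.cj_isom (hmem v) (hM v)
  have hMA : ∀ v : A, ∀ w ∈ A, M v w = w := fun v w hw => (F.lf hyN hL hSN hfix hq1 hq2 hqN v.2 (hM v)).1 w hw
  haveI := Fintype.ofFinite A
  let Φ : A → ZMod 2 × ZMod 2 × ZMod 2 := fun v =>
    (s (M v e₁ + e₁) e₁, s (M v e₁ + e₁) e₂, s (M v e₂ + e₂) e₂)
  obtain ⟨v, v', hne, hΦ⟩ := Fintype.exists_ne_map_eq_of_card_lt (α := A) Φ (by
    rw [← Nat.card_eq_fintype_card (α := A)]
    simp only [Fintype.card_prod, ZMod.card]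
    omega)
  simp only [Φ, Prod.mk.injEq] at hΦ
  have hswap : ∀ v : A, ∀ a b, s (M v a + a) b = s (M v b + b) a := fun v a b => by
    have hinv : M v (M v b) = b := F.cj_invol (by
      rw [show q * W v * q⁻¹ * (q * W v * q⁻¹) = q * (W v * W v) * q⁻¹ by group, F.sq, mul_one, mul_inv_cancel])
      (hM v) b
    rw [F.form.add_left, F.form.add_left, F.form.symm (M v b), F.form.symm b a,
      show s (M v a) b = s a (M v b) by conv_lhs => rw [← hinv, hMs]]
  have hperp : ∀ v : A, ∀ a, ∀ w ∈ A, s (M v a + a) w = 0 := fun v a w hw => by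
    rw [F.form.add_left]
    nth_rw 1 [← hMA v w hw]
    rw [hMs, CharTwo.add_self_eq_zero]
  have hval : ∀ a, s (M v e₁ + e₁) a = s (M v' e₁ + e₁) a ∧ s (M v e₂ + e₂) a = s (M v' e₂ + e₂) a := by
    intro a
    obtain ⟨w, hw, e | e | e | e⟩ := hsp a <;> rw [e] <;>
      simp only [F.form.add_right, hperp _ _ w hw, hswap _ e₂ e₁, hΦ.1, hΦ.2.1, hΦ.2.2, zero_add, and_self]
  have hd1 : M v e₁ = M v' e₁ := add_right_cancel (F.form.ext fun a => (hval a).1)
  have hd2 : M v e₂ = M v' e₂ := add_right_cancel (F.form.ext fun a => (hval a).2)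
  have heq : M v = M v' := funext fun x => by
    obtain ⟨w, hw, e | e | e | e⟩ := hsp x <;> rw [e] <;>
      simp only [(hMi v).add, (hMi v').add, hMA _ w hw, hd1, hd2]
  refine hne (Subtype.ext (F.form.eq_of_add_eq_zero ?_))
  refine (F.lf hyN hL hSN hfix hq1 hq2 hqN (v + v').2 (M := id) ?_).2 rfl
  intro x
  rw [AddSubgroup.coe_add, F.hom, show q * (W v * W v') * q⁻¹ = q * W v * q⁻¹ * (q * W v' * q⁻¹) by group,
    ((hM v).mul (hM v')) x, Function.comp_apply, ← heq]
  refine congrArg W (F.cj_invol ?_ (hM v) x)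
  rw [show q * W v * q⁻¹ * (q * W v * q⁻¹) = q * (W v * W v) * q⁻¹ by group, F.sq, mul_one, mul_inv_cancel]

theorem fix_eq_eight (hV : Nat.card V = 64) {g : G} {v₀ : V} (h0 : v₀ ≠ 0) {y : G} (hy : y = g * W v₀ * g⁻¹)
    (hyN : y ∈ N) {L : V → V} (hL : Cj W y L) (hLi : Isom s L) (hid : L ≠ id) :
    Nat.card (F.fixGrp hLi) = 8 ∧ ∀ w, L w = w → ∃ x, w = L x + x := by
  classical
  have hle := F.fix_le_eight hV h0 hy hyN hL hLi hid
  have h2 : y * y = 1 := by
    rw [hy, show g * W v₀ * g⁻¹ * (g * W v₀ * g⁻¹) = g * (W v₀ * W v₀) * g⁻¹ by group, F.sq, mul_one, mul_inv_cancel]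
  let D : V →+ V := AddMonoidHom.mk' (fun x => L x + x) fun a b => by rw [hLi.add]; abel
  have hker : D.ker = F.fixGrp hLi := by
    ext x
    exact ⟨fun e => F.form.eq_of_add_eq_zero e, fun e => by show L x + x = 0; rw [e, F.form.two]⟩
  have hrange : D.range ≤ F.fixGrp hLi := by
    rintro _ ⟨x, rfl⟩
    show L (L x + x) = L x + x
    rw [hLi.add, F.cj_invol h2 hL, add_comm]
  have hmul := AddSubgroup.card_eq_card_quotient_mul_card_addSubgroup D.ker
  rw [Nat.card_congr (QuotientAddGroup.quotientKerEquivRange D).toEquiv, hker, hV] at hmul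
  have hr := AddSubgroup.card_le_of_le hrange
  have h8 : Nat.card (F.fixGrp hLi) = 8 := by
    rcases Nat.lt_or_ge (Nat.card (F.fixGrp hLi)) 8 with hlt | hge
    · have := Nat.mul_le_mul (hr.trans (Nat.le_of_lt_succ (show _ < 7 + 1 from hlt))) (Nat.le_of_lt_succ (show _ < 7 + 1 from hlt))
      omega
    · omega
  refine ⟨h8, fun w hw => ?_⟩
  have he : D.range = F.fixGrp hLi := AddSubgroup.eq_of_le_of_card_ge hrange (by
    rw [h8] at hmul ⊢; omega)
  obtain ⟨x, hx⟩ : w ∈ D.range := he.symm ▸ (show w ∈ F.fixGrp hLi from hw)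
  exact ⟨x, hx.symm⟩

/-- **Weak closure**: a conjugate of a vector lying in the subgroup is a vector. -/
theorem weak (hV : Nat.card V = 64) {g : G} {v₀ : V} (hyN : g * W v₀ * g⁻¹ ∈ N) :
    ∃ v, g * W v₀ * g⁻¹ = W v := by
  classical
  by_cases h0 : v₀ = 0
  · exact ⟨0, by rw [h0, F.zero, mul_one, mul_inv_cancel]⟩
  obtain ⟨y, hy⟩ : ∃ y, y = g * W v₀ * g⁻¹ := ⟨_, rfl⟩
  rw [← hy] at hyN ⊢
  obtain ⟨L, hL, -⟩ := F.act y hyN
  have hLi := F.cj_isom hyN hL
  by_cases hid : L = id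
  · exact F.ker y hyN (hid ▸ hL)
  exfalso
  have y2 : y * y = 1 := by
    rw [hy, show g * W v₀ * g⁻¹ * (g * W v₀ * g⁻¹) = g * (W v₀ * W v₀) * g⁻¹ by group, F.sq, mul_one, mul_inv_cancel]
  have hinv := F.cj_invol y2 hL
  obtain ⟨hA, hU⟩ := F.fix_eq_eight hV h0 hy hyN hL hLi hid
  set A := F.fixGrp hLi with hAdef
  have hperp : ∀ w w', L w = w → L w' = w' → s w w' = 0 := fun w w' hw hw' => by
    obtain ⟨x, rfl⟩ := hU w hw
    rw [F.form.add_left]
    nth_rw 1 [← hw']
    rw [hLi.pres, CharTwo.add_self_eq_zero]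
  -- a vector moved to an orthogonal one
  obtain ⟨a, ha, hsa⟩ : ∃ a, L a ≠ a ∧ s a (L a) = 0 := by
    have hQ : Nat.card (V ⧸ A) = 8 := by
      have h1 := AddSubgroup.card_eq_card_quotient_mul_card_addSubgroup A
      rw [hV, hA] at h1; omega
    haveI := Fintype.ofFinite (V ⧸ A)
    by_contra hall
    push Not at hall
    have hout : ∀ x, L x ≠ x → s x (L x) = 1 := fun x hx => (z2 _).resolve_left (hall x hx)
    have hsum : ∀ x z, L x ≠ x → L z ≠ z → L (x + z) = x + z := fun x z hx hz => by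
      by_contra hne
      have := hout _ hne
      rw [F.form.diag_add hLi hinv, hout x hx, hout z hz] at this
      exact absurd this (by decide)
    have : Fintype.card (V ⧸ A) ≤ 2 := by
      by_cases hx : ∃ x, L x ≠ x
      · obtain ⟨x, hx⟩ := hx
        refine (Finset.card_le_card (s := Finset.univ) (t := ({0, (x : V ⧸ A)} : Finset (V ⧸ A))) fun z _ => ?_).trans
          Finset.card_le_two
        obtain ⟨z, rfl⟩ := QuotientAddGroup.mk_surjective z
        by_cases hz : L z = z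
        · have hz' : z ∈ A := hz
          simp [(QuotientAddGroup.eq_zero_iff z).2 hz']
        · refine Finset.mem_insert_of_mem (Finset.mem_singleton.2 (QuotientAddGroup.eq.2 ?_))
          rw [F.form.neg_eq, add_comm]
          exact hsum x z hx hz
      · push Not at hx
        exact absurd (funext hx) hid
    rw [← Nat.card_eq_fintype_card, hQ] at this
    omega
  obtain ⟨c, hc⟩ : ∃ c, c = L a + a := ⟨_, rfl⟩
  have hLc : L c = c := by rw [hc, hLi.add, hinv, add_comm]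
  have hc0 : c ≠ 0 := fun e => ha (F.form.eq_of_add_eq_zero (hc ▸ e))
  -- a lift of the product of the two transvections commuting with `y`
  obtain ⟨n₁, hn₁, hc₁⟩ := F.lift (L a)
  obtain ⟨n₂, hn₂, hc₂⟩ := F.lift a
  obtain ⟨σ, hσ⟩ : ∃ σ, σ = tr s (L a) ∘ tr s a := ⟨_, rfl⟩
  have hσc : Cj W (n₁ * n₂) σ := hσ ▸ hc₁.mul hc₂
  have trL : ∀ b x, L (tr s b x) = tr s (L b) (L x) := fun b x => by
    rcases z2 (s x b) with e | e
    · rw [tr_zero e, tr_zero (by rw [hLi.pres, e])]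
    · rw [tr_one e, tr_one (by rw [hLi.pres, e]), hLi.add]
  have trcomm : ∀ x, tr s (L a) (tr s a x) = tr s a (tr s (L a) x) := fun x => by
    have hsa' : s (L a) a = 0 := by rw [F.form.symm]; exact hsa
    rcases z2 (s x a) with e | e <;> rcases z2 (s x (L a)) with e' | e'
    · rw [tr_zero e, tr_zero e', tr_zero e]
    · rw [tr_zero e, tr_one e', tr_zero (by rw [F.form.add_left, e, hsa', add_zero])]
    · rw [tr_one e, tr_zero e', tr_one e, tr_zero (by rw [F.form.add_left, e', hsa, add_zero])]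
    · rw [tr_one e, tr_one e', tr_one (x := x + a) (by rw [F.form.add_left, e', hsa, add_zero]),
        tr_one (x := x + L a) (by rw [F.form.add_left, e, hsa', add_zero])]
      abel
  have hσL : ∀ x, L (σ x) = σ (L x) := fun x => by
    rw [hσ]; simp only [Function.comp_apply, trL, hinv]; rw [trcomm]
  have hσσ : ∀ x, σ (σ x) = x := fun x => by
    rw [hσ]; simp only [Function.comp_apply]; rw [← trcomm (tr s a x), F.form.tr_tr, F.form.tr_tr]
  obtain ⟨h₀, hh₀⟩ : ∃ h₀, h₀ = n₁ * n₂ := ⟨_, rfl⟩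
  rw [← hh₀] at hσc
  have hh₀N : h₀ ∈ N := hh₀ ▸ mul_mem hn₁ hn₂
  obtain ⟨t, ht⟩ := F.ker (h₀ * y * h₀⁻¹ * y) (mul_mem (mul_mem (mul_mem hh₀N hyN) (inv_mem hh₀N)) hyN) (by
    intro v
    obtain ⟨K, hK, -⟩ := F.act h₀⁻¹ (inv_mem hh₀N)
    have hKσ : ∀ x, σ (K x) = x := fun x =>
      congrFun (F.cj_uniq (hσc.mul hK) (show Cj W (h₀ * h₀⁻¹) id by rw [mul_inv_cancel]; exact cj_one W)) x
    rw [(((hσc.mul hL).mul hK).mul hL) v]
    simp only [Function.comp_apply, id]
    rw [← hσL, hKσ, hinv])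
  have htfix : L t = t := by
    have e1 : (h₀ * y * h₀⁻¹) = W t * y := by
      rw [← ht, mul_assoc _ y y, y2, mul_one]
    have e2 : W t * y * (W t * y) = 1 := by
      rw [← e1, show h₀ * y * h₀⁻¹ * (h₀ * y * h₀⁻¹) = h₀ * (y * y) * h₀⁻¹ by group, y2, mul_one, mul_inv_cancel]
    rw [mul_assoc, ← mul_assoc y (W t), F.cj_comm_W hL, mul_assoc _ y y, y2, mul_one, ← F.hom] at e2
    exact (F.form.eq_of_add_eq_zero (F.inj _ e2)).symm
  obtain ⟨u, hu⟩ := hU t htfix
  obtain ⟨h', hh'⟩ : ∃ h', h' = W u * h₀ := ⟨_, rfl⟩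
  have hh'N : h' ∈ N := hh' ▸ mul_mem (F.memN u) hh₀N
  have hh'c : Cj W h' σ := hh' ▸ (F.cj_W u).mul hσc
  have hh'y : h' * y = y * h' := by
    have e1 : h₀ * y = W t * y * h₀ := by
      rw [← ht, mul_assoc _ y y, y2, mul_one, inv_mul_cancel_right]
    rw [hh', mul_assoc, e1, ← mul_assoc, ← mul_assoc, ← F.hom, ← mul_assoc y, F.cj_comm_W hL]
    rw [show u + t = L u by rw [hu, add_comm, F.form.add_add_cancel]]
  have hp : IsPGroup 2 (Subgroup.zpowers h') := by
    obtain ⟨r, hr⟩ := F.ker (h' * h') (mul_mem hh'N hh'N) (fun v => by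
      rw [(hh'c.mul hh'c) v]; exact congrArg W (hσσ v))
    rintro ⟨_, k, rfl⟩
    refine ⟨2, Subtype.ext ?_⟩
    simp only [SubmonoidClass.coe_pow, OneMemClass.coe_one]
    rw [← zpow_natCast (h' ^ k), ← _root_.zpow_mul, mul_comm, _root_.zpow_mul, zpow_natCast,
      show h' ^ (2 ^ 2) = (h' * h') * (h' * h') by simp [pow_succ, mul_assoc], hr, F.sq, _root_.one_zpow]
  obtain ⟨q, S, hHS, hSN, hSy, hfix, hq1, hq2, hqy, hqN⟩ := F.exists_out hV h0 hy hyN hL hid hp
    (Subgroup.zpowers_le.2 hh'N) (fun x hx => by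
      obtain ⟨k, rfl⟩ := hx
      exact (Commute.zpow_left hh'y k).eq)
  have hh'S : h' ∈ S := hHS (Subgroup.mem_zpowers h')
  -- the action of `h'` on the fixed vectors through `q`
  obtain ⟨kk, hkk⟩ : ∃ kk, kk = q⁻¹ * h' * q := ⟨_, rfl⟩
  have hkkS : kk ∈ S := hkk ▸ hq2 _ hh'S
  obtain ⟨K, hK, -⟩ := F.act kk (hSN hkkS)
  have hKi := F.cj_isom (hSN hkkS) hK
  have hKA : ∀ v, L v = v → L (K v) = K v := fun v hv => by
    refine (F.commute_iff hL (K v)).1 ?_
    rw [← hK]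
    exact (hSy _ (mul_mem (mul_mem hkkS (hfix v hv)) (inv_mem hkkS))).symm
  have hqW : ∀ v, q * W (K v) * q⁻¹ = h' * (q * W v * q⁻¹) * h'⁻¹ := fun v => by
    rw [← hK, hkk]; group
  have hMv : ∀ v : A, q * W v * q⁻¹ ∈ N := fun v => hSN (hq1 _ (hfix v v.2))
  choose M hM hMs using fun v : A => F.act _ (hMv v)
  have hMA : ∀ v : A, ∀ w ∈ A, M v w = w := fun v w hw => (F.lf hyN hL hSN hfix hq1 hq2 hqN v.2 (hM v)).1 w hw
  have hK2 : ∀ v : A, K (K v) = v := fun v => by
    obtain ⟨r, hr⟩ := F.ker (h' * h') (mul_mem hh'N hh'N) (fun x => by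
      rw [(hh'c.mul hh'c) x]; exact congrArg W (hσσ x))
    have hrA : L r = r := by
      refine (F.commute_iff hL r).1 ?_
      rw [← hr]
      exact (Commute.mul_left hh'y hh'y).eq.symm
    have e1 : q * W (K (K v)) * q⁻¹ = q * W v * q⁻¹ := by
      rw [hqW, hqW, show h' * (h' * (q * W v * q⁻¹) * h'⁻¹) * h'⁻¹ = h' * h' * (q * W v * q⁻¹) * (h' * h')⁻¹ by
        group, hr, ← (F.commute_iff (hM v) r).2 (hMA v r hrA), mul_assoc, F.inv, mul_assoc, F.sq, mul_one]
    exact F.inj' (mul_left_cancel (mul_right_cancel e1))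
  -- two fixed vectors
  let τ : A →+ A := AddMonoidHom.mk' (fun v => ⟨K v + v, A.add_mem (hKA v v.2) v.2⟩) fun v w => Subtype.ext (by
    show K (v + w : V) + (v + w) = K v + v + (K w + w)
    rw [hKi.add]; abel)
  have hτ : τ.range ≤ τ.ker := by
    rintro _ ⟨v, rfl⟩
    refine Subtype.ext ?_
    show K (K v + v) + (K v + v) = 0
    rw [hKi.add, hK2, add_comm (v : V), F.form.two]
  have hτcard : 4 ≤ Nat.card τ.ker := by
    have h1 := AddSubgroup.card_eq_card_quotient_mul_card_addSubgroup τ.ker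
    rw [Nat.card_congr (QuotientAddGroup.quotientKerEquivRange τ).toEquiv, hA] at h1
    by_contra h3
    push Not at h3
    have hd : Nat.card τ.ker ∣ 8 := ⟨_, h1.trans (mul_comm _ _)⟩
    have hle2 : Nat.card τ.ker ≤ 2 := by
      by_contra h5
      have h33 : Nat.card τ.ker = 3 := by omega
      rw [h33] at hd
      omega
    have h2 := (AddSubgroup.card_le_of_le hτ)
    have := Nat.mul_le_mul (h2.trans hle2) hle2
    omega
  haveI := Fintype.ofFinite τ.ker
  obtain ⟨z₁, z₂, hz₁, hz₂, h12⟩ : ∃ z₁ z₂ : τ.ker, z₁ ≠ 0 ∧ z₂ ≠ 0 ∧ z₁ ≠ z₂ := by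
    have h1 : 1 < ((Finset.univ : Finset τ.ker).erase 0).card := by
      rw [Finset.card_erase_of_mem (Finset.mem_univ _), Finset.card_univ, ← Nat.card_eq_fintype_card]
      omega
    obtain ⟨z₁, h₁, z₂, h₂, hne⟩ := Finset.one_lt_card.1 h1
    exact ⟨z₁, z₂, Finset.ne_of_mem_erase h₁, Finset.ne_of_mem_erase h₂, hne⟩
  -- both move `a` to the same vector
  have main : ∀ v : A, v ≠ 0 → K v = v → M v a + a = c := by
    intro v hv hKv
    have hMi := F.cj_isom (hMv v) (hM v)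
    have hMid : M v ≠ id := fun e => hv (Subtype.ext ((F.lf hyN hL hSN hfix hq1 hq2 hqN v.2 (hM v)).2 e))
    have h2 : q * W v * q⁻¹ * (q * W v * q⁻¹) = 1 := by
      rw [show q * W v * q⁻¹ * (q * W v * q⁻¹) = q * (W v * W v) * q⁻¹ by group, F.sq, mul_one, mul_inv_cancel]
    obtain ⟨hA', -⟩ := F.fix_eq_eight hV (fun e => hv (Subtype.ext e)) rfl (hMv v) (hM v) hMi hMid
    have hAA : A = F.fixGrp hMi := AddSubgroup.eq_of_le_of_card_ge (fun w hw => hMA v w hw) (by rw [hA, hA'])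
    have hcomm : ∀ x, σ (M v x) = M v (σ x) := fun x => by
      refine congrFun (F.cj_uniq (K := M v ∘ σ) (hh'c.mul (hM v)) ?_) x
      have e : h' * (q * W v * q⁻¹) = q * W v * q⁻¹ * h' := by
        rw [← mul_inv_eq_iff_eq_mul, ← hqW, hKv]
      rw [e]; exact (hM v).mul hh'c
    obtain ⟨x, hx⟩ := F.form.exists_one hc0
    rw [F.form.symm, hc, F.form.add_right] at hx
    obtain ⟨d, hd⟩ : ∃ d, d = M v x + x := ⟨_, rfl⟩
    have hdA : L d = d := by
      have : d ∈ F.fixGrp hMi := by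
        show M v d = d
        rw [hd, hMi.add, F.cj_invol h2 (hM v), add_comm]
      rw [← hAA] at this
      exact this
    have hsd : s d (L a) = s d a := by conv_lhs => rw [← hdA, hLi.pres]
    have hσd : σ d = d ∨ σ d = d + c := by
      rw [hσ]; simp only [Function.comp_apply]
      rcases z2 (s d a) with e | e
      · left; rw [tr_zero e, tr_zero (hsd.trans e)]
      · right
        rw [tr_one e, tr_one (by rw [F.form.add_left, hsd, e, hsa, add_zero]), hc]; abel
    have hLa : M v (L a) + L a = M v a + a := by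
      have h1 : M v c = c := hMA v c hLc
      rw [hc, hMi.add] at h1
      calc M v (L a) + L a = (M v (L a) + M v a) + (M v a + L a) := by
            rw [add_assoc, ← add_assoc (M v a), F.form.two, zero_add]
        _ = L a + a + (M v a + L a) := by rw [h1]
        _ = (L a + L a) + (M v a + a) := by abel
        _ = M v a + a := by rw [F.form.two, zero_add]
    have hσx : σ x = x + a ∨ σ x = x + L a := by
      rw [hσ]; simp only [Function.comp_apply]
      rcases z2 (s x a) with e | e <;> rcases z2 (s x (L a)) with e' | e' <;> rw [e, e'] at hx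
      · exact absurd hx (by decide)
      · right; rw [tr_zero e, tr_one e']
      · left; rw [tr_one e, tr_zero (by rw [F.form.add_left, e', hsa, add_zero])]
      · exact absurd hx (by decide)
    have hMσ : M v (σ x) + σ x = d + (M v a + a) := by
      rcases hσx with e | e <;> rw [e, hMi.add, hd]
      · abel
      · rw [← hLa]; abel
    have hσd' : σ d = d + (M v a + a) := by
      rw [← hMσ, ← hcomm, hd, (F.cj_isom hh'N hh'c).add]
    have hne : M v a + a ≠ 0 := fun e => ha (by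
      have : a ∈ F.fixGrp hMi := F.form.eq_of_add_eq_zero e
      rw [← hAA] at this
      exact this)
    rcases hσd with e | e
    · exact absurd (left_eq_add.1 (e.symm.trans hσd')) hne
    · exact add_left_cancel (hσd'.symm.trans e)
  have hK1 : ∀ z : τ.ker, K z.1 = z.1 := fun z => F.form.eq_of_add_eq_zero (congrArg Subtype.val z.2)
  have hm1 := main z₁.1 (fun e => hz₁ (Subtype.ext e)) (hK1 z₁)
  have hm2 := main z₂.1 (fun e => hz₂ (Subtype.ext e)) (hK1 z₂)
  obtain ⟨v, hv⟩ : ∃ v : A, v = z₁.1 + z₂.1 := ⟨_, rfl⟩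
  have hv0 : v ≠ 0 := fun e => h12 (Subtype.ext (Subtype.ext (F.form.eq_of_add_eq_zero
    (congrArg Subtype.val (hv ▸ e)))))
  have hMi := F.cj_isom (hMv v) (hM v)
  have hMid : M v ≠ id := fun e => hv0 (Subtype.ext ((F.lf hyN hL hSN hfix hq1 hq2 hqN v.2 (hM v)).2 e))
  obtain ⟨hA', -⟩ := F.fix_eq_eight hV (fun e => hv0 (Subtype.ext e)) rfl (hMv v) (hM v) hMi hMid
  have hAA : A = F.fixGrp hMi := AddSubgroup.eq_of_le_of_card_ge (fun w hw => hMA v w hw) (by rw [hA, hA'])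
  have hcomp : M v = M z₁.1 ∘ M z₂.1 := by
    refine F.cj_uniq (hM v) ?_
    rw [show (v : V) = (z₁.1 : V) + (z₂.1 : V) from congrArg Subtype.val hv, F.hom,
      show q * (W z₁.1 * W z₂.1) * q⁻¹ = q * W z₁.1 * q⁻¹ * (q * W z₂.1 * q⁻¹) by group]
    exact (hM _).mul (hM _)
  suffices hfa : a ∈ F.fixGrp hMi by
    rw [← hAA] at hfa
    exact ha hfa
  show M v a = a
  have e2 : M z₂.1 a = a + c := by rw [← hm2, add_comm (M _ a), ← add_assoc, F.form.two, zero_add]
  have e1 : M z₁.1 a = a + c := by rw [← hm1, add_comm (M _ a), ← add_assoc, F.form.two, zero_add]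
  rw [hcomp, Function.comp_apply, e2, (F.cj_isom (hMv _) (hM z₁.1)).add, e1, hMA _ c hLc, F.form.add_add_cancel]

/-- An element moving a vector into the subgroup lies in it. -/
theorem ctrl (hV : Nat.card V = 64) {g : G} {v : V} (hv : v ≠ 0) (hg : g * W v * g⁻¹ ∈ N) : g ∈ N := by
  obtain ⟨v', e⟩ := F.weak hV hg
  exact F.cross hv e

end Fr

end CfsgLib.EightMax
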