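import Cfsg.Agent.Lib.EightMax.Pauli

/-!
Matrices inducing transvections on the Pauli matrices, their determinants, and surjectivity onto the isometries.
-/

set_option autoImplicit false
set_option linter.unusedSectionVars false

namespace CfsgLib.EightMax

open Matrix

variable {F : Type*} [Field F] {I : Type*} [Fintype I] [DecidableEq I] [AddCommGroup I]

/-- The factor making a Pauli matrix an involution. -/
def ec (i : F) (d : I → I → ZMod 2) (v : I × I) : F := if d v.2 v.1 = 0 then 1 else i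

/-- The involution at a vector. -/
def E (i : F) (d : I → I → ZMod 2) (v : I × I) : Matrix I I F := ec i d v • W F d v

/-- The matrix inducing the transvection at a vector. -/
def G (i : F) (d : I → I → ZMod 2) (v : I × I) : Matrix I I F := 1 + i • E i d v

namespace Dot

variable {d : I → I → ZMod 2} (D : Dot d) {i : F} (hi : i * i = -1)
include D hi

theorem i_ne : i ≠ 0 := fun e => by rw [e] at hi; simp at hi

theorem ec_sq (v : I × I) : ec i d v * ec i d v = sg2 F (d v.2 v.1) := by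
  rcases z2 (d v.2 v.1) with e | e <;> simp [ec, e, sg2_zero, sg2_one, hi]

theorem E_sq (v : I × I) : E i d v * E i d v = 1 := by
  rw [E, Matrix.smul_mul, Matrix.mul_smul, D.W_sq, smul_smul, smul_smul, D.ec_sq hi, sg2_self, one_smul]

theorem G_mul (v : I × I) : G i d v * (1 - i • E i d v) = (2 : F) • (1 : Matrix I I F) := by
  rw [G, Matrix.add_mul, Matrix.mul_sub, Matrix.mul_sub, Matrix.one_mul, Matrix.one_mul, Matrix.mul_one,
    Matrix.smul_mul, Matrix.mul_smul, D.E_sq hi, smul_smul, hi]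
  module

theorem G_unit (h2 : (2 : F) ≠ 0) (v : I × I) : IsUnit (G i d v) := by
  refine IsUnit.of_mul_eq_one ((2 : F)⁻¹ • (1 - i • E i d v)) ?_
  rw [Matrix.mul_smul, D.G_mul hi, smul_smul, inv_mul_cancel₀ h2, one_smul]

theorem G_act (v : I × I) : Act d (G i d v) (tr (pf d) v) := by
  intro w
  rcases z2 (pf d w v) with e | e
  · refine ⟨1, ?_⟩
    rw [tr_zero e, one_smul, G, Matrix.add_mul, Matrix.mul_add, Matrix.one_mul, Matrix.mul_one, Matrix.smul_mul,
      Matrix.mul_smul, E, Matrix.smul_mul, Matrix.mul_smul, D.W_comm w v, e, sg2_zero, one_smul]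
  · refine ⟨i * ec i d v * sg2 F (d v.2 w.1), ?_⟩
    rw [tr_one e, add_comm w v]
    have hEW : E i d v * W F d w = (ec i d v * sg2 F (d v.2 w.1)) • W F d (v + w) := by
      rw [E, Matrix.smul_mul, D.W_mul, smul_smul]
    have hWE : W F d w * E i d v = -(E i d v * W F d w) := by
      rw [E, Matrix.mul_smul, D.W_comm w v, e, sg2_one, Matrix.smul_mul, smul_smul, mul_neg, mul_one, neg_smul]
    have key : G i d v * W F d w = i • (E i d v * W F d w * G i d v) := by
      rw [G, Matrix.add_mul, Matrix.mul_add, Matrix.one_mul, Matrix.mul_one, Matrix.smul_mul, Matrix.mul_smul,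
        Matrix.mul_assoc (E i d v), hWE, Matrix.mul_neg, ← Matrix.mul_assoc (E i d v), D.E_sq hi, Matrix.one_mul,
        smul_add, smul_smul, hi]
      module
    rw [key, hEW, Matrix.smul_mul, smul_smul, ← mul_assoc]

/-- The involutions are conjugate as far as the action allows. -/
theorem E_conj (h2 : (2 : F) ≠ 0) {A : Matrix I I F} (hu : IsUnit A) {L : I × I → I × I} (hA : Act d A L)
    (v : I × I) : ∃ x : ZMod 2, A * E i d v = sg2 F x • (E i d (L v) * A) := by
  obtain ⟨c, hc⟩ := hA v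
  have hne : ec i d (L v) ≠ 0 := by
    rcases z2 (d (L v).2 (L v).1) with e | e <;> simp [ec, e, D.i_ne hi]
  have h1 : A * E i d v = (ec i d v * c * (ec i d (L v))⁻¹) • (E i d (L v) * A) := by
    rw [E, E, Matrix.mul_smul, hc, smul_smul, Matrix.smul_mul, smul_smul, mul_assoc (ec i d v * c),
      inv_mul_cancel₀ hne, mul_one]
  obtain ⟨k, hk⟩ : ∃ k, k = ec i d v * c * (ec i d (L v))⁻¹ := ⟨_, rfl⟩
  rw [← hk] at h1
  obtain ⟨x, rfl⟩ := exists_sg2 (show k * k = 1 by
    have hcc : c * c = sg2 F (d v.2 v.1) * sg2 F (d (L v).2 (L v).1) := D.act_sq hu hc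
    calc k * k = (ec i d v * ec i d v) * (c * c) * (ec i d (L v) * ec i d (L v))⁻¹ := by rw [hk, mul_inv]; ring
      _ = (sg2 F (d v.2 v.1) * sg2 F (d v.2 v.1)) * (sg2 F (d (L v).2 (L v).1) * (sg2 F (d (L v).2 (L v).1))⁻¹) := by
          rw [D.ec_sq hi, D.ec_sq hi, hcc]; ring
      _ = 1 := by rw [sg2_self, mul_inv_cancel₀ (sg2_ne _), one_mul])
  exact ⟨x, h1⟩

theorem exists_move (h2 : (2 : F) ≠ 0) {v w : I × I} (hv : v ≠ 0) (hw : w ≠ 0) :
    ∃ (A : Matrix I I F) (L : I × I → I × I), IsUnit A ∧ Act d A L ∧ L v = w := by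
  obtain ⟨z, h1, h1'⟩ := D.sform.exists_one_one hv hw
  refine ⟨_, _, (D.G_unit hi h2 (z + w)).mul (D.G_unit hi h2 (v + z)), (D.G_act hi _).comp (D.G_act hi _), ?_⟩
  rw [Function.comp_apply, D.sform.tr_move h1, D.sform.tr_move (by rw [D.sform.symm, h1'])]

theorem G_det_eq (h2 : (2 : F) ≠ 0) {v w : I × I} (hv : v ≠ 0) (hw : w ≠ 0) :
    (G i d v).det = (G i d w).det := by
  obtain ⟨A, L, hu, hA, hL⟩ := D.exists_move hi h2 hv hw
  obtain ⟨x, hx⟩ := D.E_conj hi h2 hu hA v
  rw [hL] at hx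
  obtain ⟨B, hB, hBx⟩ : ∃ B : Matrix I I F, IsUnit B ∧ B * E i d v = E i d w * B := by
    rcases z2 x with rfl | rfl
    · exact ⟨A, hu, by rwa [sg2_zero, one_smul] at hx⟩
    · obtain ⟨u, hu'⟩ := D.sform.exists_one hw
      refine ⟨W F d u * A, (D.isUnit u).mul hu, ?_⟩
      rw [Matrix.mul_assoc, hx, Matrix.mul_smul, ← Matrix.mul_assoc, E, Matrix.mul_smul, Matrix.smul_mul,
        D.W_comm u w, D.sform.symm u w, hu', Matrix.smul_mul, smul_smul, smul_smul, Matrix.smul_mul,
        Matrix.mul_assoc, sg2_one]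
      congr 1
      ring
  have hBG : B * G i d v = G i d w * B := by
    rw [G, G, Matrix.mul_add, Matrix.add_mul, Matrix.mul_one, Matrix.one_mul, Matrix.mul_smul, Matrix.smul_mul, hBx]
  have := congrArg Matrix.det hBG
  rw [det_mul, det_mul, mul_comm (G i d w).det] at this
  exact mul_left_cancel₀ ((Matrix.isUnit_iff_isUnit_det _).1 hB).ne_zero this

theorem W_det_eq (h2 : (2 : F) ≠ 0) (hn : 4 ∣ Fintype.card I) {v w : I × I} (hv : v ≠ 0) (hw : w ≠ 0) :
    (W F d v).det = (W F d w).det := by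
  obtain ⟨A, L, hu, hA, hL⟩ := D.exists_move hi h2 hv hw
  obtain ⟨c, hc⟩ := hA v
  rw [hL] at hc
  have := congrArg Matrix.det hc
  obtain ⟨k, hk⟩ := hn
  rw [det_mul, det_smul, det_mul, hk, pow_mul, D.act_pow_four hu (by exact hc), one_pow, one_mul,
    mul_comm (W F d w).det] at this
  exact mul_left_cancel₀ ((Matrix.isUnit_iff_isUnit_det _).1 hu).ne_zero this

/-- Every isometry is induced, with the determinant a power of that of one transvection. -/
theorem exists_lift [Finite I] (h2 : (2 : F) ≠ 0) {v₀ : I × I} (h0 : v₀ ≠ 0) {L : I × I → I × I}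
    (hL : Isom (pf d) L) : ∃ (A : Matrix I I F) (m : ℕ), IsUnit A ∧ Act d A L ∧ A.det = (G i d v₀).det ^ m := by
  refine D.sform.isom_induction (fun L => ∃ (A : Matrix I I F) (m : ℕ), IsUnit A ∧ Act d A L ∧
    A.det = (G i d v₀).det ^ m) ⟨1, 0, isUnit_one, act_one d, by rw [det_one, pow_zero]⟩ ?_ L hL
  rintro a L ⟨A, m, hu, hA, hd⟩
  by_cases ha : a = 0
  · subst ha
    refine ⟨A, m, hu, ?_, hd⟩
    rwa [show tr (pf d) 0 ∘ L = L from funext fun x => tr_zero (D.sform.zero_right _)]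
  exact ⟨G i d a * A, m + 1, (D.G_unit hi h2 a).mul hu, (D.G_act hi a).comp hA,
    by rw [det_mul, hd, D.G_det_eq hi h2 ha h0, pow_succ, mul_comm]⟩

end Dot

end CfsgLib.EightMax
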