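import Cfsg.Agent.Lib.Classical.SubspaceStab
import Cfsg.Agent.Lib.Classical.DecompMax
import Cfsg.Agent.Lib.Classical.LinExtField.Maximal
import Cfsg.Agent.Lib.Classical.LinearSubfield
import Cfsg.Agent.Lib.Classical.LinearSymp
import Cfsg.Agent.Lib.Classical.LinearHerm
import Cfsg.Agent.Lib.Classical.GeometricLinear

/-!
The geometric maximal subgroups of `SL_8(q)` other than the normaliser of a group of symplectic type.
-/

set_option autoImplicit false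

namespace CfsgLib.EightMaxLin

open Cfsg

variable {F : Type*} [Field F] [Fintype F]

local notation "L₈" => Cfsg.Geo.specialLinear (Fin 8) F

theorem subspace (W : Submodule F (Fin 8 → F)) (h0 : W ≠ ⊥) (h1 : W ≠ ⊤) :
    Cfsg.Geo.IsMaximalIn L₈ (Cfsg.Geo.subspaceStabilizer W ⊓ L₈) :=
  CfsgLib.Classical.MinIndex.isMaximalIn_stab h0 h1

theorem lines (hq : 5 ≤ Fintype.card F) (D : Fin 8 → Submodule F (Fin 8 → F))
    (hD : Cfsg.Geo.IsMDecomposition 1 D) :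
    Cfsg.Geo.IsMaximalIn L₈ (Cfsg.Geo.decompositionStabilizer D ⊓ L₈) :=
  CfsgLib.Classical.DecompMax.isMaximalIn (by norm_num) hD (by omega) (by omega)

theorem planes (hq : 3 ≤ Fintype.card F) (D : Fin 4 → Submodule F (Fin 8 → F))
    (hD : Cfsg.Geo.IsMDecomposition 2 D) :
    Cfsg.Geo.IsMaximalIn L₈ (Cfsg.Geo.decompositionStabilizer D ⊓ L₈) :=
  CfsgLib.Classical.DecompMax.isMaximalIn (by norm_num) hD (by omega) (by omega)

theorem halves (D : Fin 2 → Submodule F (Fin 8 → F)) (hD : Cfsg.Geo.IsMDecomposition 4 D) :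
    Cfsg.Geo.IsMaximalIn L₈ (Cfsg.Geo.decompositionStabilizer D ⊓ L₈) :=
  CfsgLib.Classical.DecompMax.isMaximalIn (by norm_num) hD (by omega) (by omega)

theorem extensionField (K : Subalgebra F (Matrix (Fin 8) (Fin 8) F))
    (hK : Cfsg.Geo.IsFieldSubalgebra 2 K) :
    Cfsg.Geo.IsMaximalIn L₈ (Cfsg.Geo.subalgebraNormalizer K ⊓ L₈) :=
  (CfsgLib.LinExt.isMaximal (r := 2) Nat.prime_two (by simp) K hK).2

theorem tensor (hq : 3 ≤ Fintype.card F) (e : Fin 8 ≃ Fin 2 × Fin 4)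
    (P : Matrix.GeneralLinearGroup (Fin 8) F) :
    Cfsg.Geo.IsMaximalIn L₈ (Cfsg.Geo.tensorProductSubgroup 2 4 e P ⊓ L₈) :=
  CfsgLib.Classical.GeometricLinear.tensor_two (by norm_num) hq e P

theorem subfield (F₀ : Subfield F) (r : ℕ) (P : Matrix.GeneralLinearGroup (Fin 8) F) (hr : r.Prime)
    (hc : Fintype.card F = Nat.card F₀ ^ r) :
    Cfsg.Geo.IsMaximalIn L₈ (Cfsg.Geo.subfieldSubgroup F₀ P ⊓ L₈) :=
  CfsgLib.Classical.MinIndex.Subfield.isMaximalIn_subfield hr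
    (by rw [Nat.card_eq_fintype_card (α := F)]; exact hc) (by norm_num) P

theorem orthogonal (hodd : Odd (Fintype.card F)) (Q : (Fin 8 → F) → F)
    (hQ : Cfsg.Geo.IsNondegenerateQuadraticForm Q) :
    Cfsg.Geo.IsMaximalIn L₈ (Cfsg.Geo.quadSimilarityGroup Q ⊓ L₈) :=
  CfsgLib.Classical.GeometricLinear.quad (by norm_num) hodd Q hQ

theorem symplectic (f : (Fin 8 → F) → (Fin 8 → F) → F) (hf : Cfsg.Geo.IsSymplecticForm f) :
    Cfsg.Geo.IsMaximalIn L₈ (Cfsg.Geo.similarityGroup f ⊓ L₈) :=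
  CfsgLib.Classical.MinIndex.isMaximalIn_sim hf (by norm_num)

theorem unitary (σ : F ≃+* F) (f : (Fin 8 → F) → (Fin 8 → F) → F) (hf : Cfsg.Geo.IsUnitaryForm σ f) :
    Cfsg.Geo.IsMaximalIn L₈ (Cfsg.Geo.similarityGroup f ⊓ L₈) :=
  CfsgLib.Classical.HermSim.isMaximalIn (by norm_num) σ f hf

end CfsgLib.EightMaxLin
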