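import Cfsg.Agent.Lib.EightMax.Qubits

/-!
A set of matrices with the properties of a symplectic-type two-group with absolutely irreducible action on eight
points is, after a change of basis, the standard one.
-/

set_option autoImplicit false
set_option linter.unusedSectionVars false
set_option maxHeartbeats 1000000

namespace CfsgLib.EightMax

open Matrix

variable {F : Type*} [Field F] {J : Type*} [Fintype J] [DecidableEq J]

/-- The properties used. -/
structure TwoSet (i : F) (S : Set (Matrix J J F)) : Prop where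
  two : (2 : F) ≠ 0
  isq : i * i = -1
  mul : ∀ X ∈ S, ∀ Y ∈ S, X * Y ∈ S
  mem_i : i • (1 : Matrix J J F) ∈ S
  sq : ∀ X ∈ S, X * X = 1 ∨ X * X = -1
  comm : ∀ X ∈ S, ∀ Y ∈ S, X * Y = Y * X ∨ X * Y = -(Y * X)
  scal : ∀ A : Matrix J J F, (∀ X ∈ S, A * X = X * A) → ∃ c : F, A = c • 1
  irr : ∀ U : Submodule F (J → F), (∀ X ∈ S, ∀ x ∈ U, X *ᵥ x ∈ U) → U = ⊥ ∨ U = ⊤

/-- Pairs of anticommuting involutions. -/
structure Pairs {I : Type*} [Fintype I] [DecidableEq I] [AddCommGroup I] (S : Set (Matrix J J F))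
    (d : I → I → ZMod 2) (A B : I → Matrix J J F) : Prop where
  dot : Dot d
  memA : ∀ x, A x ∈ S
  memB : ∀ x, B x ∈ S
  homA : ∀ x y, A (x + y) = A x * A y
  homB : ∀ x y, B (x + y) = B x * B y
  zeroA : A 0 = 1
  zeroB : B 0 = 1
  cross : ∀ x y, A x * B y = sg2 F (d x y) • (B y * A x)

theorem char_sum {I : Type*} [Fintype I] [DecidableEq I] [AddCommGroup I] {d : I → I → ZMod 2} (D : Dot d)
    (h2 : (2 : F) ≠ 0) (y : I) :
    (∑ x, sg2 F (d y x)) = if y = 0 then (Fintype.card I : F) else 0 := by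
  by_cases hy : y = 0
  · subst hy; simp [D.zero_left, sg2_zero]
  rw [if_neg hy]
  obtain ⟨x0, hx0⟩ : ∃ x0, d y x0 = 1 := by
    by_contra hall
    push Not at hall
    exact hy (D.nondeg y fun x => (z2 _).resolve_right (hall x))
  have e : (∑ x, sg2 F (d y x)) = -∑ x, sg2 F (d y x) := by
    conv_lhs => rw [← Equiv.sum_comp (Equiv.addRight x0)]
    rw [← Finset.sum_neg_distrib]
    refine Finset.sum_congr rfl fun x _ => ?_
    simp [D.add_right, hx0, sg2_add, sg2_one]
  exact (mul_eq_zero.1 (show (2 : F) * ∑ x, sg2 F (d y x) = 0 by linear_combination e)).resolve_left h2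

namespace TwoSet

variable {i : F} {S : Set (Matrix J J F)} (T : TwoSet i S)
include T

theorem neg_mem : (-1 : Matrix J J F) ∈ S := by
  have := T.mul _ T.mem_i _ T.mem_i
  rwa [Matrix.smul_mul, Matrix.one_mul, smul_smul, T.isq, neg_one_smul] at this

theorem one_mem : (1 : Matrix J J F) ∈ S := by
  have := T.mul _ T.neg_mem _ T.neg_mem
  rwa [neg_mul_neg, Matrix.one_mul] at this

theorem smul_mem {c : F} (hc : c ^ 4 = 1) {X : Matrix J J F} (hX : X ∈ S) : c • X ∈ S := by
  have hi : ∀ {Y : Matrix J J F}, Y ∈ S → i • Y ∈ S := fun {Y} hY => by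
    have := T.mul _ T.mem_i _ hY
    rwa [Matrix.smul_mul, Matrix.one_mul] at this
  rcases mul_self_eq_one_iff.1 (show c * c * (c * c) = 1 by rw [← hc]; ring) with h | h
  · rcases mul_self_eq_one_iff.1 h with rfl | rfl
    · rwa [one_smul]
    · have := hi (hi hX)
      rwa [smul_smul, T.isq] at this
  · have : (c - i) * (c + i) = 0 := by linear_combination h - T.isq
    rcases mul_eq_zero.1 this with h | h
    · rw [sub_eq_zero.1 h]; exact hi hX
    · rw [eq_neg_of_add_eq_zero_left h, show -i = i * i * i by rw [T.isq, neg_one_mul], ← smul_smul, ← smul_smul]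
      exact hi (hi (hi hX))

theorem isUnit {X : Matrix J J F} (hX : X ∈ S) : IsUnit X := by
  rcases T.sq X hX with e | e
  · exact IsUnit.of_mul_eq_one X e
  · exact IsUnit.of_mul_eq_one (-X) (by rw [Matrix.mul_neg, e, neg_neg])

theorem sign {X Y : Matrix J J F} (hX : X ∈ S) (hY : Y ∈ S) : ∃ e : ZMod 2, X * Y = sg2 F e • (Y * X) := by
  rcases T.comm X hX Y hY with e | e
  · exact ⟨0, by rw [sg2_zero, one_smul, e]⟩
  · exact ⟨1, by rw [sg2_one, neg_one_smul, e]⟩

theorem sign_inj [Nonempty J] {X : Matrix J J F} (hX : IsUnit X) {e e' : ZMod 2}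
    (h : sg2 F e • X = sg2 F e' • X) : e = e' :=
  sg2_inj T.two (smul_left_injective F hX.ne_zero h)

variable {I : Type*} [Fintype I] [DecidableEq I] [AddCommGroup I] {d : I → I → ZMod 2}
  {A B : I → Matrix J J F} (P : Pairs S d A B)
include P

/-- Correcting an element into the centraliser of the pairs. -/
theorem correct [Nonempty J] {g : Matrix J J F} (hg : g ∈ S) :
    ∃ g' ∈ S, (∀ x, g' * A x = A x * g') ∧ (∀ x, g' * B x = B x * g') ∧ ∃ z y, g = g' * (A z * B y) := by
  have invA : ∀ x, A x * A x = 1 := fun x => by rw [← P.homA, P.dot.two, P.zeroA]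
  have invB : ∀ x, B x * B x = 1 := fun x => by rw [← P.homB, P.dot.two, P.zeroB]
  choose f hf using fun x => T.sign hg (P.memA x)
  choose f' hf' using fun x => T.sign hg (P.memB x)
  have add : ∀ (C : I → Matrix J J F) (f : I → ZMod 2), (∀ x, C x ∈ S) → (∀ x y, C (x + y) = C x * C y) →
      (∀ x, g * C x = sg2 F (f x) • (C x * g)) → ∀ x y, f (x + y) = f x + f y := by
    intro C f hC hC' hf x y
    refine T.sign_inj (T.isUnit (T.mul _ (T.mul _ (hC x) _ (hC y)) _ hg)) ?_
    rw [← hC', ← hf, hC', ← Matrix.mul_assoc, hf, Matrix.smul_mul, Matrix.mul_assoc, hf, Matrix.mul_smul, smul_smul,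
      sg2_add, ← Matrix.mul_assoc]
  obtain ⟨y, hy⟩ := P.dot.dual f (add A f P.memA P.homA hf)
  obtain ⟨z, hz⟩ := P.dot.dual f' (add B f' P.memB P.homB hf')
  refine ⟨g * B y * A z, T.mul _ (T.mul _ hg _ (P.memB y)) _ (P.memA z), fun x => ?_, fun x => ?_, z, y, ?_⟩
  · calc g * B y * A z * A x = g * (B y * A x) * A z := by
          simp only [Matrix.mul_assoc]; rw [← P.homA z x, ← P.homA x z, add_comm z x]
      _ = sg2 F (d x y) • (g * A x * B y * A z) := by
          have : B y * A x = sg2 F (d x y) • (A x * B y) := by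
            rw [P.cross, smul_smul, sg2_self, one_smul]
          rw [this, Matrix.mul_smul, Matrix.smul_mul, ← Matrix.mul_assoc g]
      _ = A x * (g * B y * A z) := by
          rw [hf, Matrix.smul_mul, Matrix.smul_mul, smul_smul, ← hy x, P.dot.symm x y, sg2_self, one_smul]
          simp only [Matrix.mul_assoc]
  · calc g * B y * A z * B x = g * B y * (A z * B x) := Matrix.mul_assoc _ _ _
      _ = sg2 F (d z x) • (g * (B y * B x) * A z) := by
          rw [P.cross, Matrix.mul_smul]; simp only [Matrix.mul_assoc]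
      _ = sg2 F (d z x) • (g * B x * (B y * A z)) := by
          rw [← P.homB, add_comm, P.homB]; simp only [Matrix.mul_assoc]
      _ = B x * (g * B y * A z) := by
          rw [hf', Matrix.smul_mul, smul_smul, hz, sg2_self, one_smul]
          simp only [Matrix.mul_assoc]
  · simp only [Matrix.mul_assoc]
    rw [← Matrix.mul_assoc (A z) (A z), invA, Matrix.one_mul, invB, Matrix.mul_one]

/-- A common fixed vector. -/
theorem fixed [Nonempty J] (hcard : (Fintype.card I : F) ≠ 0) : ∃ v : J → F, v ≠ 0 ∧ ∀ x, A x *ᵥ v = v := by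
  obtain ⟨u, hu⟩ : ∃ u : J → F, u ≠ 0 := ⟨fun _ => 1, fun e => one_ne_zero (congrFun e (Classical.arbitrary J))⟩
  obtain ⟨y, hy⟩ : ∃ y, (∑ x, sg2 F (d y x) • (A x *ᵥ u)) ≠ 0 := by
    by_contra hall
    push Not at hall
    have h := Finset.sum_eq_zero (s := (Finset.univ : Finset I)) fun y _ => hall y
    rw [Finset.sum_comm] at h
    simp only [← Finset.sum_smul] at h
    have hs : ∀ x, (∑ y, sg2 F (d y x)) = if x = 0 then (Fintype.card I : F) else 0 := fun x => by
      rw [← char_sum P.dot T.two x]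
      exact Finset.sum_congr rfl fun y _ => by rw [P.dot.symm]
    simp only [hs, ite_smul, zero_smul, Finset.sum_ite_eq', Finset.mem_univ, if_true, P.zeroA, Matrix.one_mulVec] at h
    exact hu ((smul_eq_zero.1 h).resolve_left hcard)
  obtain ⟨w, hw⟩ : ∃ w, w = ∑ x, sg2 F (d y x) • (A x *ᵥ u) := ⟨_, rfl⟩
  rw [← hw] at hy
  have hAw : ∀ x, A x *ᵥ w = sg2 F (d y x) • w := by
    intro x
    rw [hw, Matrix.mulVec_sum, Finset.smul_sum]
    conv_rhs => rw [← Equiv.sum_comp (Equiv.addRight x)]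
    refine Finset.sum_congr rfl fun z _ => ?_
    rw [Matrix.mulVec_smul, Matrix.mulVec_mulVec, ← P.homA, smul_smul, Equiv.coe_addRight, P.dot.add_right,
      sg2_add, mul_left_comm, sg2_self, mul_one, add_comm]
  refine ⟨B y *ᵥ w, fun e => hy ?_, fun x => ?_⟩
  · exact (Matrix.mulVec_injective_iff_isUnit.2 (T.isUnit (P.memB y))) (e.trans (Matrix.mulVec_zero _).symm)
  · rw [Matrix.mulVec_mulVec, P.cross, Matrix.smul_mulVec, ← Matrix.mulVec_mulVec, hAw, Matrix.mulVec_smul, smul_smul,
      P.dot.symm x y, sg2_self, one_smul]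

/-- One more pair. -/
theorem extend [Nonempty J] (hcard : (Fintype.card I : F) ≠ 0) (hlt : Fintype.card I < Fintype.card J) :
    ∃ (A' B' : I × ZMod 2 → Matrix J J F), Pairs S (fun p q => d p.1 q.1 + p.2 * q.2) A' B' := by
  obtain ⟨a, b, ha, hb, a2, b2, hab, haA, haB, hbA, hbB⟩ : ∃ a b, a ∈ S ∧ b ∈ S ∧ a * a = 1 ∧ b * b = 1 ∧
      a * b = -(b * a) ∧ (∀ x, a * A x = A x * a) ∧ (∀ x, a * B x = B x * a) ∧
      (∀ x, b * A x = A x * b) ∧ (∀ x, b * B x = B x * b) := by
    by_cases hall : ∀ a ∈ S, ∀ b ∈ S, (∀ x, a * A x = A x * a) → (∀ x, a * B x = B x * a) →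
        (∀ x, b * A x = A x * b) → (∀ x, b * B x = B x * b) → a * b = b * a
    · exfalso
      have hsc : ∀ a ∈ S, (∀ x, a * A x = A x * a) → (∀ x, a * B x = B x * a) → ∃ c : F, a = c • 1 := by
        intro a ha hA hB
        refine T.scal a fun g hg => ?_
        obtain ⟨g', hg', h1, h2, z, y, rfl⟩ := T.correct P hg
        rw [← Matrix.mul_assoc, hall a ha g' hg' hA hB h1 h2, Matrix.mul_assoc, ← Matrix.mul_assoc a, hA,
          Matrix.mul_assoc, hB]
        simp only [Matrix.mul_assoc]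
      obtain ⟨v, hv, hAv⟩ := T.fixed P hcard
      obtain ⟨U, hU⟩ : ∃ U, U = Submodule.span F (Set.range fun x => B x *ᵥ v) := ⟨_, rfl⟩
      have mem : ∀ x, B x *ᵥ v ∈ U := fun x => hU ▸ Submodule.subset_span ⟨x, rfl⟩
      rcases T.irr U (by
        intro g hg u hu
        obtain ⟨g', hg', h1, h2, z, y, rfl⟩ := T.correct P hg
        obtain ⟨c, rfl⟩ := hsc g' hg' h1 h2
        rw [Matrix.smul_mul, Matrix.one_mul, Matrix.smul_mulVec]
        refine Submodule.smul_mem _ c ?_
        rw [hU] at hu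
        induction hu using Submodule.span_induction with
        | mem w hw =>
          obtain ⟨x, rfl⟩ := hw
          simp only
          rw [Matrix.mulVec_mulVec, Matrix.mul_assoc, ← P.homB, P.cross, Matrix.smul_mulVec,
            ← Matrix.mulVec_mulVec, hAv]
          exact Submodule.smul_mem _ _ (mem _)
        | zero => rw [Matrix.mulVec_zero]; exact zero_mem _
        | add w w' _ _ hw hw' => rw [Matrix.mulVec_add]; exact add_mem hw hw'
        | smul t w _ hw => rw [Matrix.mulVec_smul]; exact Submodule.smul_mem _ t hw) with e | e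
      · have := mem 0
        rw [e, Submodule.mem_bot, P.zeroB, Matrix.one_mulVec] at this
        exact hv this
      · have h1 : Module.finrank F U ≤ Fintype.card I := hU ▸ finrank_range_le_card _
        rw [e, finrank_top, Module.finrank_fintype_fun_eq_card] at h1
        omega
    · push Not at hall
      obtain ⟨a, ha, b, hb, haA, haB, hbA, hbB, hne⟩ := hall
      have hi4 : i ^ 4 = 1 := by linear_combination (i * i - 1) * T.isq
      have norm : ∀ a ∈ S, ∃ k : F, k ≠ 0 ∧ k • a ∈ S ∧ (k • a) * (k • a) = 1 := by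
        intro a ha
        rcases T.sq a ha with e | e
        · exact ⟨1, one_ne_zero, by rwa [one_smul], by rw [one_smul, e]⟩
        · refine ⟨i, fun e0 => ?_, T.smul_mem hi4 ha, ?_⟩
          · have := T.isq; rw [e0] at this; simp at this
          · rw [Matrix.smul_mul, Matrix.mul_smul, smul_smul, e, T.isq, neg_one_smul, neg_neg]
      obtain ⟨k, -, hka, hka2⟩ := norm a ha
      obtain ⟨l, -, hlb, hlb2⟩ := norm b hb
      refine ⟨k • a, l • b, hka, hlb, hka2, hlb2, ?_, ?_, ?_, ?_, ?_⟩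
      · rw [Matrix.smul_mul, Matrix.mul_smul, (T.comm a ha b hb).resolve_left hne]
        simp only [Matrix.smul_mul, Matrix.mul_smul, smul_smul, smul_neg, mul_comm]
      all_goals intro x; rw [Matrix.smul_mul, Matrix.mul_smul]
      · rw [haA]
      · rw [haB]
      · rw [hbA]
      · rw [hbB]
  obtain ⟨pa, hpa⟩ : ∃ pa : ZMod 2 → Matrix J J F, pa = fun t => if t = 0 then 1 else a := ⟨_, rfl⟩
  obtain ⟨pb, hpb⟩ : ∃ pb : ZMod 2 → Matrix J J F, pb = fun t => if t = 0 then 1 else b := ⟨_, rfl⟩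
  refine ⟨fun p => A p.1 * pa p.2, fun p => B p.1 * pb p.2, ?_⟩
  have D := P.dot
  have k1 : ∀ t, ∀ x, pa t * A x = A x * pa t ∧ pa t * B x = B x * pa t ∧ pb t * A x = A x * pb t ∧
      pb t * B x = B x * pb t := fun t x => by
    rcases z2 t with rfl | rfl <;> simp [hpa, hpb, haA, haB, hbA, hbB]
  have k2 : ∀ s t, pa (s + t) = pa s * pa t ∧ pb (s + t) = pb s * pb t ∧
      pa s * pb t = sg2 F (s * t) • (pb t * pa s) := fun s t => by
    rcases z2 s with rfl | rfl <;> rcases z2 t with rfl | rfl <;>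
      simp [hpa, hpb, a2, b2, sg2_zero, sg2_one, hab, show (1 : ZMod 2) + 1 = 0 from rfl]
  constructor
  · exact
    { two := fun p => Prod.ext (D.two _) (CharTwo.add_self_eq_zero _)
      add_left := fun p q r => by simp only [Prod.fst_add, Prod.snd_add, D.add_left]; ring
      symm := fun p q => by simp only [D.symm p.1]; ring
      nondeg := fun p hp => Prod.ext (D.nondeg _ fun y => by simpa [D.zero_right] using hp (y, 0))
        (by simpa [D.zero_right] using hp (0, 1))
      dual := fun f hf => by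
        obtain ⟨y, hy⟩ := D.dual (fun x => f (x, 0)) fun u w => by rw [← hf]; simp
        refine ⟨(y, f (0, 1)), fun p => ?_⟩
        have h0 : f 0 = 0 := by
          have := hf 0 0
          rw [add_zero] at this
          exact left_eq_add.1 this
        obtain ⟨x, t⟩ := p
        rcases z2 t with rfl | rfl
        · simp [hy]
        · rw [show ((x, 1) : I × ZMod 2) = (x, 0) + (0, 1) by simp, hf, ← hy]; simp }
  · intro p; rcases z2 p.2 with e | e <;> simp [hpa, e, P.memA, T.mul _ (P.memA p.1) _ ha]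
  · intro p; rcases z2 p.2 with e | e <;> simp [hpb, e, P.memB, T.mul _ (P.memB p.1) _ hb]
  · intro p q
    simp only [Prod.fst_add, Prod.snd_add, P.homA, (k2 p.2 q.2).1, Matrix.mul_assoc]
    rw [← Matrix.mul_assoc (A q.1), ← (k1 p.2 q.1).1, Matrix.mul_assoc]
  · intro p q
    simp only [Prod.fst_add, Prod.snd_add, P.homB, (k2 p.2 q.2).2.1, Matrix.mul_assoc]
    rw [← Matrix.mul_assoc (B q.1), ← (k1 p.2 q.1).2.2.2, Matrix.mul_assoc]
  · simp [hpa, P.zeroA]
  · simp [hpb, P.zeroB]
  · intro p q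
    calc A p.1 * pa p.2 * (B q.1 * pb q.2) = A p.1 * B q.1 * (pa p.2 * pb q.2) := by
          simp only [Matrix.mul_assoc]
          rw [← Matrix.mul_assoc (pa p.2), (k1 p.2 q.1).2.1, Matrix.mul_assoc]
      _ = sg2 F (d p.1 q.1 + p.2 * q.2) • (B q.1 * A p.1 * (pb q.2 * pa p.2)) := by
          rw [P.cross, (k2 p.2 q.2).2.2, Matrix.smul_mul, Matrix.mul_smul, smul_smul, sg2_add]
      _ = _ := by
          simp only [Matrix.mul_assoc]
          rw [← Matrix.mul_assoc (A p.1), ← (k1 q.2 p.1).2.2.1, Matrix.mul_assoc]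

end TwoSet

variable {i : F} {S : Set (Matrix I8 I8 F)}

/-- The standard form. -/
theorem standard (T : TwoSet i S) : ∃ P : GL I8 F, ∀ X, X ∈ S ↔ ∃ (c : F) (v : I8 × I8), c ^ 4 = 1 ∧
    X * (P : Matrix I8 I8 F) = c • ((P : Matrix I8 I8 F) * W F d8 v) := by
  classical
  have h2 := T.two
  have P0 : Pairs S (fun _ _ : Unit => (0 : ZMod 2)) (fun _ => (1 : Matrix I8 I8 F)) fun _ => 1 :=
    { dot := ⟨fun _ => rfl, fun _ _ _ => by simp, fun _ _ => rfl, fun _ _ => rfl,
        fun f hf => ⟨(), fun x => by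
          have := hf () ()
          exact (left_eq_add.1 this).symm⟩⟩
      memA := fun _ => T.one_mem
      memB := fun _ => T.one_mem
      homA := fun _ _ => (Matrix.one_mul _).symm
      homB := fun _ _ => (Matrix.one_mul _).symm
      zeroA := rfl
      zeroB := rfl
      cross := fun _ _ => by rw [sg2_zero, one_smul] }
  obtain ⟨A1, B1, P1'⟩ := T.extend P0 (by simp) (by simp)
  have P1 : Pairs S (fun x y : ZMod 2 => x * y) (fun x => A1 ((), x)) fun x => B1 ((), x) :=
    { dot := ⟨by decide, fun _ _ _ => by ring, fun _ _ => mul_comm _ _, by decide,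
        fun f hf => ⟨f 1, fun x => by
          have h0 : f 0 = 0 := by
            have := hf 0 0
            rw [add_zero] at this
            exact left_eq_add.1 this
          rcases z2 x with rfl | rfl <;> simp [h0]⟩⟩
      memA := fun _ => P1'.memA _
      memB := fun _ => P1'.memB _
      homA := fun x y => P1'.homA ((), x) ((), y)
      homB := fun x y => P1'.homB ((), x) ((), y)
      zeroA := P1'.zeroA
      zeroB := P1'.zeroB
      cross := fun x y => by simpa using P1'.cross ((), x) ((), y) }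
  obtain ⟨A2, B2', P2⟩ := T.extend P1 (by simpa using h2) (by simp)
  obtain ⟨A, B, P3'⟩ := T.extend P2 (by
    rw [Fintype.card_prod, ZMod.card]; rw [Nat.cast_mul]; exact mul_ne_zero h2 h2) (by simp)
  have P3 : Pairs S d8 A B := P3'
  have h8 : (Fintype.card I8 : F) ≠ 0 := by
    rw [Fintype.card_prod, Fintype.card_prod, ZMod.card, Nat.cast_mul, Nat.cast_mul]
    exact mul_ne_zero (mul_ne_zero h2 h2) h2
  obtain ⟨v, hv, hAv⟩ := T.fixed P3 h8
  obtain ⟨Q, hQ⟩ : ∃ Q : Matrix I8 I8 F, Q = Matrix.of fun r x => (B x *ᵥ v) r := ⟨_, rfl⟩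
  have col : ∀ (X : Matrix I8 I8 F) (r x : I8), (X * Q) r x = (X *ᵥ (B x *ᵥ v)) r := fun X r x => by
    rw [Matrix.mul_apply, Matrix.mulVec, dotProduct, hQ]; rfl
  have hW : ∀ a b, B a * A b * Q = Q * W F d8 (a, b) := by
    intro a b
    ext r x
    rw [col, ← Matrix.mulVec_mulVec, Matrix.mulVec_mulVec _ (A b), P3.cross, Matrix.smul_mulVec,
      ← Matrix.mulVec_mulVec, hAv, Matrix.mulVec_smul, Matrix.mulVec_mulVec, ← P3.homB, Matrix.mul_apply,
      Finset.sum_eq_single (x + a)]
    · rw [W_apply, if_pos rfl, hQ, add_comm x a]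
      simp [mul_comm]
    · intro z _ hz
      rw [W_apply, if_neg hz, mul_zero]
    · simp
  have hdet : Q.det ≠ 0 := by
    intro h0
    obtain ⟨z, hz, hQz⟩ := Matrix.exists_mulVec_eq_zero_iff.2 h0
    refine hz (funext fun y => ?_)
    have h := fun x => congrArg (fun w => sg2 F (d8 y x) • (A x *ᵥ w)) hQz
    have e : (∑ x, sg2 F (d8 y x) • (A x *ᵥ (Q *ᵥ z))) = ((Fintype.card I8 : F) * z y) • (B y *ᵥ v) := by
      have e1 : ∀ x, A x *ᵥ (Q *ᵥ z) = Q *ᵥ (fun c => sg2 F (d8 x c) * z c) := by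
        intro x
        have := hW 0 x
        rw [P3.zeroB, Matrix.one_mul] at this
        rw [Matrix.mulVec_mulVec, this, ← Matrix.mulVec_mulVec]
        congr 1
        funext c
        rw [Matrix.mulVec, dotProduct, Finset.sum_eq_single c]
        · simp [W_apply]
        · intro q _ hq; simp [W_apply, Ne.symm hq]
        · simp
      simp only [e1, ← Matrix.mulVec_smul, ← Matrix.mulVec_sum]
      funext r
      rw [Matrix.mulVec, dotProduct, Finset.sum_eq_single y]
      · rw [Finset.sum_apply]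
        simp only [Pi.smul_apply, smul_eq_mul, ← mul_assoc, ← sg2_add, ← dot8.add_right, ← Finset.sum_mul]
        rw [show (∑ x, sg2 F (d8 y x + d8 x y)) = (Fintype.card I8 : F) by
          simp [dot8.symm _ y, CharTwo.add_self_eq_zero, sg2_zero], hQ]
        simp [mul_comm, mul_left_comm, Matrix.mulVec_smul]
        ring
      · intro c _ hc
        rw [Finset.sum_apply]
        simp only [Pi.smul_apply, smul_eq_mul, ← mul_assoc, ← sg2_add, ← Finset.sum_mul]
        rw [show (∑ x, sg2 F (d8 y x + d8 x c)) = 0 by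
          simp only [dot8.symm _ c, ← dot8.add_left]
          rw [char_sum dot8 h2, if_neg]
          exact fun e => hc (dot8.sform.eq_of_add_eq_zero (a := (c, 0)) (b := (y, 0))
            (Prod.ext (by simpa [add_comm] using e) (add_zero _)) |> congrArg Prod.fst)]
        simp
      · simp
    rw [hQz] at e
    simp only [Matrix.mulVec_zero, smul_zero, Finset.sum_const_zero] at e
    have hne : B y *ᵥ v ≠ 0 := fun e0 =>
      hv ((Matrix.mulVec_injective_iff_isUnit.2 (T.isUnit (P3.memB y))) (e0.trans (Matrix.mulVec_zero _).symm))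
    exact (mul_eq_zero.1 ((smul_eq_zero.1 e.symm).resolve_right hne)).resolve_left h8
  obtain ⟨G, hG⟩ : ∃ G : GL I8 F, (G : Matrix I8 I8 F) = Q := ⟨GeneralLinearGroup.mkOfDetNeZero Q hdet, rfl⟩
  refine ⟨G, fun X => ⟨fun hX => ?_, ?_⟩⟩
  · obtain ⟨g, hg, hgA, hgB, z, y, rfl⟩ := T.correct P3 hX
    obtain ⟨R, hR⟩ : ∃ R, R = ((G⁻¹ : GL I8 F) : Matrix I8 I8 F) * g * Q := ⟨_, rfl⟩
    have QR : Q * R = g * Q := by rw [hR, ← Matrix.mul_assoc, ← Matrix.mul_assoc, ← hG, G.mul_inv, Matrix.one_mul]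
    obtain ⟨c, hc⟩ := dot8.scal h2 (A := R) (by
      rintro ⟨a, b⟩
      have hu : IsUnit Q := hG ▸ G.isUnit
      refine hu.mul_left_cancel ?_
      rw [← Matrix.mul_assoc, QR, Matrix.mul_assoc, ← hW, ← Matrix.mul_assoc g, ← Matrix.mul_assoc g (B a), hgB,
        Matrix.mul_assoc (B a) g, hgA, ← Matrix.mul_assoc, Matrix.mul_assoc _ g, ← QR, ← Matrix.mul_assoc, hW,
        Matrix.mul_assoc])
    have hgc : g = c • 1 := by
      have := QR
      rw [hc, Matrix.mul_smul, Matrix.mul_one, ← Matrix.one_mul Q, ← Matrix.smul_mul, Matrix.one_mul] at this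
      exact ((hG ▸ G.isUnit : IsUnit Q).mul_left_injective this).symm
    have hc4 : c ^ 4 = 1 := by
      rw [show c ^ 4 = c * c * (c * c) by ring]
      rcases T.sq g hg with e | e <;> rw [hgc, Matrix.smul_mul, Matrix.one_mul, smul_smul] at e <;>
        have e' := congrFun (congrFun e 0) 0 <;> simp at e' <;> rw [e'] <;> simp
    refine ⟨c * sg2 F (d8 z y), (y, z), ?_, ?_⟩
    · rw [mul_pow, hc4, one_mul, show sg2 F (d8 z y) ^ 4 = (sg2 F (d8 z y) * sg2 F (d8 z y)) ^ 2 by ring,
        sg2_self, one_pow]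
    · rw [hG, hgc, Matrix.smul_mul, Matrix.one_mul, P3.cross, smul_smul, Matrix.smul_mul, hW]
  · rintro ⟨c, ⟨a, b⟩, hc, e⟩
    rw [hG, ← hW, ← Matrix.smul_mul] at e
    rw [(hG ▸ G.isUnit : IsUnit Q).mul_left_injective e]
    exact T.smul_mem hc (T.mul _ (P3.memB a) _ (P3.memA b))

end CfsgLib.EightMax
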