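import Cfsg.Agent.Lib.EightMax.Endgame
import Cfsg.Agent.Lib.EightMax.Big
import Cfsg.Agent.Lib.EightMax.Std
import Cfsg.Agent.Lib.Classical.ThreeMax.Glue
import Cfsg.Agent.Lib.Classical.Pauli.Group

/-!
The normaliser of a symplectic-type group of order `2⁸` is maximal in `SL₈(p)` for `p ≡ 1 (mod 4)`.
-/

set_option autoImplicit false
set_option linter.unusedSectionVars false
set_option maxHeartbeats 1000000

namespace CfsgLib.EightMax

open Matrix
open scoped MatrixGroups commutatorElement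
open CfsgLib.Classical.ThreeMax (isMaximalIn_of_SL isMaximalIn_conj)
open CfsgLib.Pauli (commutator_le_center square_and_commutator)

variable {F : Type*} [Field F] [Fintype F]

local notation "M8" => Matrix I8 I8 F
local notation "G8" => GL I8 F

namespace Core

variable {i : F} {M : Subgroup (GL I8 F)} (h : Core i M) (hs : Small M)
include h hs

/-- The subgroup only contains normalising matrices. -/
theorem all_act {g : G8} (hg : g ∈ M) : ∃ L, Act d8 (g : M8) L := by
  classical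
  have h2 := h.two
  have hi := h.isq
  haveI : Finite G8 := Finite.of_injective _ Units.val_injective
  obtain ⟨K, hK⟩ := exists_subgroup (fun x : M => ∃ c : F, ((x : G8) : M8) = c • 1) ⟨1, by simp⟩ (by
    rintro x y ⟨a, ha⟩ ⟨b, hb⟩
    exact ⟨a * b, by rw [Subgroup.coe_mul, Units.val_mul, ha, hb, Matrix.smul_mul, Matrix.one_mul, smul_smul]⟩)
  have hKn : K.Normal := ⟨fun x hx y => by
    rw [hK] at hx ⊢
    obtain ⟨c, hc⟩ := hx
    refine ⟨c, ?_⟩
    rw [Subgroup.coe_mul, Subgroup.coe_mul, Units.val_mul, Units.val_mul, hc, Matrix.mul_smul, Matrix.mul_one,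
      Matrix.smul_mul, ← Units.val_mul, ← Subgroup.coe_mul, mul_inv_cancel, Subgroup.coe_one, Units.val_one]⟩
  obtain ⟨π, hπ⟩ : ∃ π : M →* M ⧸ K, π = QuotientGroup.mk' K := ⟨_, rfl⟩
  have hsurj : Function.Surjective π := hπ ▸ QuotientGroup.mk'_surjective K
  have hne : ∀ {x : M} {X : M8} {c : F}, ((x : G8) : M8) = c • X → c ≠ 0 := fun {x X c} e e0 => by
    rw [e0, zero_smul] at e
    exact (x : G8).isUnit.ne_zero e
  have heq : ∀ x y : M, π x = π y ↔ ∃ c : F, ((y : G8) : M8) = c • ((x : G8) : M8) := fun x y => by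
    rw [hπ, QuotientGroup.mk'_apply, QuotientGroup.mk'_apply, QuotientGroup.eq, hK]
    refine exists_congr fun c => ⟨fun e => ?_, fun e => ?_⟩
    · calc ((y : G8) : M8) = ((x : G8) : M8) * (((x⁻¹ * y : M) : G8) : M8) := by
            rw [← Units.val_mul, ← Subgroup.coe_mul, mul_inv_cancel_left]
        _ = _ := by rw [e, Matrix.mul_smul, Matrix.mul_one]
    · rw [Subgroup.coe_mul, Units.val_mul, e, Matrix.mul_smul, ← Units.val_mul, ← Subgroup.coe_mul, inv_mul_cancel,
        Subgroup.coe_one, Units.val_one]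
  choose wv hwM hw using fun v => h.in_W v
  obtain ⟨wM, hwMd⟩ : ∃ wM : I8 × I8 → M, wM = fun v => ⟨wv v, hwM v⟩ := ⟨_, rfl⟩
  have hwv : ∀ v, ((wM v : G8) : M8) = W F d8 v := fun v => by rw [hwMd]; exact hw v
  obtain ⟨V, hV⟩ : ∃ V : I8 × I8 → M ⧸ K, V = fun v => π (wM v) := ⟨_, rfl⟩
  have mval : ∀ x y : M, (((x * y : M) : G8) : M8) = ((x : G8) : M8) * ((y : G8) : M8) := fun x y => rfl
  obtain ⟨N0, hN0⟩ := exists_subgroup (fun x : M => ∃ L, Act d8 ((x : G8) : M8) L)
    ⟨id, by simpa using act_one d8⟩ (fun x y ⟨L, hL⟩ ⟨L', hL'⟩ => ⟨_, by rw [mval]; exact hL.comp hL'⟩)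
  -- conjugation of the vectors
  have cj_iff : ∀ (x : M) (v w : I8 × I8), π x * V v * (π x)⁻¹ = V w ↔
      ∃ c : F, ((x : G8) : M8) * W F d8 v = c • (W F d8 w * ((x : G8) : M8)) := by
    intro x v w
    rw [hV, mul_inv_eq_iff_eq_mul, ← map_mul, ← map_mul, eq_comm, heq]
    simp only [mval, hwv]
  have cj_of : ∀ (x : M) (L : I8 × I8 → I8 × I8), Act d8 ((x : G8) : M8) L → Cj V (π x) L := fun x L hL v =>
    (cj_iff x v (L v)).2 (hL v)
  have act_of : ∀ (x : M) (L : I8 × I8 → I8 × I8), Cj V (π x) L → Act d8 ((x : G8) : M8) L := fun x L hL v =>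
    (cj_iff x v (L v)).1 (hL v)
  have hFr : Fr (pf d8) V (N0.map π) :=
    { form := dot8.sform
      hom := fun a b => by
        rw [hV, ← map_mul, eq_comm, heq]
        exact ⟨sg2 F (d8 a.2 b.1), by rw [mval, hwv, hwv, hwv, dot8.W_mul, smul_smul, sg2_self, one_smul]⟩
      inj := fun a ha => by
        rw [hV, ← map_one π, heq] at ha
        obtain ⟨c, hc⟩ := ha
        rw [hwv] at hc
        refine (dot8.inj h2 (v := (0 : I8 × I8)) (w := a) (c := c) ?_).symm
        rw [dot8.W_zero]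
        exact hc
      memN := fun a => hV ▸ ⟨wM a, (hN0 _).2 ⟨id, by rw [hwv]; exact dot8.act_W a⟩, rfl⟩
      act := by
        rintro _ ⟨x, hx, rfl⟩
        obtain ⟨L, hL⟩ := (hN0 x).1 hx
        exact ⟨L, cj_of x L hL, (dot8.act_isom h2 (x : G8).isUnit hL).pres⟩
      ker := by
        rintro _ ⟨x, -, rfl⟩ hx
        obtain ⟨c, u, hc, e⟩ := dot8.act_id h2 (x : G8).isUnit (act_of x id hx)
        exact ⟨u, by rw [hV, eq_comm, heq]; exact ⟨c, by rw [e, hwv]⟩⟩
      lift := fun a => by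
        obtain ⟨A, ⟨x, hx, rfl⟩, hA⟩ := h.in_lift _ (dot8.sform.tr_isom a)
        exact ⟨π ⟨x, hx⟩, ⟨_, (hN0 _).2 ⟨_, hA⟩, rfl⟩, cj_of _ _ hA⟩
      cent := by
        intro v hv q hq
        obtain ⟨x, rfl⟩ := hsurj q
        obtain ⟨c, hc⟩ := (cj_iff x v v).1 hq
        have hm : In M ((x : G8) : M8) := ⟨x, x.2, rfl⟩
        have hcc := dot8.act_sq (x : G8).isUnit hc
        rw [sg2_self] at hcc
        rcases mul_self_eq_one_iff.1 hcc with rfl | rfl
        · rw [one_smul] at hc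
          exact ⟨x, (hN0 x).2 (h.cent hs hv hm hc), rfl⟩
        · obtain ⟨u, hu⟩ := dot8.sform.exists_one hv
          obtain ⟨L, hL⟩ := h.cent hs hv (in_mul hm (h.in_W u)) (by
            rw [Matrix.mul_assoc, dot8.W_comm u v, dot8.sform.symm u v, hu, sg2_one, Matrix.mul_smul,
              ← Matrix.mul_assoc, hc, neg_one_smul, neg_one_smul, Matrix.neg_mul, neg_neg, Matrix.mul_assoc])
          have := mul_mem ((hN0 (x * wM u)).2 ⟨L, by rw [mval, hwv]; exact hL⟩)
            (inv_mem ((hN0 (wM u)).2 ⟨id, by rw [hwv]; exact dot8.act_W u⟩))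
          rw [mul_inv_cancel_right] at this
          exact ⟨x, this, rfl⟩ }
  -- the transvection
  have h1i : (1 + i) ≠ 0 := fun e => h2 (by linear_combination (1 - i) * e + hi)
  have h16 : (1 + i) ^ 8 = 16 := by
    rw [show 8 = (2 * 2) * 2 from rfl, pow_mul,
      show (1 + i) ^ (2 * 2) = -4 by linear_combination ((1 + i) ^ 2 + 2 * i + (4 : F)) * hi]
    norm_num
  obtain ⟨κ0, hκ0⟩ : ∃ κ0 : M8, κ0 = ((1 + i)⁻¹ • G i d8 z8) * W F d8 x8 := ⟨_, rfl⟩
  have hκd : κ0.det = 1 := by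
    rw [hκ0, det_mul, det_smul, W8_det hi h2, mul_one, G8_det hi h2 z8_ne, Fintype.card_prod, Fintype.card_prod,
      ZMod.card, show 2 * 2 * 2 = 8 from rfl, inv_pow, h16]
    refine inv_mul_cancel₀ ?_
    rw [← h16]
    exact pow_ne_zero _ h1i
  have hκa : Act d8 κ0 (tr (pf d8) z8) := hκ0 ▸ ((dot8.G_act hi z8).smul _).comp (dot8.act_W x8)
  obtain ⟨k, hkM, hk⟩ : In M κ0 := hκ0 ▸ in_mul (h.in_G z8 z8_ne) (h.in_W x8)
  have hk2 : π ⟨k, hkM⟩ * π ⟨k, hkM⟩ = 1 := by
    rw [← map_mul, ← map_one π, eq_comm, heq]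
    refine ⟨(1 + i)⁻¹ * (1 + i)⁻¹ * (2 : F), ?_⟩
    rw [mval, Subgroup.coe_one, Units.val_one, hk, hκ0]
    have eE : W F d8 x8 * E i d8 z8 = -(E i d8 z8 * W F d8 x8) := by
      rw [E, Matrix.mul_smul, dot8.W_comm x8 z8, show pf d8 x8 z8 = 1 by decide, sg2_one, neg_one_smul, smul_neg,
        Matrix.smul_mul]
    have eG : W F d8 x8 * G i d8 z8 = (1 - i • E i d8 z8) * W F d8 x8 := by
      rw [G, Matrix.mul_add, Matrix.sub_mul, Matrix.mul_one, Matrix.one_mul, Matrix.mul_smul, eE, Matrix.smul_mul,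
        smul_neg, sub_eq_add_neg]
    rw [Matrix.smul_mul, Matrix.smul_mul, Matrix.mul_smul, smul_smul, Matrix.mul_assoc, ← Matrix.mul_assoc (W F d8 x8),
      eG, ← Matrix.mul_assoc, ← Matrix.mul_assoc, dot8.G_mul hi, Matrix.mul_assoc, x8_sq, Matrix.mul_one, smul_smul]
  have hmem := hFr.eq_top card_V8 (κ := π ⟨k, hkM⟩) ⟨_, (hN0 _).2 ⟨_, hk.symm ▸ hκa⟩, rfl⟩ hk2 z8_ne
    (cj_of _ _ (hk.symm ▸ hκa)) (π ⟨g, hg⟩)
  obtain ⟨x, hx, e⟩ := hmem
  obtain ⟨c, hc⟩ := (heq _ _).1 e
  obtain ⟨L, hL⟩ := (hN0 x).1 hx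
  exact ⟨L, hc ▸ hL.smul c⟩

end Core

/-- A transvection does not normalise. -/
theorem not_act (h2 : (2 : F) ≠ 0) (L : I8 × I8 → I8 × I8) :
    ¬ Act d8 (Matrix.transvection (0 : I8) (((0, 0), 1) : I8) (1 : F) : M8) L := by
  intro hA
  obtain ⟨c, hc⟩ := hA z8
  obtain ⟨v, hv⟩ : ∃ v, v = L z8 := ⟨_, rfl⟩
  rw [← hv] at hc
  obtain ⟨b, hb⟩ : ∃ b : I8, b = (((0, 0), 1) : I8) := ⟨_, rfl⟩
  rw [← hb] at hc
  have hb0 : (0 : I8) ≠ b := by rw [hb]; decide
  have hd : (W F d8 z8 : M8) = Matrix.diagonal fun x => sg2 F x.2 := by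
    ext r s
    by_cases e : r = s
    · subst e; simp [W_apply, z8, d8, d4]
    · simp [W_apply, z8, e, Prod.mk_zero_zero]
  have e1 := congrFun (congrFun hc 0) 0
  have e2 := congrFun (congrFun hc 0) b
  rw [hd] at e1 e2
  simp only [Matrix.smul_apply, smul_eq_mul, Matrix.mul_diagonal, mul_transvection_apply_same,
    mul_transvection_apply_of_ne _ _ _ _ hb0, one_mul] at e1 e2
  have t0 : (Matrix.transvection (0 : I8) b (1 : F) : M8) 0 0 = 1 := by
    simp [Matrix.transvection, hb0.symm]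
  have t1 : (Matrix.transvection (0 : I8) b (1 : F) : M8) 0 b = 1 := by
    simp [Matrix.transvection, hb0]
  rw [t0, one_mul, show (0 : I8).2 = 0 from rfl, sg2_zero, W_apply, zero_add] at e1
  rw [t1, one_mul, show b.2 = 1 by rw [hb], sg2_one] at e2
  by_cases hs : (0 : I8) = v.1
  · rw [if_pos hs, dot8.zero_right, sg2_zero, mul_one] at e1
    rw [W_apply, W_apply, if_neg (fun e => hb0 (by rw [e, ← hs, add_zero])), zero_add, if_pos (by rw [zero_add, hs]),
      dot8.zero_right, sg2_zero, mul_one] at e2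
    exact h2 (by linear_combination e1 - e2)
  · rw [if_neg hs, mul_zero] at e1
    exact one_ne_zero e1

/-- Class six in dimension eight, linear case. -/
theorem isMaximalIn_symplecticType (hp : ∃ p : ℕ, p.Prime ∧ Fintype.card F = p ∧ p % 4 = 1)
    (R : Subgroup (GL (Fin 8) F)) (hR : Cfsg.Geo.IsLinearSymplecticTypeData 2 R) :
    Cfsg.Geo.IsMaximalIn (Cfsg.Geo.specialLinear (Fin 8) F)
      (Cfsg.Geo.subgroupNormalizer R ⊓ Cfsg.Geo.specialLinear (Fin 8) F) := by
  classical
  obtain ⟨p, hp, hF, hp4⟩ := hp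
  have h5 : 5 ≤ p := by
    by_contra hlt
    push Not at hlt
    interval_cases p <;> simp at hp4 <;> norm_num at hp
  haveI : Fact p.Prime := ⟨hp⟩
  haveI : CharP F p := charP_of_card_eq_prime hF
  have h2 : (2 : F) ≠ 0 := fun e => by
    have := Nat.le_of_dvd (by norm_num) ((CharP.cast_eq_zero_iff F p 2).1 (by exact_mod_cast e))
    omega
  haveI : Finite G8 := Finite.of_injective _ Units.val_injective
  haveI : Finite (GL (Fin 8) F) := Finite.of_injective _ Units.val_injective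
  obtain ⟨e, -⟩ : ∃ e : I8 ≃ Fin 8, True := ⟨Fintype.equivFinOfCardEq (by simp), trivial⟩
  obtain ⟨φ, hφ⟩ : ∃ φ : GL (Fin 8) F ≃* G8, ∀ g, (φ g : M8) = (g : Matrix (Fin 8) (Fin 8) F).submatrix e e :=
    ⟨Units.mapEquiv (Matrix.reindexAlgEquiv F F e.symm).toMulEquiv, fun g => rfl⟩
  have hdet : ∀ g, (φ g : M8).det = (g : Matrix (Fin 8) (Fin 8) F).det := fun g => by
    rw [hφ, Matrix.det_submatrix_equiv_self]
  -- the data of the group
  have hs := hR.symplecticType
  have hZ : Nat.card (Subgroup.center R) = 4 := by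
    obtain ⟨q, m, -, -, h1 | h1 | h1⟩ := hR.field
    · exact absurd h1.1 (by decide)
    · exact h1.2.2.1
    · exact absurd h1.2.2.1 (by simp)
  have h4' : ∀ x : R, x ^ 4 = 1 := fun x => by
    have := Monoid.pow_exponent_eq_one x
    rwa [hs.exponent_eq, show 2 * Nat.gcd 2 2 = 4 from rfl] at this
  have hD := commutator_le_center hs.pGroup h4' hs.cyclic_of_characteristic (Or.inl hZ)
  obtain ⟨ρ, hρ⟩ : ∃ ρ : R →* G8, ρ = φ.toMonoidHom.comp R.subtype := ⟨_, rfl⟩
  have hρv : ∀ g : R, (ρ g : M8) = ((g : GL (Fin 8) F) : Matrix (Fin 8) (Fin 8) F).submatrix e e := fun g => by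
    rw [hρ]; exact hφ _
  have hρi : Function.Injective ρ := by
    rw [hρ]; exact φ.injective.comp R.subtype_injective
  have scal : ∀ A : M8, (∀ g, A * (ρ g : M8) = (ρ g : M8) * A) → ∃ c : F, A = c • 1 := by
    intro A hA
    obtain ⟨c, hc⟩ := hR.absIrred.2 (A.submatrix e.symm e.symm) (by
      rintro _ ⟨g, hg, rfl⟩
      have := congrArg (fun X : M8 => X.submatrix e.symm e.symm) (hA ⟨g, hg⟩)
      simp only [hρv] at this
      rw [← Matrix.submatrix_mul_equiv A _ e.symm e.symm e.symm,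
        ← Matrix.submatrix_mul_equiv _ A e.symm e.symm e.symm, Matrix.submatrix_submatrix,
        Equiv.self_comp_symm, Matrix.submatrix_id_id] at this
      exact this)
    refine ⟨c, ?_⟩
    have := congrArg (fun X : Matrix (Fin 8) (Fin 8) F => X.submatrix e e) hc
    simpa [Matrix.submatrix_smul, Matrix.submatrix_one_equiv] using this
  have irr : ∀ U : Submodule F (I8 → F), (∀ g, ∀ x ∈ U, (ρ g : M8) *ᵥ x ∈ U) → U = ⊥ ∨ U = ⊤ := by
    intro U hU
    have key := hR.absIrred.1 (U.comap (LinearMap.funLeft F F e)) (by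
      rintro _ ⟨g, hg, rfl⟩ _ ⟨x, hx, rfl⟩
      show LinearMap.funLeft F F e _ ∈ U
      have := hU ⟨g, hg⟩ _ hx
      rw [hρv, show LinearMap.funLeft F F e x = x ∘ e from rfl, Matrix.submatrix_mulVec_equiv] at this
      simpa [LinearMap.funLeft, Function.comp_def, Matrix.toLin'_apply] using this)
    have hsurj : Function.Surjective (LinearMap.funLeft F F e) :=
      LinearMap.funLeft_surjective_of_injective F F e e.injective
    rcases key with k | k
    · exact Or.inl (Submodule.comap_injective_of_surjective hsurj (k.trans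
        ((Submodule.comap_bot _).trans (LinearMap.ker_eq_bot.2
          (LinearMap.funLeft_injective_of_surjective F F e e.surjective))).symm))
    · exact Or.inr (Submodule.comap_injective_of_surjective hsurj (k.trans (Submodule.comap_top _).symm))
  have hscal : ∀ u : R, u ∈ Subgroup.center R → ∃ c : F, (ρ u : M8) = c • 1 := fun u hu => scal _ fun g => by
    rw [← Units.val_mul, ← Units.val_mul, ← map_mul, ← map_mul, Subgroup.mem_center_iff.1 hu g]
  have hsmul : ∀ c : F, c • (1 : M8) = 1 → c = 1 := fun c e => by simpa using congrFun₂ e 0 0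
  have hsign : ∀ u : R, u ∈ Subgroup.center R → u ^ 2 = 1 → (ρ u : M8) = 1 ∨ (ρ u : M8) = -1 := by
    intro u hu hu2
    obtain ⟨c, hc⟩ := hscal u hu
    have e := congrArg (fun x : R => (ρ x : M8)) hu2
    simp only [map_pow, map_one, Units.val_pow_eq_pow_val, hc, _root_.smul_pow, one_pow, Units.val_one] at e
    rcases sq_eq_one_iff.1 (hsmul _ e) with rfl | rfl
    · left; rw [hc, one_smul]
    · right; rw [hc, neg_one_smul]
  obtain ⟨i, hi, u, hui⟩ : ∃ i : F, i * i = -1 ∧ ∃ u : R, (ρ u : M8) = i • 1 := by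
    obtain ⟨u, hu, hu2⟩ : ∃ u : R, u ∈ Subgroup.center R ∧ u ^ 2 ≠ 1 := by
      by_contra hall
      push Not at hall
      have hinj : Function.Injective (fun u : Subgroup.center R => decide ((ρ (u : R) : M8) = 1)) := by
        intro u v e
        simp only [decide_eq_decide] at e
        refine Subtype.ext (hρi (Units.ext ?_))
        rcases hsign _ u.2 (hall _ u.2) with hu | hu
        · rw [hu, e.1 hu]
        · rcases hsign _ v.2 (hall _ v.2) with hv | hv
          · rw [e.2 hv, hv]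
          · rw [hu, hv]
      have := Nat.card_le_card_of_injective _ hinj
      rw [hZ, Nat.card_eq_fintype_card, Fintype.card_bool] at this
      omega
    obtain ⟨c, hc⟩ := hscal u hu
    refine ⟨c, ?_, u, hc⟩
    have e4 : (c ^ 2) ^ 2 = 1 := hsmul _ (by
      have e := congrArg (fun x : R => (ρ x : M8)) (h4' u)
      simpa [hc, _root_.smul_pow, ← pow_mul] using e)
    rcases sq_eq_one_iff.1 e4 with e | e
    · refine absurd (hρi (Units.ext ?_)) hu2
      simp [hc, _root_.smul_pow, e]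
    · rw [← pow_two, e]
  obtain ⟨S, hS⟩ : ∃ S : Set M8, S = Set.range fun g : R => (ρ g : M8) := ⟨_, rfl⟩
  have T : TwoSet i S :=
    { two := h2
      isq := hi
      mul := by
        subst hS
        rintro _ ⟨a, rfl⟩ _ ⟨b, rfl⟩
        exact ⟨a * b, by simp [map_mul]⟩
      mem_i := hS ▸ ⟨u, hui⟩
      sq := by
        subst hS
        rintro _ ⟨g, rfl⟩
        obtain ⟨hc1, -, -⟩ := square_and_commutator h4' hD g g
        have := hsign _ hc1 (by rw [← pow_mul]; exact h4' _)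
        simpa [pow_two] using this
      comm := by
        subst hS
        rintro _ ⟨a, rfl⟩ _ ⟨b, rfl⟩
        obtain ⟨-, hc1, hc2⟩ := square_and_commutator h4' hD a b
        have e : a * b = ⁅a, b⁆ * (b * a) := by rw [commutatorElement_def]; group
        have e' := congrArg (fun x : R => (ρ x : M8)) e
        simp only [map_mul, Units.val_mul] at e'
        rcases hsign _ hc1 hc2 with h1 | h1 <;> rw [h1] at e'
        · left; rw [e', one_mul]
        · right; rw [e', neg_one_mul]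
      scal := fun A hA => scal A fun g => hA _ (hS ▸ ⟨g, rfl⟩)
      irr := fun U hU => irr U fun g x hx => hU _ (hS ▸ ⟨g, rfl⟩) x hx }
  obtain ⟨P, hP⟩ := standard T
  -- change of coordinates
  obtain ⟨X, hX⟩ : ∃ X : Subgroup (GL (Fin 8) F),
      X = (Subgroup.normalizer (dot8.grp (F := F) : Set G8)).comap φ.toMonoidHom := ⟨_, rfl⟩
  have memX : ∀ g, g ∈ X ↔ ∃ L, Act d8 (φ g : M8) L := fun g => by
    rw [hX, Subgroup.mem_comap]; exact dot8.mem_normalizer_iff
  have memR : ∀ x, x ∈ R ↔ P⁻¹ * φ x * P ∈ dot8.grp (F := F) := fun x => by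
    have e0 : ∀ (c : F) v, (φ x : M8) * (P : M8) = c • ((P : M8) * W F d8 v) ↔
        ((P⁻¹ * φ x * P : G8) : M8) = c • W F d8 v := fun c v => by
      rw [← Matrix.mul_smul, Units.val_mul, Units.val_mul, Matrix.mul_assoc]
      constructor
      · intro h; rw [h, ← Matrix.mul_assoc, P.inv_mul, Matrix.one_mul]
      · intro h; rw [← h, ← Matrix.mul_assoc, P.mul_inv, Matrix.one_mul]
    rw [dot8.mem_grp]
    simp only [← e0, ← hP, hS]
    refine ⟨fun hx => ⟨⟨x, hx⟩, by rw [hρ]; rfl⟩, ?_⟩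
    rintro ⟨y, hy⟩
    rw [hρ] at hy
    exact (φ.injective (Units.ext hy) : (y : GL (Fin 8) F) = x) ▸ y.2
  refine isMaximalIn_conj (X := X) (φ.symm P) (fun g => ?_) ?_
  · rw [hX, Subgroup.mem_comap, Cfsg.Geo.subgroupNormalizer, Subgroup.mem_normalizer_iff,
      Subgroup.mem_normalizer_iff]
    show _ ↔ ∀ y, y ∈ dot8.grp (F := F) ↔
      φ ((φ.symm P)⁻¹ * g * φ.symm P) * y * (φ ((φ.symm P)⁻¹ * g * φ.symm P))⁻¹ ∈ dot8.grp (F := F)
    simp only [map_mul, map_inv, MulEquiv.apply_symm_apply]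
    constructor
    · intro h y
      have := h (φ.symm (P * y * P⁻¹))
      rw [memR, memR, map_mul φ, map_mul φ, map_inv, MulEquiv.apply_symm_apply,
        show P⁻¹ * (P * y * P⁻¹) * P = y by group] at this
      rw [this]
      refine Iff.of_eq (congrArg (· ∈ dot8.grp (F := F)) ?_)
      group
    · intro h x
      have := h (P⁻¹ * φ x * P)
      rw [memR, memR, map_mul φ, map_mul φ, map_inv, this]
      refine Iff.of_eq (congrArg (· ∈ dot8.grp (F := F)) ?_)
      group
  refine isMaximalIn_of_SL ?_ fun M hM => ?_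
  · obtain ⟨s, hs⟩ : ∃ s : SpecialLinearGroup (Fin 8) F, (s : Matrix (Fin 8) (Fin 8) F) =
        (Matrix.transvection (0 : I8) (((0, 0), 1) : I8) (1 : F) : M8).submatrix e.symm e.symm :=
      ⟨⟨(Matrix.transvection (0 : I8) (((0, 0), 1) : I8) (1 : F) : M8).submatrix e.symm e.symm,
        (Matrix.det_submatrix_equiv_self e.symm _).trans (Matrix.det_transvection_of_ne _ _ (by decide) 1)⟩, rfl⟩
    refine ⟨s, fun hsX => ?_⟩
    obtain ⟨L, hL⟩ := (memX _).1 hsX
    rw [hφ] at hL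
    refine not_act h2 L ?_
    have e1 : ((s : GL (Fin 8) F) : Matrix (Fin 8) (Fin 8) F) = (s : Matrix (Fin 8) (Fin 8) F) := rfl
    rwa [e1, hs, Matrix.submatrix_submatrix, Equiv.symm_comp_self, Matrix.submatrix_id_id] at hL
  by_cases hMtop : M = ⊤
  · exact Or.inl hMtop
  obtain ⟨M', hM'⟩ : ∃ M' : Subgroup G8,
      M' = (M.map SpecialLinearGroup.toGL).map φ.toMonoidHom := ⟨_, rfl⟩
  have hmemM : ∀ s ∈ M, φ (s : GL (Fin 8) F) ∈ M' := fun s hs => hM' ▸ ⟨_, ⟨s, hs, rfl⟩, rfl⟩
  have toS : ∀ g : G8, (g : M8).det = 1 → ∃ s : SpecialLinearGroup (Fin 8) F, φ (s : GL (Fin 8) F) = g := by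
    intro g hg
    have hd : ((φ.symm g : GL (Fin 8) F) : Matrix (Fin 8) (Fin 8) F).det = 1 := by
      rw [← hdet, MulEquiv.apply_symm_apply, hg]
    exact ⟨⟨_, hd⟩, φ.eq_symm_apply.1 (Units.ext rfl)⟩
  have hSetup : Setup p i M' :=
    { prime := hp
      card := hF
      five := h5
      isq := hi
      det := by
        intro g hg
        rw [hM'] at hg
        obtain ⟨_, ⟨s, -, rfl⟩, rfl⟩ := hg
        show (φ (s : GL (Fin 8) F) : M8).det = 1
        rw [hdet]; exact s.2
      le := fun g hg hL => by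
        obtain ⟨s, rfl⟩ := toS g hg
        exact hmemM s (hM s ((memX _).2 hL))
      ntop := fun hall => hMtop (by
        refine eq_top_iff.2 fun s _ => ?_
        have h1 := hall (φ (s : GL (Fin 8) F)) (by rw [hdet]; exact s.2)
        rw [hM'] at h1
        obtain ⟨_, ⟨t, ht, rfl⟩, h2⟩ := h1
        exact Matrix.SpecialLinearGroup.toGL_injective (φ.injective h2) ▸ ht) }
  exact Or.inr fun s hs => (memX _).2 (hSetup.core.all_act hSetup.small (hmemM s hs))

end CfsgLib.EightMax
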