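import Cfsg.Agent.Lib.EightMax.Form

/-!
Pauli matrices indexed by two copies of a group of exponent two, and the action of their normalisers.
-/

set_option autoImplicit false
set_option linter.unusedSectionVars false

namespace CfsgLib.EightMax

open Matrix

variable {F : Type*} [Field F] {I : Type*} [Fintype I] [DecidableEq I] [AddCommGroup I]

/-- A non-degenerate symmetric product on a group of exponent two. -/
structure Dot (d : I → I → ZMod 2) : Prop where
  two : ∀ x : I, x + x = 0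
  add_left : ∀ x y z, d (x + y) z = d x z + d y z
  symm : ∀ x y, d x y = d y x
  nondeg : ∀ x, (∀ y, d x y = 0) → x = 0
  dual : ∀ f : I → ZMod 2, (∀ x y, f (x + y) = f x + f y) → ∃ y, ∀ x, d y x = f x

/-- The sign `(-1) ^ x`. -/
def sg2 (F : Type*) [Field F] (x : ZMod 2) : F := if x = 0 then 1 else -1

theorem sg2_zero : sg2 F 0 = 1 := rfl

theorem sg2_one : sg2 F 1 = -1 := if_neg (by decide)

theorem sg2_add (x y : ZMod 2) : sg2 F (x + y) = sg2 F x * sg2 F y := by
  rcases z2 x with rfl | rfl <;> rcases z2 y with rfl | rfl <;>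
    simp [sg2_zero, sg2_one, show (1 : ZMod 2) + 1 = 0 from rfl]

theorem sg2_self (x : ZMod 2) : sg2 F x * sg2 F x = 1 := by
  rw [← sg2_add, CharTwo.add_self_eq_zero, sg2_zero]

theorem sg2_ne (x : ZMod 2) : sg2 F x ≠ 0 := left_ne_zero_of_mul_eq_one (sg2_self x)

theorem sg2_inj (h2 : (2 : F) ≠ 0) {x y : ZMod 2} (e : sg2 F x = sg2 F y) : x = y := by
  rcases z2 x with rfl | rfl <;> rcases z2 y with rfl | rfl <;> first
    | rfl
    | (rw [sg2_zero, sg2_one] at e; exact absurd (by linear_combination e : (2 : F) = 0) h2)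
    | (rw [sg2_zero, sg2_one] at e; exact absurd (by linear_combination -e : (2 : F) = 0) h2)

theorem exists_sg2 {c : F} (h : c * c = 1) : ∃ x, c = sg2 F x := by
  rcases mul_self_eq_one_iff.1 h with rfl | rfl
  · exact ⟨0, rfl⟩
  · exact ⟨1, sg2_one.symm⟩

/-- The symplectic form. -/
def pf (d : I → I → ZMod 2) (v w : I × I) : ZMod 2 := d v.2 w.1 + d w.2 v.1

/-- The Pauli matrix. -/
def W (F : Type*) [Field F] (d : I → I → ZMod 2) (v : I × I) : Matrix I I F :=
  Matrix.of fun r c => if r = c + v.1 then sg2 F (d v.2 c) else 0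

theorem W_apply (d : I → I → ZMod 2) (v : I × I) (r c : I) :
    W F d v r c = if r = c + v.1 then sg2 F (d v.2 c) else 0 := rfl

/-- `h` moves the Pauli matrices as `L` prescribes. -/
def Act (d : I → I → ZMod 2) (h : Matrix I I F) (L : I × I → I × I) : Prop :=
  ∀ v, ∃ c : F, h * W F d v = c • (W F d (L v) * h)

theorem Act.comp {d : I → I → ZMod 2} {g h : Matrix I I F} {L K : I × I → I × I} (hg : Act d g L)
    (hh : Act d h K) : Act d (g * h) (L ∘ K) := fun v => by
  obtain ⟨c, hc⟩ := hh v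
  obtain ⟨e, he⟩ := hg (K v)
  exact ⟨c * e, by rw [Matrix.mul_assoc, hc, Matrix.mul_smul, ← Matrix.mul_assoc, he, Matrix.smul_mul, smul_smul,
    Matrix.mul_assoc]; rfl⟩

theorem Act.smul {d : I → I → ZMod 2} {h : Matrix I I F} {L : I × I → I × I} (hh : Act d h L) (a : F) :
    Act d (a • h) L := fun v => by
  obtain ⟨c, hc⟩ := hh v
  exact ⟨c, by rw [Matrix.smul_mul, hc, Matrix.mul_smul, smul_comm]⟩

theorem act_one (d : I → I → ZMod 2) : Act d (1 : Matrix I I F) id := fun v => ⟨1, by simp⟩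

namespace Dot

variable {d : I → I → ZMod 2} (D : Dot d)
include D

theorem add_right (x y z : I) : d x (y + z) = d x y + d x z := by rw [D.symm, D.add_left, D.symm y, D.symm z]

theorem zero_left (x : I) : d 0 x = 0 := by
  have := D.add_left 0 0 x
  rw [add_zero] at this
  exact left_eq_add.1 this

theorem zero_right (x : I) : d x 0 = 0 := by rw [D.symm, D.zero_left]

theorem sform : Sform (pf d) where
  two v := Prod.ext (D.two _) (D.two _)
  add_left a b c := by simp only [pf, Prod.fst_add, Prod.snd_add, D.add_left, D.add_right]; abel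
  symm a b := add_comm _ _
  alt a := CharTwo.add_self_eq_zero _
  nondeg a h := by
    refine Prod.ext (D.nondeg _ fun y => ?_) (D.nondeg _ fun y => ?_)
    · simpa [pf, D.zero_right, D.zero_left, D.symm y] using h (0, y)
    · simpa [pf, D.zero_right, D.zero_left] using h (y, 0)

theorem W_zero : W F d 0 = 1 := by
  ext r c
  simp [W_apply, Matrix.one_apply, D.zero_left, sg2_zero]

theorem W_mul (v w : I × I) : W F d v * W F d w = sg2 F (d v.2 w.1) • W F d (v + w) := by
  ext r c
  rw [Matrix.mul_apply, Finset.sum_eq_single (c + w.1)]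
  · simp only [W_apply, Matrix.smul_apply, smul_eq_mul, Prod.fst_add, Prod.snd_add, if_true, mul_ite, mul_zero]
    by_cases h : r = c + w.1 + v.1
    · rw [if_pos h, if_pos (by rw [h]; abel), D.add_left, D.add_right, sg2_add, sg2_add]
      ring
    · rw [if_neg h, zero_mul, if_neg (fun e => h (by rw [e]; abel))]
  · intro m _ hm
    rw [W_apply (v := w), if_neg hm, mul_zero]
  · simp

theorem W_sq (v : I × I) : W F d v * W F d v = sg2 F (d v.2 v.1) • 1 := by
  rw [D.W_mul, D.sform.two, D.W_zero]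

theorem W_comm (v w : I × I) : W F d v * W F d w = sg2 F (pf d v w) • (W F d w * W F d v) := by
  rw [D.W_mul, D.W_mul w v, smul_smul, add_comm v w, pf, sg2_add, mul_assoc, sg2_self, mul_one]

theorem isUnit (v : I × I) : IsUnit (W F d v) :=
  ⟨⟨W F d v, sg2 F (d v.2 v.1) • W F d v, by rw [Matrix.mul_smul, D.W_sq, smul_smul, sg2_self, one_smul],
    by rw [Matrix.smul_mul, D.W_sq, smul_smul, sg2_self, one_smul]⟩, rfl⟩

theorem det_ne (v : I × I) : (W F d v).det ≠ 0 := fun e =>
  ((Matrix.isUnit_iff_isUnit_det _).1 (D.isUnit v)).ne_zero e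

theorem inj (h2 : (2 : F) ≠ 0) {v w : I × I} {c : F} (e : W F d v = c • W F d w) : v = w := by
  have e0 := fun x => congrFun (congrFun e (x + v.1)) x
  simp only [W_apply, if_true, Matrix.smul_apply, smul_eq_mul] at e0
  have h1 : v.1 = w.1 := by
    by_contra hne
    have := e0 0
    rw [if_neg (fun e' => hne (add_left_cancel e')), mul_zero] at this
    exact sg2_ne _ this
  simp only [h1, if_true] at e0
  have hc : c = 1 := by
    have := e0 0
    rwa [D.zero_right, D.zero_right, sg2_zero, mul_one, eq_comm] at this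
  refine Prod.ext h1 (D.sform.two 0 |> fun _ => ?_)
  have hx : ∀ x, d (v.2 + w.2) x = 0 := fun x => by
    rw [D.add_left, sg2_inj h2 (show sg2 F (d v.2 x) = sg2 F (d w.2 x) by rw [e0 x, hc, one_mul]),
      CharTwo.add_self_eq_zero]
  calc v.2 = v.2 + w.2 + w.2 := by rw [add_assoc, D.two, add_zero]
    _ = w.2 := by rw [D.nondeg _ hx, zero_add]

theorem scal (h2 : (2 : F) ≠ 0) {A : Matrix I I F} (hA : ∀ v, A * W F d v = W F d v * A) :
    ∃ c : F, A = c • 1 := by
  have ez : ∀ x z : I, x = z + 0 ↔ x = z := fun x z => by rw [add_zero]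
  have hdiag : ∀ r c, r ≠ c → A r c = 0 := by
    intro r c hne
    obtain ⟨b, hb⟩ : ∃ b, d b r ≠ d b c := by
      by_contra hall
      push Not at hall
      refine hne ?_
      have := D.nondeg (r + c) fun b => by
        rw [D.symm, D.add_right, hall b, CharTwo.add_self_eq_zero]
      calc r = r + c + c := by rw [add_assoc, D.two, add_zero]
        _ = c := by rw [this, zero_add]
    have e := congrFun (congrFun (hA ((0, b) : I × I)) r) c
    rw [Matrix.mul_apply, Matrix.mul_apply, Finset.sum_eq_single c, Finset.sum_eq_single r] at e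
    · simp only [W_apply, add_zero, if_true] at e
      have : (sg2 F (d b c) - sg2 F (d b r)) * A r c = 0 := by linear_combination e
      exact (mul_eq_zero.1 this).resolve_left (sub_ne_zero.2 fun h => hb (sg2_inj h2 h).symm)
    · intro m _ hm; simp [W_apply, Ne.symm hm]
    · simp
    · intro m _ hm; simp [W_apply, hm]
    · simp
  refine ⟨A 0 0, ?_⟩
  ext r c
  by_cases hrc : r = c
  · subst hrc
    have e := congrFun (congrFun (hA ((r, 0) : I × I)) r) 0
    rw [Matrix.mul_apply, Matrix.mul_apply, Finset.sum_eq_single r, Finset.sum_eq_single 0] at e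
    · simpa [W_apply, D.zero_left, sg2_zero] using e
    · intro m _ hm
      rw [hdiag m 0 hm, mul_zero]
    · simp
    · intro m _ hm
      rw [hdiag r m (Ne.symm hm), zero_mul]
    · simp
  · rw [hdiag r c hrc]; simp [hrc]

theorem act_W (u : I × I) : Act d (W F d u) id := fun v => ⟨sg2 F (pf d u v), D.W_comm u v⟩

/-- The factor in `Act` squares to a sign. -/
theorem act_sq {h : Matrix I I F} (hu : IsUnit h) {v w : I × I} {c : F}
    (e : h * W F d v = c • (W F d w * h)) : c * c = sg2 F (d v.2 v.1) * sg2 F (d w.2 w.1) := by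
  have e2 : h * (W F d v * W F d v) = (c * c) • (W F d w * W F d w * h) := by
    rw [← Matrix.mul_assoc, e, Matrix.smul_mul, Matrix.mul_assoc, e, Matrix.mul_smul, smul_smul, Matrix.mul_assoc]
  rw [D.W_sq, D.W_sq, Matrix.mul_smul, Matrix.mul_one, Matrix.smul_mul, Matrix.one_mul, smul_smul] at e2
  haveI : Nonempty I := ⟨0⟩
  have := smul_left_injective F hu.ne_zero e2
  calc c * c = c * c * (sg2 F (d w.2 w.1) * sg2 F (d w.2 w.1)) := by rw [sg2_self, mul_one]
    _ = _ := by rw [← mul_assoc, ← this]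

theorem act_pow_four {h : Matrix I I F} (hu : IsUnit h) {v w : I × I} {c : F}
    (e : h * W F d v = c • (W F d w * h)) : c ^ 4 = 1 := by
  rw [show c ^ 4 = c * c * (c * c) by ring, D.act_sq hu e, mul_mul_mul_comm, sg2_self, sg2_self, mul_one]

theorem act_uniq (h2 : (2 : F) ≠ 0) {h : Matrix I I F} (hu : IsUnit h) {L K : I × I → I × I} (hL : Act d h L)
    (hK : Act d h K) : L = K := funext fun v => by
  obtain ⟨c, hc⟩ := hL v
  obtain ⟨e, he⟩ := hK v
  have hc4 := D.act_pow_four hu hc
  have hc0 : c ≠ 0 := fun e0 => by rw [e0] at hc4; simp at hc4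
  rw [hc, ← Matrix.smul_mul, ← Matrix.smul_mul] at he
  exact D.inj h2 (c := c⁻¹ * e) (by rw [mul_smul, ← hu.mul_left_injective he, inv_smul_smul₀ hc0])

theorem act_isom (h2 : (2 : F) ≠ 0) {h : Matrix I I F} (hu : IsUnit h) {L : I × I → I × I} (hL : Act d h L) :
    Isom (pf d) L := by
  haveI : Nonempty I := ⟨0⟩
  have hh : ∀ {x y : I × I} {a b : F}, h * W F d x = a • (W F d (L x) * h) → h * W F d y = b • (W F d (L y) * h) →
      h * (W F d x * W F d y) = (a * b) • (W F d (L x) * W F d (L y) * h) := fun {x y a b} ha hb => by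
    rw [← Matrix.mul_assoc, ha, Matrix.smul_mul, Matrix.mul_assoc, hb, Matrix.mul_smul, smul_smul, Matrix.mul_assoc]
  have hne : ∀ {v : I × I} {a : F}, h * W F d v = a • (W F d (L v) * h) → a ≠ 0 := fun e e0 => by
    have := D.act_pow_four hu e
    rw [e0] at this
    simp at this
  constructor
  · intro v w
    obtain ⟨a, ha⟩ := hL v
    obtain ⟨b, hb⟩ := hL w
    obtain ⟨c, hc⟩ := hL (v + w)
    have e := hh ha hb
    rw [D.W_mul, D.W_mul, Matrix.mul_smul, hc, smul_smul, Matrix.smul_mul, smul_smul, ← Matrix.smul_mul,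
      ← Matrix.smul_mul] at e
    have e' := hu.mul_left_injective e
    refine D.inj h2 (c := (sg2 F (d v.2 w.1) * c)⁻¹ * (a * b * sg2 F (d (L v).2 (L w).1))) ?_
    rw [mul_smul, ← e', inv_smul_smul₀ (mul_ne_zero (sg2_ne _) (hne hc))]
  · intro v w
    obtain ⟨a, ha⟩ := hL v
    obtain ⟨b, hb⟩ := hL w
    have e := hh ha hb
    rw [D.W_comm v w, Matrix.mul_smul, hh hb ha, smul_smul, D.W_comm (L v), Matrix.smul_mul, smul_smul,
      mul_comm b a] at e
    have hnz : W F d (L w) * W F d (L v) * h ≠ 0 := (((D.isUnit _).mul (D.isUnit _)).mul hu).ne_zero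
    have e2 := smul_left_injective F hnz e
    refine sg2_inj h2 (mul_left_cancel₀ (mul_ne_zero (hne ha) (hne hb)) ?_)
    rw [← e2, mul_comm]

/-- A matrix inducing the identity is a multiple of a Pauli matrix. -/
theorem act_id (h2 : (2 : F) ≠ 0) {h : Matrix I I F} (hu : IsUnit h) (hh : Act d h id) :
    ∃ c : F, ∃ u, c ≠ 0 ∧ h = c • W F d u := by
  haveI : Nonempty I := ⟨0⟩
  choose c hc using hh
  choose f hf using fun v => exists_sg2 (show c v * c v = 1 by
    rw [D.act_sq hu (hc v), id, sg2_self])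
  have hadd : ∀ v w, f (v + w) = f v + f w := by
    intro v w
    have e : h * (W F d v * W F d w) = (c v * c w * sg2 F (d v.2 w.1)) • (W F d (v + w) * h) := by
      rw [← Matrix.mul_assoc, hc v, Matrix.smul_mul, Matrix.mul_assoc, hc w, Matrix.mul_smul, smul_smul,
        ← Matrix.mul_assoc]
      simp only [id]
      rw [D.W_mul, Matrix.smul_mul, smul_smul]
    rw [D.W_mul, Matrix.mul_smul, hc (v + w), smul_smul] at e
    simp only [id] at e
    have e2 := smul_left_injective F ((D.isUnit _).mul hu).ne_zero e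
    refine sg2_inj h2 (mul_left_cancel₀ (sg2_ne (d v.2 w.1)) ?_)
    rw [sg2_add, ← hf, ← hf, ← hf, e2, mul_comm]
  obtain ⟨y₁, hy₁⟩ := D.dual (fun x => f (x, 0)) fun x y => by rw [← hadd]; simp
  obtain ⟨y₂, hy₂⟩ := D.dual (fun x => f (0, x)) fun x y => by rw [← hadd]; simp
  obtain ⟨u, hu'⟩ : ∃ u : I × I, u = (y₂, y₁) := ⟨_, rfl⟩
  have hs : ∀ v, pf d u v = f v := fun v => by
    rw [hu', pf, show v = (v.1, 0) + (0, v.2) by simp, hadd, ← hy₁, ← hy₂]
    simp [D.symm y₂]
  obtain ⟨g, hg⟩ : ∃ g, g = W F d u * h := ⟨_, rfl⟩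
  have hcomm : ∀ v, g * W F d v = W F d v * g := by
    intro v
    rw [hg, Matrix.mul_assoc, hc v, Matrix.mul_smul, ← Matrix.mul_assoc]
    simp only [id]
    rw [D.W_comm u, Matrix.smul_mul, smul_smul, hs, hf v, sg2_self, one_smul, Matrix.mul_assoc]
  obtain ⟨a, ha⟩ := D.scal h2 hcomm
  have e : h = (sg2 F (d u.2 u.1) * a) • W F d u := by
    have := congrArg (fun M => W F d u * M) ha
    rw [hg, ← Matrix.mul_assoc, D.W_sq, Matrix.smul_mul, Matrix.one_mul, Matrix.mul_smul, Matrix.mul_one] at this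
    rw [← smul_smul, ← this, smul_smul, sg2_self, one_smul]
  refine ⟨_, u, fun e0 => ?_, e⟩
  rw [e0, zero_smul] at e
  exact hu.ne_zero e

/-- Two matrices with the same action differ by a multiple of a Pauli matrix. -/
theorem act_eq (h2 : (2 : F) ≠ 0) {g h : Matrix I I F} (hg : IsUnit g) (hh : IsUnit h) {L : I × I → I × I}
    (aG : Act d g L) (aH : Act d h L) : ∃ c : F, ∃ u, c ≠ 0 ∧ g = c • (h * W F d u) := by
  obtain ⟨h', rfl⟩ := hh
  have ai : Act d (((h'⁻¹ : (Matrix I I F)ˣ) : Matrix I I F) * g) id := by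
    intro v
    obtain ⟨a, ha⟩ := aG v
    obtain ⟨b, hb⟩ := aH v
    have hb0 : b ≠ 0 := fun e0 => by
      have := D.act_pow_four h'.isUnit hb
      rw [e0] at this
      simp at this
    refine ⟨a / b, ?_⟩
    have e1 : ((h'⁻¹ : (Matrix I I F)ˣ) : Matrix I I F) * W F d (L v) =
        b⁻¹ • (W F d v * ((h'⁻¹ : (Matrix I I F)ˣ) : Matrix I I F)) := by
      have := congrArg (fun M : Matrix I I F => b⁻¹ • (((h'⁻¹ : (Matrix I I F)ˣ) : Matrix I I F) * M *
        ((h'⁻¹ : (Matrix I I F)ˣ) : Matrix I I F))) hb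
      simpa [Matrix.mul_assoc, smul_smul, hb0] using this.symm
    rw [Matrix.mul_assoc, ha, Matrix.mul_smul, ← Matrix.mul_assoc, e1, Matrix.smul_mul, smul_smul,
      Matrix.mul_assoc, div_eq_mul_inv]
    rfl
  obtain ⟨c, u, hc, e⟩ := D.act_id h2 ((h'⁻¹).isUnit.mul hg) ai
  refine ⟨c, u, hc, ?_⟩
  have := congrArg (fun M => (h' : Matrix I I F) * M) e
  rwa [← Matrix.mul_assoc, Units.mul_inv, Matrix.one_mul, Matrix.mul_smul] at this

/-- The group of Pauli matrices times fourth roots of unity. -/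
def grp [Finite F] : Subgroup (GL I F) where
  carrier := {g | ∃ c : F, ∃ v, c ^ 4 = 1 ∧ (g : Matrix I I F) = c • W F d v}
  one_mem' := ⟨1, 0, one_pow 4, by rw [D.W_zero, one_smul, Units.val_one]⟩
  mul_mem' := by
    rintro g h ⟨a, v, ha, eg⟩ ⟨b, w, hb, eh⟩
    refine ⟨a * b * sg2 F (d v.2 w.1), v + w, ?_, ?_⟩
    · rw [mul_pow, mul_pow, ha, hb, show sg2 F (d v.2 w.1) ^ 4 = (sg2 F (d v.2 w.1) * sg2 F (d v.2 w.1)) ^ 2 by
        ring, sg2_self, one_pow, one_mul, one_mul]
    · rw [Units.val_mul, eg, eh, Matrix.smul_mul, Matrix.mul_smul, D.W_mul, smul_smul, smul_smul, mul_assoc]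
  inv_mem' := by
    rintro g ⟨a, v, ha, eg⟩
    refine ⟨a⁻¹ * sg2 F (d v.2 v.1), v, ?_, ?_⟩
    · rw [mul_pow, inv_pow, ha, inv_one, one_mul,
        show sg2 F (d v.2 v.1) ^ 4 = (sg2 F (d v.2 v.1) * sg2 F (d v.2 v.1)) ^ 2 by ring, sg2_self, one_pow]
    · refine Units.inv_eq_of_mul_eq_one_right ?_
      have ha0 : a ≠ 0 := fun e => by rw [e] at ha; simp at ha
      rw [eg, Matrix.smul_mul, Matrix.mul_smul, D.W_sq, smul_smul, smul_smul,
        show a * (a⁻¹ * sg2 F (d v.2 v.1)) * sg2 F (d v.2 v.1) =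
          (a * a⁻¹) * (sg2 F (d v.2 v.1) * sg2 F (d v.2 v.1)) by ring, sg2_self, mul_inv_cancel₀ ha0, mul_one,
        one_smul]

theorem mem_grp [Finite F] {g : GL I F} :
    g ∈ (D.grp : Subgroup (GL I F)) ↔ ∃ c : F, ∃ v, c ^ 4 = 1 ∧ (g : Matrix I I F) = c • W F d v := Iff.rfl

/-- Normalising is the same as inducing some map. -/
theorem mem_normalizer_iff [Finite F] {g : GL I F} :
    g ∈ Subgroup.normalizer ((D.grp : Subgroup (GL I F)) : Set (GL I F)) ↔ ∃ L, Act d (g : Matrix I I F) L := by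
  haveI : Finite (GL I F) := Finite.of_injective _ Units.val_injective
  constructor
  · intro hg
    choose k w hk e using fun v =>
      (Subgroup.mem_normalizer_iff.1 hg ((D.isUnit v).unit)).1 (D.mem_grp.2
        ⟨1, v, one_pow 4, by rw [IsUnit.unit_spec, one_smul]⟩)
    refine ⟨w, fun v => ⟨k v, ?_⟩⟩
    have := congrArg (fun M => M * (g : Matrix I I F)) (e v)
    simp only [Units.val_mul, IsUnit.unit_spec] at this
    rw [Matrix.mul_assoc, ← Units.val_mul, inv_mul_cancel, Units.val_one, Matrix.mul_one, Matrix.smul_mul] at this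
    exact this
  · rintro ⟨L, hL⟩
    have key : ∀ x ∈ (D.grp : Subgroup (GL I F)), g * x * g⁻¹ ∈ (D.grp : Subgroup (GL I F)) := by
      rintro x ⟨a, v, ha, e⟩
      obtain ⟨c, hc⟩ := hL v
      refine ⟨a * c, L v, by rw [mul_pow, ha, D.act_pow_four g.isUnit hc, one_mul], ?_⟩
      rw [Units.val_mul, Units.val_mul, e, Matrix.mul_smul, hc, smul_smul, Matrix.smul_mul, Matrix.mul_assoc,
        ← Units.val_mul, mul_inv_cancel, Units.val_one, Matrix.mul_one]
    rw [Subgroup.mem_normalizer_iff]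
    intro x
    refine ⟨key x, fun hx => ?_⟩
    let f : ↥(D.grp (F := F)) → ↥(D.grp (F := F)) := fun y => ⟨g * y * g⁻¹, key y y.2⟩
    have hinj : Function.Injective f := fun a b h => Subtype.ext (by simpa [f] using congrArg Subtype.val h)
    obtain ⟨y, hy⟩ := (Finite.injective_iff_surjective.1 hinj) ⟨g * x * g⁻¹, hx⟩
    have : (y : GL I F) = x := by simpa [f] using congrArg Subtype.val hy
    exact this ▸ y.2

end Dot

end CfsgLib.EightMax
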