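import Cfsg.Agent.Lib.EightMax.Lift

/-!
Two and three qubits: Pauli matrices in blocks, controlled matrices, and determinants.
-/

set_option autoImplicit false
set_option linter.unusedSectionVars false

namespace CfsgLib.EightMax

open Matrix

variable {F : Type*} [Field F]

/-- Indices of two qubits. -/
abbrev I4 := ZMod 2 × ZMod 2

/-- Indices of three qubits. -/
abbrev I8 := I4 × ZMod 2

/-- The product on two qubits. -/
def d4 (x y : I4) : ZMod 2 := x.1 * y.1 + x.2 * y.2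

/-- The product on three qubits. -/
def d8 (x y : I8) : ZMod 2 := d4 x.1 y.1 + x.2 * y.2

theorem dot4 : Dot d4 where
  two := by decide
  add_left x y z := by simp only [d4, Prod.fst_add, Prod.snd_add]; ring
  symm x y := by simp only [d4]; ring
  nondeg := by decide
  dual f hf := ⟨(f (1, 0), f (0, 1)), fun x => by
    have h0 : f 0 = 0 := by
      have := hf 0 0
      rw [add_zero] at this
      exact left_eq_add.1 this
    obtain ⟨a, b⟩ := x
    rcases z2 a with rfl | rfl <;> rcases z2 b with rfl | rfl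
    · rw [show ((0, 0) : I4) = 0 from rfl, h0]; simp [d4]
    · simp [d4]
    · simp [d4]
    · rw [show ((1, 1) : I4) = (1, 0) + (0, 1) by decide, hf]; simp [d4]⟩

theorem dot8 : Dot d8 where
  two := by decide
  add_left x y z := by simp only [d8, Prod.fst_add, Prod.snd_add, dot4.add_left]; ring
  symm x y := by simp only [d8, dot4.symm x.1]; ring
  nondeg := by decide
  dual f hf := by
    obtain ⟨y, hy⟩ := dot4.dual (fun x => f (x, 0)) fun a b => by rw [← hf]; simp
    refine ⟨(y, f (0, 1)), fun x => ?_⟩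
    obtain ⟨a, e⟩ := x
    have h0 : f 0 = 0 := by
      have := hf 0 0
      rw [add_zero] at this
      exact left_eq_add.1 this
    rcases z2 e with rfl | rfl
    · simp [d8, hy]
    · rw [show ((a, 1) : I8) = (a, 0) + (0, 1) by simp, hf, ← hy]; simp [d8]

theorem card_V8 : Nat.card (I8 × I8) = 64 := by
  simp [Nat.card_prod, Nat.card_zmod]

/-- The vector of the last qubit's sign matrix. -/
def z8 : I8 × I8 := (((0, 0), 0), ((0, 0), 1))

/-- The vector of the last qubit's swap. -/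
def x8 : I8 × I8 := (((0, 0), 1), ((0, 0), 0))

/-- A vector of two qubits among three. -/
def emb (v : I4 × I4) : I8 × I8 := ((v.1, 0), (v.2, 0))

theorem z8_ne : z8 ≠ 0 := by decide

theorem emb_ne {v : I4 × I4} (hv : v ≠ 0) : emb v ≠ 0 := fun e => hv (by
  simp only [emb, Prod.ext_iff, Prod.fst_zero, Prod.snd_zero] at e
  exact Prod.ext (Prod.ext e.1.1.1 e.1.1.2) (Prod.ext e.2.1.1 e.2.1.2))

local notation "M4" => Matrix I4 I4 F
local notation "M8" => Matrix I8 I8 F

theorem W8_diag (a b : I4) (f : ZMod 2) :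
    (W F d8 ((a, 0), (b, f)) : M8) = blockDiagonal fun k => sg2 F (f * k) • W F d4 (a, b) := by
  ext ⟨r, k⟩ ⟨c, l⟩
  simp only [W_apply, d8, blockDiagonal_apply, Matrix.smul_apply, smul_eq_mul, Prod.mk_add_mk, add_zero,
    Prod.mk.injEq, mul_ite, mul_zero, sg2_add]
  by_cases h1 : k = l
  · subst h1
    by_cases h2 : r = c + a
    · simp [h2, mul_comm]
    · simp [h2]
  · simp [h1]

theorem W8_emb (v : I4 × I4) : (W F d8 (emb v) : M8) = blockDiagonal fun _ => W F d4 v := by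
  rw [emb, W8_diag]; simp [sg2_zero]

theorem W8_z : (W F d8 z8 : M8) = blockDiagonal fun k => sg2 F k • (1 : M4) := by
  rw [z8, W8_diag]
  congr 1
  funext k
  rw [one_mul, show ((((0, 0) : I4), ((0, 0) : I4)) : I4 × I4) = 0 from rfl, dot4.W_zero]

theorem W8_offdiag (a b : I4) (f : ZMod 2) :
    (W F d8 ((a, 1), (b, f)) : M8) = sg2 F f • (W F d8 ((a, 0), (b, f)) * W F d8 x8) := by
  rw [dot8.W_mul, smul_smul, ← sg2_add, show d8 ((a, (0 : ZMod 2)), (b, f)).2 x8.1 = f by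
    simp [d8, x8, d4], CharTwo.add_self_eq_zero, sg2_zero, one_smul]
  congr 1
  simp [x8]

theorem x8_sq : (W F d8 x8 : M8) * W F d8 x8 = 1 := by
  rw [dot8.W_sq, show d8 x8.2 x8.1 = 0 from by decide, sg2_zero, one_smul]

theorem x8_block (Q : ZMod 2 → M4) :
    (W F d8 x8 : M8) * blockDiagonal Q = blockDiagonal (fun k => Q (k + 1)) * W F d8 x8 := by
  have z : ∀ k l : ZMod 2, k = l + 1 ↔ l = k + 1 := by decide
  have e0 : ∀ r c : I8, (W F d8 x8 : M8) r c = if r.1 = c.1 ∧ r.2 = c.2 + 1 then 1 else 0 := by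
    intro r c
    rw [W_apply, show x8.2 = (0 : I8) from rfl, dot8.zero_left, sg2_zero]
    congr 1
    simp [x8, Prod.ext_iff]
  ext ⟨r, k⟩ ⟨c, l⟩
  rw [Matrix.mul_apply, Matrix.mul_apply, Finset.sum_eq_single (r, k + 1), Finset.sum_eq_single (c, l + 1)]
  · rw [e0, e0, if_pos ⟨rfl, (z k (k + 1)).2 rfl⟩, if_pos ⟨rfl, rfl⟩, one_mul, mul_one, blockDiagonal_apply,
      blockDiagonal_apply]
    by_cases h : k + 1 = l
    · rw [if_pos h, if_pos ((z k l).2 h.symm)]
    · rw [if_neg h, if_neg fun h' => h ((z k l).1 h').symm]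
  · rintro ⟨m, n⟩ - hm
    rw [e0, if_neg (fun h => hm (Prod.ext h.1 h.2)), mul_zero]
  · simp
  · rintro ⟨m, n⟩ - hm
    rw [e0, if_neg (fun h => hm (Prod.ext h.1.symm ((z k n).1 h.2))), zero_mul]
  · simp

theorem block_of_comm (h2 : (2 : F) ≠ 0) {A : M8} (h : A * W F d8 z8 = W F d8 z8 * A) :
    ∃ Q : ZMod 2 → M4, A = blockDiagonal Q := by
  refine ⟨fun k => Matrix.of fun r c => A (r, k) (c, k), ?_⟩
  have hd : (W F d8 z8 : M8) = Matrix.diagonal fun c => sg2 F c.2 := by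
    rw [W8_z]
    ext ⟨r, k⟩ ⟨c, l⟩
    by_cases h1 : k = l <;> by_cases h2 : r = c <;> simp [blockDiagonal_apply, Matrix.diagonal, h1, h2, Matrix.one_apply]
  ext ⟨r, k⟩ ⟨c, l⟩
  rw [blockDiagonal_apply]
  by_cases hkl : k = l
  · subst hkl; simp
  · rw [if_neg hkl]
    have e := congrFun (congrFun h (r, k)) (c, l)
    rw [hd, Matrix.mul_diagonal, Matrix.diagonal_mul] at e
    simp only at e
    have : (sg2 F l - sg2 F k) * A (r, k) (c, l) = 0 := by linear_combination e
    exact (mul_eq_zero.1 this).resolve_left (sub_ne_zero.2 fun e' => hkl (sg2_inj h2 e').symm)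

/-- The same matrix on the first two qubits in both blocks. -/
theorem kron_act {n : M4} {L : I4 × I4 → I4 × I4} (hn : Act d4 n L) :
    ∃ L8, Act d8 (blockDiagonal fun _ : ZMod 2 => n) L8 := by
  refine ⟨fun v => (((L (v.1.1, v.2.1)).1, v.1.2), ((L (v.1.1, v.2.1)).2, v.2.2)), ?_⟩
  rintro ⟨⟨a, e⟩, ⟨b, f⟩⟩
  obtain ⟨c, hc⟩ := hn (a, b)
  have key : (blockDiagonal fun _ : ZMod 2 => n) * W F d8 ((a, 0), (b, f)) =
      c • (W F d8 (((L (a, b)).1, 0), ((L (a, b)).2, f)) * blockDiagonal fun _ : ZMod 2 => n) := by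
    rw [W8_diag, W8_diag, ← blockDiagonal_mul, ← blockDiagonal_mul, ← blockDiagonal_smul]
    congr 1
    funext k
    simp only [Pi.smul_apply]
    rw [Matrix.mul_smul, hc, Matrix.smul_mul, smul_comm]
  refine ⟨c, ?_⟩
  rcases z2 e with rfl | rfl
  · exact key
  · simp only [W8_offdiag, Matrix.mul_smul, Matrix.smul_mul, ← Matrix.mul_assoc, key]
    rw [Matrix.mul_assoc _ (blockDiagonal fun _ : ZMod 2 => n), ← x8_block (fun _ => n), ← Matrix.mul_assoc,
      smul_comm]

/-- The controlled Pauli matrix. -/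
theorem ctl_act (u : I4 × I4) :
    ∃ L8, Act d8 (blockDiagonal fun k : ZMod 2 => if k = 0 then (1 : M4) else W F d4 u) L8 := by
  refine ⟨fun v => if v.1.2 = 0 then ((v.1.1, 0), (v.2.1, v.2.2 + pf d4 u (v.1.1, v.2.1)))
    else ((v.1.1 + u.1, 1), (v.2.1 + u.2, v.2.2 + pf d4 u (v.1.1, v.2.1) + d4 u.2 u.1)), ?_⟩
  rintro ⟨⟨a, e⟩, ⟨b, f⟩⟩
  obtain ⟨C, hC⟩ : ∃ C : M8, C = blockDiagonal fun k : ZMod 2 => if k = 0 then (1 : M4) else W F d4 u := ⟨_, rfl⟩
  rw [← hC]
  have key : C * W F d8 ((a, 0), (b, f)) = W F d8 ((a, 0), (b, f + pf d4 u (a, b))) * C := by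
    rw [hC, W8_diag, W8_diag, ← blockDiagonal_mul, ← blockDiagonal_mul]
    congr 1
    funext k
    rcases z2 k with rfl | rfl
    · simp [sg2_zero]
    · simp only [one_ne_zero, if_false, mul_one, Matrix.mul_smul, Matrix.smul_mul]
      rw [dot4.W_comm u, smul_smul, sg2_add]
  rcases z2 e with rfl | rfl
  · exact ⟨1, by rw [one_smul]; exact key⟩
  · have hx : C * W F d8 x8 = sg2 F (d4 u.2 u.1) • (W F d8 ((u.1, 0), (u.2, d4 u.2 u.1)) * (W F d8 x8 * C)) := by
      rw [hC, x8_block, W8_diag, ← Matrix.mul_assoc, ← blockDiagonal_mul, ← Matrix.smul_mul, ← blockDiagonal_smul]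
      congr 2
      funext k
      simp only [Pi.smul_apply]
      rcases z2 k with rfl | rfl
      · simp only [if_true, zero_add, one_ne_zero, if_false, mul_zero, sg2_zero, one_smul]
        rw [dot4.W_sq, smul_smul, sg2_self, one_smul]
      · simp only [one_ne_zero, if_false, show (1 : ZMod 2) + 1 = 0 from rfl, if_true, mul_one, Matrix.mul_one,
          smul_smul, sg2_self, one_smul, Prod.mk.eta]
    simp only [one_ne_zero, if_false]
    refine ⟨sg2 F f * sg2 F (d4 u.2 u.1) * sg2 F (d4 b u.1) *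
      sg2 F (f + pf d4 u (a, b) + d4 u.2 u.1), ?_⟩
    rw [W8_offdiag, Matrix.mul_smul, ← Matrix.mul_assoc, key, Matrix.mul_assoc, hx, Matrix.mul_smul,
      ← Matrix.mul_assoc, dot8.W_mul, Matrix.smul_mul, smul_smul, smul_smul, W8_offdiag, Matrix.smul_mul, smul_smul,
      ← Matrix.mul_assoc]
    congr 1
    rw [show d8 ((a, (0 : ZMod 2)), (b, f + pf d4 u (a, b))).2 ((u.1, (0 : ZMod 2)), (u.2, d4 u.2 u.1)).1 =
      d4 b u.1 by simp [d8], mul_assoc (_ * _ * _) (sg2 F _), sg2_self, mul_one]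

theorem G_z8 (i : F) : (G i d8 z8 : M8) = blockDiagonal fun k : ZMod 2 => (1 + i * sg2 F k) • (1 : M4) := by
  have e1 : (1 : M8) = blockDiagonal fun _ : ZMod 2 => (1 : M4) := blockDiagonal_one.symm
  rw [G, E, W8_z, show ec i d8 z8 = 1 from if_pos (by decide), one_smul, ← blockDiagonal_smul, e1,
    ← blockDiagonal_add]
  congr 1
  funext k
  simp only [Pi.smul_apply, Pi.add_apply]
  rw [smul_smul, add_smul, one_smul]

/-- The phase matrices. -/
theorem phase_act {i : F} (hi : i * i = -1) (h2 : (2 : F) ≠ 0) {α : F} (hα : α ^ 4 = 1) :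
    ∃ L8, Act d8 (blockDiagonal fun k : ZMod 2 => (if k = 0 then (1 : F) else α) • (1 : M4)) L8 := by
  let P : F → M8 := fun α => blockDiagonal fun k : ZMod 2 => (if k = 0 then (1 : F) else α) • (1 : M4)
  show ∃ L8, Act d8 (P α) L8
  have hm : ∀ x y, P (x * y) = P x * P y := fun x y => by
    simp only [P]
    rw [← blockDiagonal_mul]
    congr 1
    funext k
    rcases z2 k with rfl | rfl <;> simp [smul_smul, mul_comm]
  have hi0 := dot8.i_ne hi
  have h1i : (1 + i) ≠ 0 := fun e => h2 (by linear_combination (1 - i) * e + hi)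
  have hb : Act d8 (P (-i)) (tr (pf d8) z8) := by
    have e : P (-i) = (1 + i)⁻¹ • G i d8 z8 := by
      simp only [P, G_z8, ← blockDiagonal_smul]
      congr 1
      funext k
      simp only [Pi.smul_apply]
      rw [smul_smul]
      congr 1
      rcases z2 k with rfl | rfl <;> simp [sg2_zero, sg2_one, h1i] <;> field_simp <;> first | linear_combination hi | linear_combination -hi
    rw [e]
    exact (dot8.G_act hi z8).smul _
  have hpow : ∀ n : ℕ, ∃ L8, Act d8 (P ((-i) ^ n)) L8 := by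
    intro n
    induction n with
    | zero => exact ⟨id, by simpa [P, show (fun _ : ZMod 2 => (1 : M4)) = 1 from rfl] using act_one d8⟩
    | succ n ih => obtain ⟨L, hL⟩ := ih; exact ⟨_, by rw [pow_succ, hm]; exact hL.comp hb⟩
  obtain ⟨n, rfl⟩ : ∃ n : ℕ, α = (-i) ^ n := by
    rcases mul_self_eq_one_iff.1 (show (α * α) * (α * α) = 1 by rw [← hα]; ring) with h | h
    · rcases mul_self_eq_one_iff.1 h with rfl | rfl
      · exact ⟨0, by simp⟩
      · exact ⟨2, by rw [pow_two, neg_mul_neg, hi]⟩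
    · have : (α - i) * (α + i) = 0 := by linear_combination h - hi
      rcases mul_eq_zero.1 this with h | h
      · exact ⟨3, by rw [sub_eq_zero.1 h]; linear_combination i * hi⟩
      · exact ⟨1, by rw [pow_one]; exact eq_neg_of_add_eq_zero_left h⟩
  exact hpow n

theorem W4_det {i : F} (hi : i * i = -1) (h2 : (2 : F) ≠ 0) (v : I4 × I4) : (W F d4 v).det = 1 := by
  by_cases hv : v = 0
  · rw [hv, dot4.W_zero, det_one]
  rw [dot4.W_det_eq hi h2 (by simp) hv (w := ((0, 0), (1, 0))) (by decide),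
    show (W F d4 (((0, 0), (1, 0)) : I4 × I4)) = Matrix.diagonal (fun c : I4 => sg2 F c.1) by
      ext r c; by_cases h : r = c <;> simp [W_apply, d4, h, Prod.mk_zero_zero]]
  rw [det_diagonal, Fintype.prod_prod_type]
  show (∏ x : Fin 2, ∏ _y : Fin 2, sg2 F x) = 1
  simp only [Fin.prod_univ_two]
  change sg2 F (0 : ZMod 2) * sg2 F 0 * (sg2 F (1 : ZMod 2) * sg2 F 1) = 1
  rw [sg2_self, sg2_self, mul_one]

theorem W8_det {i : F} (hi : i * i = -1) (h2 : (2 : F) ≠ 0) (v : I8 × I8) : (W F d8 v).det = 1 := by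
  by_cases hv : v = 0
  · rw [hv, dot8.W_zero, det_one]
  rw [dot8.W_det_eq hi h2 (by simp) hv z8_ne, W8_z, det_blockDiagonal]
  simp only [det_smul, det_one, mul_one, Fintype.card_prod, ZMod.card]
  refine Finset.prod_eq_one fun k _ => ?_
  rw [show sg2 F k ^ (2 * 2) = (sg2 F k * sg2 F k) ^ 2 by ring, sg2_self, one_pow]

theorem G4_det {i : F} (hi : i * i = -1) (h2 : (2 : F) ≠ 0) {v : I4 × I4} (hv : v ≠ 0) : (G i d4 v).det = 4 := by
  rw [dot4.G_det_eq hi h2 hv (w := ((0, 0), (1, 0))) (by decide),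
    show G i d4 (((0, 0), (1, 0)) : I4 × I4) = Matrix.diagonal (fun c : I4 => 1 + i * sg2 F c.1) by
      ext r c; by_cases h : r = c <;>
        simp [G, E, ec, W_apply, d4, h, Prod.mk_zero_zero]]
  rw [det_diagonal, Fintype.prod_prod_type]
  show (∏ x : Fin 2, ∏ _y : Fin 2, (1 + i * sg2 F x)) = 4
  simp only [Fin.prod_univ_two]
  change (1 + i * sg2 F (0 : ZMod 2)) * (1 + i * sg2 F 0) * ((1 + i * sg2 F (1 : ZMod 2)) * (1 + i * sg2 F 1)) = 4
  rw [sg2_zero, sg2_one]
  linear_combination (i * i - 3) * hi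

theorem G8_det {i : F} (hi : i * i = -1) (h2 : (2 : F) ≠ 0) {v : I8 × I8} (hv : v ≠ 0) : (G i d8 v).det = 16 := by
  rw [dot8.G_det_eq hi h2 hv z8_ne]
  rw [G_z8, det_blockDiagonal]
  simp only [det_smul, det_one, mul_one, Fintype.card_prod, ZMod.card]
  show (∏ x : Fin 2, (1 + i * sg2 F x) ^ (2 * 2)) = 16
  simp only [Fin.prod_univ_two]
  change (1 + i * sg2 F (0 : ZMod 2)) ^ (2 * 2) * (1 + i * sg2 F (1 : ZMod 2)) ^ (2 * 2) = 16
  rw [sg2_zero, sg2_one]
  linear_combination ((i*i - 3) * ((1 - i * i) ^ 2 + 4)) * hi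

/-- An isometry of two qubits is induced by a matrix of determinant with square one. -/
theorem lift4 {i : F} (hi : i * i = -1) (h2 : (2 : F) ≠ 0) {L : I4 × I4 → I4 × I4} (hL : Isom (pf d4) L) :
    ∃ A : M4, A.det * A.det = 1 ∧ Act d4 A L := by
  obtain ⟨A, m, -, hA, hd⟩ := dot4.exists_lift hi h2 (v₀ := ((0, 0), (1, 0))) (by decide) hL
  rw [G4_det hi h2 (by decide)] at hd
  have h1i : (1 + i) ≠ 0 := fun e => h2 (by linear_combination (1 - i) * e + hi)
  refine ⟨((1 + i)⁻¹ ^ m) • A, ?_, hA.smul _⟩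
  rw [det_smul, hd, Fintype.card_prod, ZMod.card, ← pow_mul, inv_pow, mul_comm m, pow_mul,
    show (1 + i) ^ (2 * 2) = -4 by linear_combination ((1 + i) ^ 2 + 2 * i + (4 : F)) * hi,
    show ((-4 : F) ^ m)⁻¹ * 4 ^ m * (((-4 : F) ^ m)⁻¹ * 4 ^ m) = (4 ^ m * 4 ^ m) * ((-4 : F) ^ m * (-4) ^ m)⁻¹ by
      rw [mul_inv]; ring,
    show (-4 : F) ^ m * (-4) ^ m = 4 ^ m * 4 ^ m by rw [← mul_pow, ← mul_pow, neg_mul_neg]]
  refine mul_inv_cancel₀ ?_
  have h4 : (4 : F) ≠ 0 := by rw [show (4 : F) = 2 * 2 by norm_num]; exact mul_ne_zero h2 h2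
  exact mul_ne_zero (pow_ne_zero _ h4) (pow_ne_zero _ h4)

/-- An isometry of three qubits is induced by a matrix of determinant one. -/
theorem lift8 {i : F} (hi : i * i = -1) (h2 : (2 : F) ≠ 0) {L : I8 × I8 → I8 × I8} (hL : Isom (pf d8) L) :
    ∃ A : M8, A.det = 1 ∧ Act d8 A L := by
  obtain ⟨A, m, -, hA, hd⟩ := dot8.exists_lift hi h2 z8_ne hL
  rw [G8_det hi h2 z8_ne] at hd
  refine ⟨((1 + i)⁻¹ ^ m) • A, ?_, hA.smul _⟩
  rw [det_smul, hd, Fintype.card_prod, Fintype.card_prod, ZMod.card, ← pow_mul, inv_pow, mul_comm m, pow_mul,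
    show (1 + i) ^ (2 * 2 * 2) = 16 by
      rw [pow_mul, show (1 + i) ^ (2 * 2) = -4 by linear_combination ((1 + i) ^ 2 + 2 * i + (4 : F)) * hi]
      norm_num]
  refine inv_mul_cancel₀ (pow_ne_zero _ ?_)
  rw [show (16 : F) = 2 ^ 4 by norm_num]
  exact pow_ne_zero _ h2

end CfsgLib.EightMax
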