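import Cfsg.Agent.Lib.EightMax.Four

/-!
The setting of the maximality proof on three qubits, and the elements of the normaliser it contains.
-/

set_option autoImplicit false
set_option linter.unusedSectionVars false

namespace CfsgLib.EightMax

open Matrix

variable {F : Type*} [Field F] [Fintype F]

local notation "M4" => Matrix I4 I4 F
local notation "M8" => Matrix I8 I8 F

/-- A proper subgroup of `SL₈` containing the determinant-one normaliser. -/
structure Setup (p : ℕ) (i : F) (M : Subgroup (GL I8 F)) : Prop where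
  prime : p.Prime
  card : Fintype.card F = p
  five : 5 ≤ p
  isq : i * i = -1
  det : ∀ g ∈ M, (g : M8).det = 1
  le : ∀ g : GL I8 F, (g : M8).det = 1 → (∃ L, Act d8 (g : M8) L) → g ∈ M
  ntop : ¬ ∀ g : GL I8 F, (g : M8).det = 1 → g ∈ M

/-- The matrix belongs to the group. -/
def In (M : Subgroup (GL I8 F)) (A : M8) : Prop := ∃ g ∈ M, (g : M8) = A

/-- Two blocks according to the last qubit. -/
def B2 (a b : M4) : M8 := blockDiagonal fun k : ZMod 2 => if k = 0 then a else b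

theorem B2_mul (a b c d : M4) : B2 a b * B2 c d = B2 (a * c) (b * d) := by
  rw [B2, B2, B2, ← blockDiagonal_mul]
  congr 1
  funext k
  split <;> rfl

theorem B2_const (a : M4) : B2 a a = blockDiagonal fun _ : ZMod 2 => a := by
  rw [B2]; simp

theorem B2_one : B2 (1 : M4) 1 = 1 := by
  rw [B2_const]; exact blockDiagonal_one

theorem B2_smul (c : F) (a b : M4) : c • B2 a b = B2 (c • a) (c • b) := by
  rw [B2, B2, ← blockDiagonal_smul]
  congr 1
  funext k
  simp only [Pi.smul_apply]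
  split <;> rfl

theorem B2_det (a b : M4) : (B2 a b).det = a.det * b.det := by
  rw [B2, det_blockDiagonal]
  show (∏ x : Fin 2, (if (x : ZMod 2) = 0 then a else b).det) = _
  rw [Fin.prod_univ_two]
  rfl

theorem B2_inj {a b c d : M4} (e : B2 a b = B2 c d) : a = c ∧ b = d := by
  constructor <;> ext r s
  · simpa [B2, blockDiagonal_apply] using congrFun (congrFun e (r, 0)) (s, 0)
  · simpa [B2, blockDiagonal_apply] using congrFun (congrFun e (r, 1)) (s, 1)

theorem B2_x (a b : M4) : W F d8 x8 * B2 a b = B2 b a * W F d8 x8 := by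
  rw [B2, x8_block, B2]
  congr 2
  funext k
  rcases z2 k with rfl | rfl <;> simp [show (1 : ZMod 2) + 1 = 0 from rfl]

theorem W8_eq_B2 (a b : I4) (f : ZMod 2) :
    (W F d8 ((a, 0), (b, f)) : M8) = B2 (W F d4 (a, b)) (sg2 F f • W F d4 (a, b)) := by
  rw [W8_diag, B2]
  congr 1
  funext k
  rcases z2 k with rfl | rfl <;> simp [sg2_zero]

theorem W8_emb_B2 (v : I4 × I4) : (W F d8 (emb v) : M8) = B2 (W F d4 v) (W F d4 v) := by
  rw [W8_emb, B2_const]

theorem W8_z_B2 : (W F d8 z8 : M8) = B2 1 (-1) := by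
  rw [z8, W8_eq_B2, sg2_one, show ((((0, 0) : I4), ((0, 0) : I4)) : I4 × I4) = 0 from rfl, dot4.W_zero, neg_one_smul]

variable {p : ℕ} {i : F} {M : Subgroup (GL I8 F)}

theorem in_mul {A B : M8} (hA : In M A) (hB : In M B) : In M (A * B) := by
  obtain ⟨g, hg, rfl⟩ := hA
  obtain ⟨k, hk, rfl⟩ := hB
  exact ⟨g * k, mul_mem hg hk, Units.val_mul g k⟩

theorem in_one : In M (1 : M8) := ⟨1, one_mem M, rfl⟩

theorem in_left {A B : M8} (hAB : In M (A * B)) (hB : In M B) : In M A := by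
  obtain ⟨k, hk, rfl⟩ := hB
  obtain ⟨g, hg, e⟩ := hAB
  exact ⟨g * k⁻¹, mul_mem hg (inv_mem hk), by rw [Units.val_mul, e, Matrix.mul_assoc, k.mul_inv, Matrix.mul_one]⟩

theorem in_right {A B : M8} (hAB : In M (A * B)) (hA : In M A) : In M B := by
  obtain ⟨k, hk, rfl⟩ := hA
  obtain ⟨g, hg, e⟩ := hAB
  exact ⟨k⁻¹ * g, mul_mem (inv_mem hk) hg, by rw [Units.val_mul, e, ← Matrix.mul_assoc, k.inv_mul, Matrix.one_mul]⟩

theorem in_isUnit {A : M8} (hA : In M A) : IsUnit A := by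
  obtain ⟨g, -, rfl⟩ := hA
  exact g.isUnit

theorem in_inv {A : M8} (hA : In M A) : ∃ A', In M A' ∧ A * A' = 1 ∧ A' * A = 1 := by
  obtain ⟨g, hg, rfl⟩ := hA
  exact ⟨_, ⟨g⁻¹, inv_mem hg, rfl⟩, g.mul_inv, g.inv_mul⟩

theorem isUnit_of_B2 {a b : M4} (h : In M (B2 a b)) : IsUnit a ∧ IsUnit b := by
  have hd := (Matrix.isUnit_iff_isUnit_det _).1 (in_isUnit h)
  rw [B2_det, IsUnit.mul_iff] at hd
  exact ⟨(Matrix.isUnit_iff_isUnit_det a).2 hd.1, (Matrix.isUnit_iff_isUnit_det b).2 hd.2⟩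

namespace Setup

variable (h : Setup p i M)
include h

theorem two : (2 : F) ≠ 0 := by
  haveI : Fact p.Prime := ⟨h.prime⟩
  haveI : CharP F p := charP_of_card_eq_prime h.card
  intro e
  have := Nat.le_of_dvd (by norm_num) ((CharP.cast_eq_zero_iff F p 2).1 (by exact_mod_cast e))
  have := h.five
  omega

theorem four_pow : i ^ 4 = 1 := by linear_combination (i * i - 1) * h.isq

theorem in_det {A : M8} (hA : In M A) : A.det = 1 := by
  obtain ⟨g, hg, rfl⟩ := hA
  exact h.det g hg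

theorem in_act {A : M8} (hd : A.det = 1) {L : I8 × I8 → I8 × I8} (hA : Act d8 A L) : In M A :=
  ⟨GeneralLinearGroup.mkOfDetNeZero A (by rw [hd]; exact one_ne_zero), h.le _ hd ⟨L, hA⟩, rfl⟩

theorem in_W (v : I8 × I8) : In M (W F d8 v) := h.in_act (W8_det h.isq h.two v) (dot8.act_W v)

theorem in_lift {L : I8 × I8 → I8 × I8} (hL : Isom (pf d8) L) : ∃ A : M8, In M A ∧ Act d8 A L := by
  obtain ⟨A, hd, hA⟩ := lift8 h.isq h.two hL
  exact ⟨A, h.in_act hd hA, hA⟩

/-- Matrices normalising on two qubits, in both blocks. -/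
theorem in_kron {n : M4} (hu : IsUnit n) {L : I4 × I4 → I4 × I4} (hn : Act d4 n L) :
    ∃ c : F, c ≠ 0 ∧ In M (B2 (c • n) (c • n)) := by
  obtain ⟨A, hd, hA⟩ := lift4 h.isq h.two (dot4.act_isom h.two hu hn)
  have hAu : IsUnit A := (Matrix.isUnit_iff_isUnit_det A).2 (IsUnit.of_mul_eq_one _ hd)
  obtain ⟨c, u, hc, e⟩ := dot4.act_eq h.two hu hAu hn hA
  refine ⟨c⁻¹, inv_ne_zero hc, ?_⟩
  rw [e, smul_smul, inv_mul_cancel₀ hc, one_smul, B2_const]
  obtain ⟨L', hL'⟩ := kron_act (hA.comp (dot4.act_W u))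
  refine h.in_act ?_ hL'
  rw [det_blockDiagonal]
  show (∏ _x : Fin 2, (A * W F d4 u).det) = 1
  rw [Fin.prod_univ_two, det_mul, W4_det h.isq h.two, mul_one, hd]

theorem in_nkron {n : M4} (hd : n.det = 1) {L : I4 × I4 → I4 × I4} (hn : Act d4 n L) : In M (B2 n n) := by
  obtain ⟨L', hL'⟩ := kron_act hn
  rw [B2_const]
  refine h.in_act ?_ hL'
  rw [det_blockDiagonal]
  exact Finset.prod_eq_one fun _ _ => hd

theorem in_ctl (u : I4 × I4) : In M (B2 1 (W F d4 u)) := by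
  obtain ⟨L, hL⟩ := ctl_act (F := F) u
  refine h.in_act ?_ hL
  show (B2 1 (W F d4 u)).det = 1
  rw [B2_det, det_one, one_mul, W4_det h.isq h.two]

theorem in_swap {a b : M4} (hab : In M (B2 a b)) : In M (B2 b a) := by
  have := in_mul (h.in_W x8) hab
  rw [B2_x] at this
  exact in_left this (h.in_W x8)

/-- Two matrices of determinant one on two qubits exchanging any two vectors. -/
theorem move4 {v w : I4 × I4} (hv : v ≠ 0) (hw : w ≠ 0) :
    ∃ (A : M4) (L : I4 × I4 → I4 × I4), A.det = 1 ∧ Act d4 A L ∧ L v = w := by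
  obtain ⟨z, h1, h1'⟩ := dot4.sform.exists_one_one hv hw
  have hne : ∀ {x y : I4 × I4}, pf d4 x y = 1 → x + y ≠ 0 := fun {x y} e e0 => by
    rw [dot4.sform.eq_of_add_eq_zero e0, dot4.sform.alt] at e
    exact absurd e (by decide)
  have h1i : (1 + i) ≠ 0 := fun e => h.two (by linear_combination (1 - i) * e + h.isq)
  refine ⟨((1 + i)⁻¹ ^ 2) • (G i d4 (z + w) * G i d4 (v + z)), _, ?_,
    ((dot4.G_act h.isq _).comp (dot4.G_act h.isq _)).smul _, ?_⟩
  · rw [det_smul, det_mul, G4_det h.isq h.two (hne (by rw [dot4.sform.symm, h1'])), G4_det h.isq h.two (hne h1),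
      Fintype.card_prod, ZMod.card, ← pow_mul, inv_pow, show 2 * (2 * 2) = (2 * 2) + (2 * 2) from rfl, pow_add,
      show (1 + i) ^ (2 * 2) = -4 by linear_combination ((1 + i) ^ 2 + 2 * i + (4 : F)) * h.isq, neg_mul_neg]
    refine inv_mul_cancel₀ ?_
    have h4 : (4 : F) ≠ 0 := by rw [show (4 : F) = 2 * 2 by norm_num]; exact mul_ne_zero h.two h.two
    exact mul_ne_zero h4 h4
  · rw [Function.comp_apply, dot4.sform.tr_move h1, dot4.sform.tr_move (by rw [dot4.sform.symm, h1'])]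

end Setup

end CfsgLib.EightMax

namespace CfsgLib.EightMax

open Matrix

variable {F : Type*} [Field F] [Fintype F]

/-- The elements of the normaliser used in the local arguments. -/
structure Core (i : F) (M : Subgroup (GL I8 F)) : Prop where
  two : (2 : F) ≠ 0
  isq : i * i = -1
  det : ∀ g ∈ M, (g : Matrix I8 I8 F).det = 1
  in_W : ∀ v : I8 × I8, In M (W F d8 v)
  in_G : ∀ v : I8 × I8, v ≠ 0 → In M ((1 + i)⁻¹ • G i d8 v)
  in_lift : ∀ L : I8 × I8 → I8 × I8, Isom (pf d8) L → ∃ A, In M A ∧ Act d8 A L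
  in_ctl : ∀ u : I4 × I4, In M (B2 1 (W F d4 u))
  in_sig : ∀ A : Matrix I8 I8 F, In M A → ∀ σ : Equiv.Perm I8, (∀ x, σ x = ((x.1.1, x.2), x.1.2)) →
    In M (A.submatrix σ σ)
  in_kronG : ∀ a : I4 × I4, ∃ c : F, c ≠ 0 ∧ In M (B2 (c • G i d4 a) (c • G i d4 a))
  in_kron : ∀ (a b : Matrix I4 I4 F), In M (B2 a b) → ∀ L, Act d4 a L → ∃ c : F, c ≠ 0 ∧ In M (B2 (c • a) (c • a))
  move4 : ∀ v w : I4 × I4, v ≠ 0 → w ≠ 0 →
    ∃ (A : Matrix I4 I4 F) (L : I4 × I4 → I4 × I4), A.det = 1 ∧ In M (B2 A A) ∧ Act d4 A L ∧ L v = w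

theorem Core.in_swap {i : F} {M : Subgroup (GL I8 F)} (h : Core i M) {a b : Matrix I4 I4 F}
    (hab : In M (B2 a b)) : In M (B2 b a) := by
  have := in_mul (h.in_W x8) hab
  rw [B2_x] at this
  exact in_left this (h.in_W x8)

theorem Core.in_WW {i : F} {M : Subgroup (GL I8 F)} (h : Core i M) (u : I4 × I4) :
    In M (B2 (W F d4 u) (W F d4 u)) := by
  rw [← W8_emb_B2]
  exact h.in_W _

end CfsgLib.EightMax
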