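import Cfsg.Agent.Lib.EightMax.Setup

/-!
When the blocks of the centraliser of a Pauli matrix only contain normalising matrices, that centraliser normalises.
-/

set_option autoImplicit false
set_option linter.unusedSectionVars false
set_option maxHeartbeats 1000000

namespace CfsgLib.EightMax

open Matrix

variable {F : Type*} [Field F] [Fintype F]

local notation "M4" => Matrix I4 I4 F
local notation "M8" => Matrix I8 I8 F

variable {p : ℕ} {i : F} {M : Subgroup (GL I8 F)}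

/-- The blocks of determinant one are normalising. -/
def Small (M : Subgroup (GL I8 F)) : Prop :=
  ∀ a b : M4, In M (B2 a b) → a.det = 1 → ∃ L, Act d4 a L

theorem two_vec_orth : ∀ a b : I4 × I4, ∃ v, v ≠ 0 ∧ pf d4 a v = 0 ∧ pf d4 b v = 0 := by decide +kernel

namespace Core

variable (h : Core i M) (hs : Small M)
include h hs

/-- Every block normalises. -/
theorem small_all {a b : M4} (hab : In M (B2 a b)) : ∃ L, Act d4 a L := by
  classical
  have h2 := h.two
  obtain ⟨ua, ub⟩ := isUnit_of_B2 hab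
  obtain ⟨_, hinv, e1, e2⟩ := in_inv hab
  obtain ⟨a', eu⟩ := ua
  obtain ⟨b', eb⟩ := ub
  obtain ⟨A, hA⟩ : ∃ A : M4, A = ((a'⁻¹ : (M4)ˣ) : M4) := ⟨_, rfl⟩
  obtain ⟨B, hB⟩ : ∃ B : M4, B = ((b'⁻¹ : (M4)ˣ) : M4) := ⟨_, rfl⟩
  have aA : a * A = 1 := by rw [hA, ← eu, Units.mul_inv]
  have Aa : A * a = 1 := by rw [hA, ← eu, Units.inv_mul]
  have bB : b * B = 1 := by rw [hB, ← eb, Units.mul_inv]
  have hAB : In M (B2 A B) := by
    refine in_right (A := B2 a b) ?_ hab
    rw [B2_mul, aA, bB, B2_one]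
    exact in_one
  have hdet : ∀ X : M4, (a * X * A).det = X.det := fun X => by
    rw [det_mul, det_mul, mul_right_comm, ← det_mul, aA, det_one, one_mul]
  have hdet' : ∀ X : M4, (A * X * a).det = X.det := fun X => by
    rw [det_mul, det_mul, mul_right_comm, ← det_mul, Aa, det_one, one_mul]
  -- conjugation keeps normalising matrices of determinant one normalising
  have conjA : ∀ n : M4, n.det = 1 → In M (B2 n n) → ∃ L, Act d4 (A * n * a) L := by
    intro n hd hn
    refine hs _ (B * n * b) ?_ (by rw [hdet', hd])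
    have := in_mul (in_mul hAB hn) hab
    rwa [B2_mul, B2_mul] at this
  have conja : ∀ u, ∃ K, Act d4 (a * W F d4 u * A) K := fun u => by
    refine hs _ (b * W F d4 u * B) ?_ (by rw [hdet, W4_det h.isq h2])
    have := in_mul (in_mul hab (h.in_WW u)) hAB
    rwa [B2_mul, B2_mul] at this
  have unit_conj : ∀ u, IsUnit (a * W F d4 u * A) := fun u =>
    ((IsUnit.of_mul_eq_one A aA).mul (dot4.isUnit u)).mul (IsUnit.of_mul_eq_one a Aa)
  -- some Pauli matrix comes from a Pauli matrix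
  obtain ⟨u₀, c₀, y₀, hu₀, hc₀, hy₀⟩ : ∃ (u : I4 × I4) (c : F) (y : I4 × I4), u ≠ 0 ∧ c ≠ 0 ∧
      a * W F d4 u * A = c • W F d4 y := by
    obtain ⟨u, hu⟩ : ∃ u : I4 × I4, u = ((0, 0), (1, 0)) := ⟨_, rfl⟩
    have hu0 : u ≠ 0 := by rw [hu]; decide
    obtain ⟨K, hK⟩ := conja u
    by_cases hid : K = id
    · obtain ⟨c, y, hc, e⟩ := dot4.act_id h2 (unit_conj u) (hid ▸ hK)
      exact ⟨u, c, y, hu0, hc, e⟩
    obtain ⟨w, hw⟩ : ∃ w, K w ≠ w := by
      by_contra hall
      push Not at hall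
      exact hid (funext hall)
    obtain ⟨K', hK'⟩ := conjA _ (W4_det h.isq h2 w) (h.in_WW w)
    obtain ⟨c, hc⟩ := hK' u
    obtain ⟨e, he⟩ := hK w
    -- the commutator with the Pauli matrix
    have k1 : W F d4 w * (a * W F d4 u * A) = c • (a * W F d4 (K' u) * A * W F d4 w) := by
      have := congrArg (fun X => a * X * A) hc
      simp only [Matrix.mul_smul, Matrix.smul_mul, ← Matrix.mul_assoc] at this
      rw [aA, Matrix.one_mul] at this
      simp only [Matrix.mul_assoc] at this ⊢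
      rw [aA, Matrix.mul_one] at this
      exact this
    have huK : IsUnit (A * W F d4 w * a) :=
      ((IsUnit.of_mul_eq_one a Aa).mul (dot4.isUnit w)).mul (IsUnit.of_mul_eq_one A aA)
    have hc0 : c ≠ 0 := fun e0 => by
      have := dot4.act_pow_four huK hc
      rw [e0] at this; simp at this
    have he0 : e ≠ 0 := fun e0 => by
      have := dot4.act_pow_four (unit_conj u) he
      rw [e0] at this; simp at this
    obtain ⟨P, hP⟩ : ∃ P, P = a * W F d4 u * A := ⟨_, rfl⟩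
    rw [← hP] at he k1
    have PP : P * P = sg2 F (d4 u.2 u.1) • (1 : M4) := by
      rw [hP]
      simp only [Matrix.mul_assoc]
      rw [← Matrix.mul_assoc A, Aa, Matrix.one_mul, ← Matrix.mul_assoc (W F d4 u) (W F d4 u), dot4.W_sq,
        Matrix.smul_mul, Matrix.one_mul, Matrix.mul_smul, aA]
    have k4 : a * W F d4 (K' u) * A = (c⁻¹ * sg2 F (d4 w.2 w.1)) • (W F d4 w * P * W F d4 w) := by
      rw [k1, Matrix.smul_mul, smul_smul, Matrix.mul_assoc _ (W F d4 w) (W F d4 w), dot4.W_sq, Matrix.mul_smul,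
        Matrix.mul_one, smul_smul,
        show c⁻¹ * sg2 F (d4 w.2 w.1) * c * sg2 F (d4 w.2 w.1) = (c⁻¹ * c) * (sg2 F (d4 w.2 w.1) * sg2 F (d4 w.2 w.1)) by
          ring, inv_mul_cancel₀ hc0, sg2_self, one_mul, one_smul]
    have k5 : a * W F d4 (K' u + u) * A =
        (sg2 F (d4 (K' u).2 u.1)) • ((a * W F d4 (K' u) * A) * P) := by
      rw [hP]
      simp only [Matrix.mul_assoc]
      rw [← Matrix.mul_assoc A a, Aa, Matrix.one_mul, ← Matrix.mul_assoc (W F d4 (K' u)) (W F d4 u), dot4.W_mul,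
        Matrix.smul_mul, Matrix.mul_smul, smul_smul, sg2_self, one_smul]
    have k6 : P * W F d4 w * P = (e * sg2 F (d4 u.2 u.1)) • W F d4 (K w) := by
      rw [he, Matrix.smul_mul, Matrix.mul_assoc, PP, Matrix.mul_smul, Matrix.mul_one, smul_smul]
    have k7 : a * W F d4 (K' u + u) * A = (sg2 F (d4 (K' u).2 u.1) * (c⁻¹ * sg2 F (d4 w.2 w.1)) *
        (e * sg2 F (d4 u.2 u.1)) * sg2 F (d4 w.2 (K w).1)) • W F d4 (w + K w) := by
      rw [k5, k4, Matrix.smul_mul, smul_smul, Matrix.mul_assoc (W F d4 w * P), Matrix.mul_assoc (W F d4 w),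
        ← Matrix.mul_assoc P, k6, Matrix.mul_smul, dot4.W_mul, smul_smul, smul_smul]
    by_cases h0 : K' u + u = 0
    · exfalso
      rw [h0, dot4.W_zero, Matrix.mul_one, aA] at k7
      have := dot4.inj h2 (v := 0) (w := w + K w) (by rw [dot4.W_zero]; exact k7)
      exact hw (dot4.sform.eq_of_add_eq_zero this.symm).symm
    refine ⟨K' u + u, _, w + K w, h0, ?_, k7⟩
    exact mul_ne_zero (mul_ne_zero (mul_ne_zero (sg2_ne _) (mul_ne_zero (inv_ne_zero hc0) (sg2_ne _)))
      (mul_ne_zero he0 (sg2_ne _))) (sg2_ne _)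
  have hy0 : y₀ ≠ 0 := fun e0 => hu₀ (dot4.inj h2 (v := u₀) (w := 0) (c := c₀) (by
    have := congrArg (fun X => A * X * a) hy₀
    simp only [Matrix.mul_smul, Matrix.smul_mul, Matrix.mul_assoc, Aa, Matrix.mul_one] at this
    rw [← Matrix.mul_assoc A a, Aa, Matrix.one_mul, e0, dot4.W_zero, Matrix.one_mul, Aa] at this
    rw [dot4.W_zero]; exact this))
  -- hence all do
  have hall : ∀ y, ∃ u, ∃ c : F, A * W F d4 y = c • (W F d4 u * A) := by
    intro y
    by_cases hy : y = 0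
    · exact ⟨0, 1, by rw [hy, dot4.W_zero, Matrix.mul_one, Matrix.one_mul, one_smul]⟩
    obtain ⟨n, L, hd, hnM, hL, eL⟩ := h.move4 _ _ hy0 hy
    obtain ⟨K, hK⟩ := conjA n hd hnM
    obtain ⟨f, hf⟩ := hK u₀
    obtain ⟨g, hg⟩ := hL y₀
    rw [eL] at hg
    have hn : IsUnit n := (Matrix.isUnit_iff_isUnit_det n).2 (by rw [hd]; exact isUnit_one)
    obtain ⟨n', rfl⟩ := hn
    have k0 : A * (n' : M4) * W F d4 y₀ = (f / c₀) • (W F d4 (K u₀) * A * (n' : M4)) := by
      have e0 : a * W F d4 u₀ = c₀ • (W F d4 y₀ * a) := by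
        rw [← Matrix.smul_mul, ← hy₀, Matrix.mul_assoc _ A a, Aa, Matrix.mul_one]
      have := congrArg (fun X => c₀⁻¹ • (X * A)) hf
      simp only [Matrix.mul_assoc] at this
      rw [← Matrix.mul_assoc a, e0] at this
      simp only [Matrix.smul_mul, Matrix.mul_smul, Matrix.mul_assoc, aA, Matrix.mul_one, smul_smul,
        inv_mul_cancel₀ hc₀, one_smul] at this
      rw [Matrix.mul_assoc, this, div_eq_inv_mul, Matrix.mul_assoc]
    rw [Matrix.mul_assoc A, hg, Matrix.mul_smul, ← Matrix.mul_assoc] at k0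
    have hg0 : g ≠ 0 := fun e0 => by
      have := dot4.act_pow_four n'.isUnit hg
      rw [e0] at this; simp at this
    refine ⟨K u₀, g⁻¹ * (f / c₀), ?_⟩
    have k8 := congrArg (fun X => g⁻¹ • (X * ((n'⁻¹ : (M4)ˣ) : M4))) k0
    simp only [Matrix.smul_mul, Matrix.mul_assoc, Units.mul_inv, Matrix.mul_one, smul_smul, inv_mul_cancel₀ hg0,
      one_smul] at k8
    exact k8
  choose L c hL using hall
  haveI : Finite (GL I4 F) := Finite.of_injective _ Units.val_injective
  obtain ⟨ga, hga⟩ : ∃ ga : GL I4 F, (ga : M4) = A := ⟨a'⁻¹, hA.symm⟩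
  have hmem := dot4.mem_normalizer_iff.2 (⟨L, fun v => ⟨c v, by rw [hga]; exact hL v⟩⟩ :
    ∃ L, Act d4 (ga : M4) L)
  obtain ⟨L', hL'⟩ := dot4.mem_normalizer_iff.1 (inv_mem hmem)
  refine ⟨L', ?_⟩
  rwa [Units.inv_eq_of_mul_eq_one_left (show a * (ga : M4) = 1 by rw [hga, aA])] at hL'

/-- Commutation relations of conjugates by elements commuting with a Pauli matrix. -/
theorem star {v : I8 × I8} (hv : v ≠ 0) {m : M8} (hm : In M m) (hmv : m * W F d8 v = W F d8 v * m)
    {w u : I8 × I8} (hw : pf d8 w v = 0) (hu : pf d8 u v = 0) {y : M8} (hy : m * W F d8 w = y * m) :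
    ∃ c : F, y * W F d8 u = c • (W F d8 u * y) ∨ y * W F d8 u = c • (W F d8 v * (W F d8 u * y)) := by
  classical
  have h2 := h.two
  -- move the vector to the standard one
  obtain ⟨z, h1, h1'⟩ := dot8.sform.exists_one_one hv z8_ne
  obtain ⟨A, hAM, hA⟩ := h.in_lift _ ((dot8.sform.tr_isom (z + z8)).comp (dot8.sform.tr_isom (v + z)))
  obtain ⟨L, hLdef⟩ : ∃ L, L = tr (pf d8) (z + z8) ∘ tr (pf d8) (v + z) := ⟨_, rfl⟩
  rw [← hLdef] at hA
  have hLv : L v = z8 := by
    rw [hLdef, Function.comp_apply, dot8.sform.tr_move h1, dot8.sform.tr_move (by rw [dot8.sform.symm, h1'])]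
  have hLi := dot8.act_isom h2 (in_isUnit hAM) hA
  obtain ⟨B, hBM, AB, BA⟩ := in_inv hAM
  obtain ⟨m', hm'⟩ : ∃ m', m' = A * m * B := ⟨_, rfl⟩
  obtain ⟨y', hy'⟩ : ∃ y', y' = A * y * B := ⟨_, rfl⟩
  have tr_ : ∀ t, ∃ f : F, f ≠ 0 ∧ A * W F d8 t * B = f • W F d8 (L t) := by
    intro t
    obtain ⟨f, hf⟩ := hA t
    refine ⟨f, fun e0 => ?_, ?_⟩
    · have := dot8.act_pow_four (in_isUnit hAM) hf
      rw [e0] at this; simp at this
    · rw [hf, Matrix.smul_mul, Matrix.mul_assoc, AB, Matrix.mul_one]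
  have cj : ∀ X Y : M8, A * (X * Y) * B = (A * X * B) * (A * Y * B) := fun X Y => by
    simp only [Matrix.mul_assoc]
    rw [← Matrix.mul_assoc B A, BA, Matrix.one_mul]
  have hm'M : In M m' := hm' ▸ in_mul (in_mul hAM hm) hBM
  have hm'z : m' * W F d8 z8 = W F d8 z8 * m' := by
    obtain ⟨f, hf, ef⟩ := tr_ v
    rw [hLv] at ef
    have := congrArg (fun X => A * X * B) hmv
    simp only [cj, ef, Matrix.mul_smul, Matrix.smul_mul, ← hm'] at this
    exact smul_right_injective M8 hf this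
  obtain ⟨Q, hQ⟩ := block_of_comm h2 hm'z
  have hQ' : m' = B2 (Q 0) (Q 1) := by
    rw [hQ, B2]
    congr 1
    funext k
    rcases z2 k with rfl | rfl <;> simp
  obtain ⟨uQ0, uQ1⟩ := isUnit_of_B2 (hQ' ▸ hm'M)
  obtain ⟨L0, hL0⟩ := h.small_all hs (hQ' ▸ hm'M)
  obtain ⟨L1, hL1⟩ := h.small_all hs (h.in_swap (hQ' ▸ hm'M))
  -- coordinates of the moved vectors
  have coord : ∀ t, pf d8 t v = 0 → (L t).1.2 = 0 := fun t ht => by
    have : pf d8 (L t) z8 = 0 := by rw [← hLv, hLi.pres, ht]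
    simpa [pf, d8, d4, z8] using this
  obtain ⟨a, e, b, f, hLw⟩ : ∃ a e b f, L w = ((a, e), (b, f)) := ⟨_, _, _, _, rfl⟩
  have he : e = 0 := by simpa [hLw] using coord w hw
  subst he
  obtain ⟨a', e', b', f', hLu⟩ : ∃ a e b f, L u = ((a, e), (b, f)) := ⟨_, _, _, _, rfl⟩
  have he : e' = 0 := by simpa [hLu] using coord u hu
  subst he
  obtain ⟨fw, hfw, efw⟩ := tr_ w
  obtain ⟨fu, hfu, efu⟩ := tr_ u
  obtain ⟨fv, hfv, efv⟩ := tr_ v
  rw [hLw, W8_eq_B2] at efw
  rw [hLu, W8_eq_B2] at efu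
  rw [hLv, W8_z_B2] at efv
  obtain ⟨c0, hc0⟩ := hL0 (a, b)
  obtain ⟨c1, hc1⟩ := hL1 (a, b)
  have ey : y' = B2 ((fw * c0) • W F d4 (L0 (a, b))) ((fw * (sg2 F f * c1)) • W F d4 (L1 (a, b))) := by
    refine (in_isUnit hm'M).mul_left_injective ?_
    show y' * m' = _ * m'
    have := congrArg (fun X => A * X * B) hy
    simp only [cj, efw, ← hm', ← hy', Matrix.mul_smul] at this
    rw [← this, hQ', B2_mul, B2_mul, B2_smul, Matrix.mul_smul, hc0, hc1]
    simp only [Matrix.smul_mul, smul_smul, mul_assoc]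
  -- the sign pattern
  obtain ⟨s0, hs0⟩ : ∃ s0, s0 = pf d4 (L0 (a, b)) (a', b') := ⟨_, rfl⟩
  obtain ⟨s1, hs1⟩ : ∃ s1, s1 = pf d4 (L1 (a, b)) (a', b') := ⟨_, rfl⟩
  have hback : ∀ {X Y : M8}, A * X * B = A * Y * B → X = Y := fun {X Y} e => by
    have := congrArg (fun Z => B * Z * A) e
    simp only [← Matrix.mul_assoc, BA, Matrix.one_mul] at this
    simpa [Matrix.mul_assoc, BA] using this
  by_cases hcase : s0 = s1
  · refine ⟨sg2 F s0, Or.inl (hback ?_)⟩
    simp only [Matrix.mul_smul, Matrix.smul_mul, cj, efu, ← hy', ey, B2_mul, B2_smul, dot4.W_comm (L0 (a, b)),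
      dot4.W_comm (L1 (a, b)), ← hs0, ← hs1, ← hcase, smul_smul]
    congr 2 <;> ring
  · refine ⟨sg2 F s0 * fv⁻¹, Or.inr (hback ?_)⟩
    have h10 : sg2 F s1 = -sg2 F s0 := by
      rcases z2 s0 with e | e <;> rcases z2 s1 with e' | e' <;> rw [e, e'] at hcase ⊢ <;>
        first
          | exact absurd rfl hcase
          | simp [sg2_zero, sg2_one]
    simp only [Matrix.mul_smul, Matrix.smul_mul, cj, efu, efv, ← hy', ey, B2_mul, B2_smul,
      dot4.W_comm (L0 (a, b)), dot4.W_comm (L1 (a, b)), ← hs0, ← hs1, h10, Matrix.one_mul, Matrix.neg_mul,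
      smul_neg, smul_smul, ← neg_smul]
    have k : fv * fv⁻¹ = 1 := mul_inv_cancel₀ hfv
    congr 2
    · linear_combination (-(fu * (fw * c0) * sg2 F s0)) * k
    · linear_combination (fu * sg2 F f' * (fw * (sg2 F f * c1)) * sg2 F s0) * k

/-- A matrix in the kernel of the projection to a block is a fourth root of unity times a Pauli matrix. -/
theorem small_ker {k : M4} {c : F} (hk : In M (B2 (c • 1) k)) :
    ∃ α : F, ∃ u, α ^ 4 = 1 ∧ k = (c * α) • W F d4 u := by
  classical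
  have h2 := h.two
  have hc : c ≠ 0 := fun e => by
    have := (isUnit_of_B2 hk).1
    rw [e, zero_smul] at this
    exact not_isUnit_zero this
  obtain ⟨K, hK⟩ := h.small_all hs (h.in_swap hk)
  have hku := (isUnit_of_B2 hk).2
  obtain ⟨n, hn, hnK⟩ : ∃ n : M4, IsUnit n ∧ n = k := ⟨k, hku, rfl⟩
  -- fixed vectors
  have fixed : ∀ (k : M4) (c : F), In M (B2 (c • 1) k) → ∀ K, Act d4 k K → ∀ v, v ≠ 0 → K v = v →
      ∀ w, pf d4 w v = 0 → K w = w ∨ K w = v + w := by
    intro k c hk K hK v hv hKv w hw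
    have hc : c ≠ 0 := fun e => by
      have := (isUnit_of_B2 hk).1
      rw [e, zero_smul] at this
      exact not_isUnit_zero this
    obtain ⟨s, hs'⟩ := hK v
    rw [hKv] at hs'
    -- make it commute exactly
    obtain ⟨k', hk', hK', hv'⟩ : ∃ k', In M (B2 (c • 1) k') ∧ Act d4 k' K ∧ k' * W F d4 v = W F d4 v * k' := by
      obtain ⟨x, rfl⟩ := exists_sg2 (show s * s = 1 by rw [dot4.act_sq (isUnit_of_B2 hk).2 hs', sg2_self])
      rcases z2 x with rfl | rfl
      · exact ⟨k, hk, hK, by rwa [sg2_zero, one_smul] at hs'⟩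
      · obtain ⟨u, hu⟩ := dot4.sform.exists_one hv
        rw [dot4.sform.symm] at hu
        refine ⟨k * W F d4 u, ?_, hK.comp (dot4.act_W u), ?_⟩
        · have := in_mul hk (h.in_ctl u)
          rwa [B2_mul, Matrix.mul_one] at this
        · rw [Matrix.mul_assoc, dot4.W_comm u, hu, sg2_one, Matrix.mul_smul, ← Matrix.mul_assoc, hs', sg2_one,
            Matrix.smul_mul, smul_smul, Matrix.mul_assoc]
          simp
    obtain ⟨s', hs''⟩ := hK' w
    obtain ⟨e, he⟩ := star h hs (emb_ne hv) hk' (by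
        rw [W8_emb_B2, B2_mul, B2_mul, Matrix.smul_mul, Matrix.mul_smul, Matrix.one_mul, Matrix.mul_one, hv'])
      (w := emb w) (u := x8) (y := B2 (W F d4 w) (s' • W F d4 (K w)))
      (by simpa [pf, d8, emb] using hw) (by simp [pf, d8, emb, x8, d4])
      (by rw [W8_emb_B2, B2_mul, B2_mul, Matrix.smul_mul, Matrix.mul_smul, Matrix.one_mul, Matrix.mul_one,
            Matrix.smul_mul, hs''])
    have hxu := dot8.isUnit (F := F) x8
    rcases he with he | he
    · left
      rw [B2_x] at he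
      rw [← Matrix.smul_mul] at he
      have := (B2_inj (hxu.mul_left_injective he |>.trans (B2_smul _ _ _))).1
      rw [smul_smul] at this
      exact (dot4.inj h2 this).symm
    · right
      rw [B2_x, W8_emb_B2, ← Matrix.mul_assoc (B2 _ _) (B2 _ _), B2_mul, ← Matrix.smul_mul] at he
      have := (B2_inj (hxu.mul_left_injective he |>.trans (B2_smul _ _ _))).1
      rw [Matrix.mul_smul, dot4.W_mul, smul_smul, smul_smul] at this
      have e1 := dot4.inj h2 this
      calc K w = v + v + K w := by rw [dot4.sform.two, zero_add]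
        _ = v + w := by rw [add_assoc, ← e1]
  -- the action is trivial
  have hKid : K = id := by
    by_contra hne
    obtain ⟨a, ha⟩ : ∃ a, K a ≠ a := by
      by_contra hall
      push Not at hall
      exact hne (funext hall)
    obtain ⟨f, hf, hfM⟩ := h.in_kronG a
    obtain ⟨g, eg⟩ : ∃ g, g = f • G i d4 a := ⟨_, rfl⟩
    rw [← eg] at hfM
    obtain ⟨_, hinv, e1, e2⟩ := in_inv hk
    obtain ⟨k', rfl⟩ := hku
    obtain ⟨g', hg'⟩ : IsUnit g := (isUnit_of_B2 hfM).1
    obtain ⟨r, hr⟩ : ∃ r, r = (k' : M4) * g * ((k'⁻¹ : (M4)ˣ) : M4) * ((g'⁻¹ : (M4)ˣ) : M4) := ⟨_, rfl⟩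
    have hrM : In M (B2 1 r) := by
      refine in_left (B := B2 g g) (in_left (B := B2 (c • 1) (k' : M4)) ?_ hk) hfM
      have := in_mul hk hfM
      rw [B2_mul] at this
      rw [B2_mul, B2_mul]
      convert this using 2
      · simp
      · rw [hr, ← hg']; simp [Matrix.mul_assoc]
    have hk'i : ∃ J, Act d4 ((k'⁻¹ : (M4)ˣ) : M4) J ∧ ∀ v, K (J v) = v := by
      haveI : Finite (GL I4 F) := Finite.of_injective _ Units.val_injective
      obtain ⟨J, hJ⟩ := dot4.mem_normalizer_iff.1 (inv_mem (dot4.mem_normalizer_iff.2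
        (⟨K, hK⟩ : ∃ L, Act d4 ((k' : GL I4 F) : M4) L)))
      refine ⟨J, hJ, fun v => congrFun (dot4.act_uniq h2 isUnit_one (L := K ∘ J) (K := id) ?_ (act_one _)) v⟩
      have := hK.comp hJ
      rwa [← Units.val_mul, mul_inv_cancel, Units.val_one] at this
    obtain ⟨J, hJ, hKJ⟩ := hk'i
    have hKi := dot4.act_isom h2 k'.isUnit hK
    have hgi : Act d4 ((g'⁻¹ : (M4)ˣ) : M4) (tr (pf d4) a) := by
      haveI : Finite (GL I4 F) := Finite.of_injective _ Units.val_injective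
      have hga : Act d4 ((g' : GL I4 F) : M4) (tr (pf d4) a) := by
        rw [hg', eg]; exact (dot4.G_act h.isq a).smul f
      obtain ⟨T, hT⟩ := dot4.mem_normalizer_iff.1 (inv_mem (dot4.mem_normalizer_iff.2
        (⟨_, hga⟩ : ∃ L, Act d4 ((g' : GL I4 F) : M4) L)))
      have hTT : tr (pf d4) a ∘ T = id := dot4.act_uniq h2 isUnit_one (by
        have := hga.comp hT
        rwa [← Units.val_mul, mul_inv_cancel, Units.val_one] at this) (act_one _)
      refine fun v => ?_
      have e : T = tr (pf d4) a := funext fun x => by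
        rw [← dot4.sform.tr_tr a (T x)]; exact congrArg _ (congrFun hTT x)
      exact e ▸ hT v
    have hract : Act d4 r (tr (pf d4) (K a) ∘ tr (pf d4) a) := by
      have := (((hK.comp (show Act d4 g (tr (pf d4) a) from eg ▸ (dot4.G_act h.isq a).smul f)).comp hJ).comp hgi)
      rw [← hr] at this
      refine fun v => ?_
      have e : ((K ∘ tr (pf d4) a) ∘ J) ∘ tr (pf d4) a = tr (pf d4) (K a) ∘ tr (pf d4) a := funext fun x => by
        simp only [Function.comp_apply]
        generalize tr (pf d4) a x = t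
        rcases z2 (pf d4 (J t) a) with q | q
        · rw [tr_zero q, hKJ, tr_zero (by rw [← hKJ t, hKi.pres, q])]
        · rw [tr_one q, hKi.add, hKJ, tr_one (by rw [← hKJ t, hKi.pres, q])]
      exact e ▸ this v
    have hr1 : In M (B2 ((1 : F) • 1) r) := by rwa [one_smul]
    have ha0 : a ≠ 0 := fun e => ha (by
      rw [e]
      have := hKi.add 0 0
      rw [add_zero] at this
      exact left_eq_add.1 this)
    have hKa0 : K a ≠ 0 := fun e => ha0 (dot4.sform.ext fun b => by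
      rw [← hKi.pres, e, dot4.sform.zero_left, dot4.sform.zero_left])
    rcases z2 (pf d4 (K a) a) with q | q
    · obtain ⟨w, hw1, hw2⟩ := dot4.sform.exists_one_one hKa0
        (b := K a + a) (fun e => ha (dot4.sform.eq_of_add_eq_zero e))
      rw [dot4.sform.add_left, hw1] at hw2
      have hwa : pf d4 w a = 0 := by
        rw [dot4.sform.symm]
        rcases z2 (pf d4 a w) with e | e
        · exact e
        · rw [e] at hw2; exact absurd hw2 (by decide)
      rw [dot4.sform.symm] at hw1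
      have := fixed r 1 hr1 _ hract a ha0 (by
        rw [Function.comp_apply, dot4.sform.tr_self, tr_zero (by rw [dot4.sform.symm, q])]) w hwa
      rw [Function.comp_apply, tr_zero hwa, tr_one hw1] at this
      rcases this with e | e
      · exact hKa0 (add_eq_left.1 e)
      · exact ha (by rw [add_comm a w] at e; exact add_left_cancel e)
    · obtain ⟨v, hv, hv1, hv2⟩ := two_vec_orth a (K a)
      have := fixed r 1 hr1 _ hract v hv (by
        rw [Function.comp_apply, tr_zero (a := a) (x := v) (by rw [dot4.sform.symm, hv1]),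
          tr_zero (a := K a) (x := v) (by rw [dot4.sform.symm, hv2])]) a hv1
      rw [Function.comp_apply, dot4.sform.tr_self, tr_one (by rw [dot4.sform.symm, q])] at this
      rcases this with e | e
      · exact hKa0 (add_eq_left.1 e)
      · rw [add_comm v a] at e
        rw [← add_left_cancel e, dot4.sform.symm, q] at hv1
        exact absurd hv1 (by decide)
  obtain ⟨β, u, hβ, e⟩ := dot4.act_id h2 hku (hKid ▸ hK)
  -- the scalar
  obtain ⟨γ, hγ⟩ : ∃ γ, γ = β * sg2 F (d4 u.2 u.1) := ⟨_, rfl⟩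
  have hγ0 : γ ≠ 0 := hγ ▸ mul_ne_zero hβ (sg2_ne _)
  have h0 : In M (B2 (c • 1) (γ • (1 : M4))) := by
    have := in_mul hk (h.in_ctl u)
    rwa [B2_mul, Matrix.mul_one, e, Matrix.smul_mul, dot4.W_sq, smul_smul, ← hγ] at this
  obtain ⟨v, hv⟩ : ∃ v : I4 × I4, v = ((0, 0), (1, 0)) := ⟨_, rfl⟩
  have hv0 : v ≠ 0 := by rw [hv]; decide
  obtain ⟨f, hf⟩ := star h hs (emb_ne hv0) h0 (by
      rw [W8_emb_B2, B2_mul, B2_mul, Matrix.smul_mul, Matrix.mul_smul, Matrix.one_mul, Matrix.mul_one,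
        Matrix.smul_mul, Matrix.mul_smul, Matrix.one_mul, Matrix.mul_one])
    (w := x8) (u := x8) (y := W F d8 x8 * B2 ((γ / c) • 1) ((c / γ) • 1))
    (by simp [pf, d8, emb, x8, d4]) (by simp [pf, d8, emb, x8, d4])
    (by
      rw [Matrix.mul_assoc (W F d8 x8), B2_mul, Matrix.smul_mul, Matrix.smul_mul, Matrix.one_mul, Matrix.one_mul,
        smul_smul, smul_smul, div_mul_cancel₀ _ hc, div_mul_cancel₀ _ hγ0, B2_x])
  rw [B2_x, Matrix.mul_assoc, x8_sq, Matrix.mul_one, ← B2_x, ← Matrix.mul_assoc (W F d8 x8) (W F d8 x8), x8_sq,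
    Matrix.one_mul, W8_emb_B2, B2_mul] at hf
  rcases hf with hf | hf
  · rw [B2_smul] at hf
    obtain ⟨p1, p2⟩ := B2_inj hf
    have q1 := congrFun (congrFun p1 0) 0
    have q2 := congrFun (congrFun p2 0) 0
    simp only [Matrix.smul_apply, Matrix.one_apply_eq, smul_eq_mul, mul_one] at q1 q2
    refine ⟨γ / c * sg2 F (d4 u.2 u.1), u, ?_, ?_⟩
    · obtain ⟨x, hx⟩ : ∃ x, x = γ / c := ⟨_, rfl⟩
      have hxi : c / γ = x⁻¹ := by rw [hx, inv_div]
      have hx0 : x ≠ 0 := hx ▸ div_ne_zero hγ0 hc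
      rw [← hx, hxi] at q1 q2
      rw [← hx, mul_pow,
        show sg2 F (d4 u.2 u.1) ^ 4 = (sg2 F (d4 u.2 u.1) * sg2 F (d4 u.2 u.1)) ^ 2 by ring, sg2_self, one_pow,
        mul_one]
      have r1 : f * (x * x) = 1 := by
        calc f * (x * x) = f * x * x := by ring
          _ = 1 := by rw [← q1, inv_mul_cancel₀ hx0]
      have r2 : x * x = f := by
        calc x * x = f * x⁻¹ * x := by rw [← q2]
          _ = f := by rw [mul_assoc, inv_mul_cancel₀ hx0, mul_one]
      calc x ^ 4 = x * x * (x * x) := by ring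
        _ = 1 := by nth_rw 1 [r2]; exact r1
    · rw [e, hγ]
      congr 1
      field_simp
      rw [pow_two, sg2_self]
  · exfalso
    rw [B2_smul] at hf
    obtain ⟨p1, -⟩ := B2_inj hf
    rw [Matrix.mul_smul, Matrix.mul_one, smul_smul, ← dot4.W_zero] at p1
    have hd : (c / γ) ≠ 0 := div_ne_zero hc hγ0
    have p2 := congrArg (fun X : M4 => (c / γ)⁻¹ • X) p1
    simp only [smul_smul, inv_mul_cancel₀ hd, one_smul] at p2
    exact hv0 (dot4.inj h2 p2).symm

/-- The centraliser of the standard vector normalises. -/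
theorem cent_z8 {m : M8} (hm : In M m) (hmz : m * W F d8 z8 = W F d8 z8 * m) : ∃ L, Act d8 m L := by
  classical
  obtain ⟨Q, hQ⟩ := block_of_comm h.two hmz
  obtain ⟨a, b, rfl⟩ : ∃ a b, m = B2 a b := ⟨Q 0, Q 1, by
    rw [hQ, B2]
    congr 1
    funext k
    rcases z2 k with rfl | rfl <;> simp⟩
  obtain ⟨La, hLa⟩ := h.small_all hs hm
  obtain ⟨ua, -⟩ := isUnit_of_B2 hm
  obtain ⟨c, hc, hcM⟩ := h.in_kron _ _ hm _ hLa
  obtain ⟨a', rfl⟩ := ua
  obtain ⟨B, hB⟩ : ∃ B : M4, B = ((a'⁻¹ : (M4)ˣ) : M4) * b := ⟨_, rfl⟩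
  have hk : In M (B2 (c⁻¹ • 1) (c⁻¹ • B)) := by
    refine in_right (A := B2 (c • (a' : M4)) (c • (a' : M4))) ?_ hcM
    rw [B2_mul]
    simp only [Matrix.smul_mul, Matrix.mul_smul, smul_smul, mul_inv_cancel₀ hc, inv_mul_cancel₀ hc, one_smul, Matrix.mul_one, hB,
      ← Matrix.mul_assoc, Units.mul_inv, Matrix.one_mul]
    exact hm
  obtain ⟨α, u, hα, e⟩ := small_ker h hs hk
  rw [← smul_smul] at e
  have eB : b = (a' : M4) * (α • W F d4 u) := by
    rw [← smul_right_injective M4 (inv_ne_zero hc) e, hB, ← Matrix.mul_assoc, Units.mul_inv, Matrix.one_mul]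
  obtain ⟨L1, hL1⟩ := kron_act hLa
  obtain ⟨L2, hL2⟩ := phase_act h.isq h.two hα
  obtain ⟨L3, hL3⟩ := ctl_act (F := F) u
  refine ⟨L1 ∘ L2 ∘ L3, ?_⟩
  have := hL1.comp (hL2.comp hL3)
  convert this using 1
  rw [eB, ← blockDiagonal_mul, ← blockDiagonal_mul, B2]
  congr 1
  funext k
  rcases z2 k with rfl | rfl <;> simp

/-- The centraliser of any non-zero vector normalises. -/
theorem cent {v : I8 × I8} (hv : v ≠ 0) {m : M8} (hm : In M m) (hmv : m * W F d8 v = W F d8 v * m) :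
    ∃ L, Act d8 m L := by
  classical
  have h2 := h.two
  obtain ⟨z, h1, h1'⟩ := dot8.sform.exists_one_one hv z8_ne
  obtain ⟨A, hAM, hA⟩ := h.in_lift _ ((dot8.sform.tr_isom (z + z8)).comp (dot8.sform.tr_isom (v + z)))
  obtain ⟨B, hBM, AB, BA⟩ := in_inv hAM
  obtain ⟨f, hf⟩ := hA v
  rw [Function.comp_apply, dot8.sform.tr_move h1, dot8.sform.tr_move (by rw [dot8.sform.symm, h1'])] at hf
  have hf0 : f ≠ 0 := fun e0 => by
    have := dot8.act_pow_four (in_isUnit hAM) hf
    rw [e0] at this; simp at this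
  have ev : A * W F d8 v * B = f • W F d8 z8 := by rw [hf, Matrix.smul_mul, Matrix.mul_assoc, AB, Matrix.mul_one]
  obtain ⟨L, hL⟩ := cent_z8 h hs (in_mul (in_mul hAM hm) hBM) (by
    refine smul_right_injective M8 hf0 ?_
    show f • (A * m * B * W F d8 z8) = f • (W F d8 z8 * (A * m * B))
    rw [← Matrix.mul_smul, ← Matrix.smul_mul, ← ev]
    simp only [Matrix.mul_assoc]
    rw [← Matrix.mul_assoc B A, BA, Matrix.one_mul, ← Matrix.mul_assoc B A, BA, Matrix.one_mul,
      ← Matrix.mul_assoc m, hmv, Matrix.mul_assoc])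
  haveI : Finite (GL I8 F) := Finite.of_injective _ Units.val_injective
  obtain ⟨g, hgA⟩ := in_isUnit hAM
  have hB : B = ((g⁻¹ : GL I8 F) : M8) := (Units.inv_eq_of_mul_eq_one_right (hgA.symm ▸ AB)).symm
  obtain ⟨m', rfl⟩ := in_isUnit hm
  have hn : g * m' * g⁻¹ ∈ Subgroup.normalizer (dot8.grp (F := F) : Set (GL I8 F)) := by
    refine dot8.mem_normalizer_iff.2 ⟨L, ?_⟩
    rw [Units.val_mul, Units.val_mul, hgA, ← hB]
    exact hL
  have hgN : g ∈ Subgroup.normalizer (dot8.grp (F := F) : Set (GL I8 F)) :=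
    dot8.mem_normalizer_iff.2 ⟨_, hgA.symm ▸ hA⟩
  have := mul_mem (mul_mem (inv_mem hgN) hn) hgN
  rw [show g⁻¹ * (g * m' * g⁻¹) * g = m' by group] at this
  exact dot8.mem_normalizer_iff.1 this

end Core

end CfsgLib.EightMax
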