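import Cfsg.Agent.Lib.Classical.GeometricSymp
import Cfsg.Agent.Lib.Classical.SympUnitarySixMax
import Cfsg.Agent.Lib.Classical.TensorWreathS.Main
import Cfsg.Agent.Lib.Classical.TensorMixed.Main

/-!
The geometric maximal subgroups of `Sp_8(q)` other than the normaliser of a group of symplectic type.
-/

set_option autoImplicit false

namespace CfsgLib.EightMaxSymp

open Cfsg

variable {F : Type*} [Field F] [Fintype F]

local notation "S₈" => Cfsg.spGL 4 F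

theorem singular (W : Submodule F (Fin 4 ⊕ Fin 4 → F)) (h0 : W ≠ ⊥)
    (hW : Cfsg.Geo.IsTotallySingularFor (Cfsg.sympForm 4 F) W) :
    Cfsg.Geo.IsMaximalIn S₈ (Cfsg.Geo.subspaceStabilizer W ⊓ S₈) :=
  CfsgLib.Classical.GeometricSymp.singular W h0 hW

theorem nondegenerate (W : Submodule F (Fin 4 ⊕ Fin 4 → F)) (h0 : W ≠ ⊥)
    (hW : Cfsg.Geo.IsNondegenerateOn (Cfsg.sympForm 4 F) W) (hd : Module.finrank F W < 4) :
    Cfsg.Geo.IsMaximalIn S₈ (Cfsg.Geo.subspaceStabilizer W ⊓ S₈) :=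
  CfsgLib.Classical.GeometricSymp.nondegenerate W h0 hW hd

theorem planes (hq : 3 ≤ Fintype.card F) (D : Fin 4 → Submodule F (Fin 4 ⊕ Fin 4 → F))
    (hD : Cfsg.Geo.IsNondegenerateMDecomposition (Cfsg.sympForm 4 F) 2 D) :
    Cfsg.Geo.IsMaximalIn S₈ (Cfsg.Geo.decompositionStabilizer D ⊓ S₈) :=
  CfsgLib.Classical.GeometricSymp.decomposition hD fun _ => hq

theorem halves (D : Fin 2 → Submodule F (Fin 4 ⊕ Fin 4 → F))
    (hD : Cfsg.Geo.IsNondegenerateMDecomposition (Cfsg.sympForm 4 F) 4 D) :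
    Cfsg.Geo.IsMaximalIn S₈ (Cfsg.Geo.decompositionStabilizer D ⊓ S₈) :=
  CfsgLib.Classical.GeometricSymp.decomposition hD fun h => absurd h (by norm_num)

theorem polarPair (hodd : Odd (Fintype.card F)) (D : Fin 2 → Submodule F (Fin 4 ⊕ Fin 4 → F))
    (hD : Cfsg.Geo.IsMDecomposition 4 D)
    (hts : ∀ i, Cfsg.Geo.IsTotallySingularFor (Cfsg.sympForm 4 F) (D i)) :
    Cfsg.Geo.IsMaximalIn S₈ (Cfsg.Geo.decompositionStabilizer D ⊓ S₈) :=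
  CfsgLib.Classical.SympPair.isMaximalIn (CfsgLib.Classical.GeometricSymp.two_ne_zero hodd) (by norm_num) hD hts

theorem extensionField (K : Subalgebra F (Matrix (Fin 4 ⊕ Fin 4) (Fin 4 ⊕ Fin 4) F))
    (hK : Cfsg.Geo.IsFieldSubalgebra 2 K) (hsa : Cfsg.Geo.IsSelfAdjointFor (Cfsg.sympForm 4 F) K)
    (halt : ∀ k ∈ K, ∀ v : (Fin 4 ⊕ Fin 4 → F), (Cfsg.sympForm 4 F) (Matrix.mulVec k v) v = 0) :
    Cfsg.Geo.IsMaximalIn S₈ (Cfsg.Geo.subalgebraNormalizer K ⊓ S₈) :=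
  CfsgLib.SympExt.isMaximalIn (by norm_num) (Or.inl (by norm_num)) (r := 2) (by norm_num) K hK hsa halt

theorem unitary (hodd : Odd (Fintype.card F)) (K : Subalgebra F (Matrix (Fin 4 ⊕ Fin 4) (Fin 4 ⊕ Fin 4) F))
    (hK : Cfsg.Geo.IsFieldSubalgebra 2 K) (hac : Cfsg.Geo.IsAdjointClosedFor (Cfsg.sympForm 4 F) K)
    (hnsa : ¬ Cfsg.Geo.IsSelfAdjointFor (Cfsg.sympForm 4 F) K) :
    Cfsg.Geo.IsMaximalIn S₈ (Cfsg.Geo.subalgebraNormalizer K ⊓ S₈) :=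
  CfsgLib.SympUSix.isMaximalIn (by norm_num) (CfsgLib.Classical.GeometricSymp.two_ne_zero hodd) hK hac hnsa

theorem subfield (F₀ : Subfield F) (r : ℕ) (P : Matrix.GeneralLinearGroup (Fin 4 ⊕ Fin 4) F) (ζ : F)
    (hr : r.Prime) (hc : Fintype.card F = Nat.card F₀ ^ r) (hζ : ζ ≠ 0)
    (hP : Cfsg.Geo.IsFormRationalStructure (Cfsg.sympForm 4 F) F₀ ζ P) :
    Cfsg.Geo.IsMaximalIn S₈ (Cfsg.Geo.subfieldSubgroup F₀ P ⊓ S₈) :=
  CfsgLib.Classical.GeometricSymp.subfield (by norm_num) F₀ r P ζ hr hc hζ hP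

theorem tensor (hodd : Odd (Fintype.card F)) (e : (Fin 4 ⊕ Fin 4) ≃ Fin 2 × Fin 4)
    (P : Matrix.GeneralLinearGroup (Fin 4 ⊕ Fin 4) F) (f₁ : (Fin 2 → F) → (Fin 2 → F) → F)
    (f₂ : (Fin 4 → F) → (Fin 4 → F) → F) (hf₁ : Cfsg.Geo.IsSymplecticForm f₁) (hf₂ : Cfsg.Geo.IsSymmetricForm f₂)
    (hminus : ¬ Cfsg.Geo.IsPlusTypeOn (fun v : Fin 4 → F => f₂ v v) ⊤)
    (hT : Cfsg.Geo.IsTensorFormStructure id (Cfsg.sympForm 4 F) f₁ f₂ e P) :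
    Cfsg.Geo.IsMaximalIn S₈ (Cfsg.Geo.tensorProductSubgroup 2 4 e P ⊓ S₈) :=
  CfsgLib.Classical.TensorMixed.isMaximalIn_symp_four hodd e P hf₁ hf₂ hminus hT

theorem tensorWreath (hodd : Odd (Fintype.card F)) (h5 : 5 ≤ Fintype.card F)
    (e : (Fin 4 ⊕ Fin 4) ≃ (Fin 3 → Fin 2)) (P : Matrix.GeneralLinearGroup (Fin 4 ⊕ Fin 4) F)
    (f₁ : (Fin 2 → F) → (Fin 2 → F) → F) (hf₁ : Cfsg.Geo.IsSymplecticForm f₁)
    (hT : Cfsg.Geo.IsTensorPowerFormStructure id (Cfsg.sympForm 4 F) f₁ e P) :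
    Cfsg.Geo.IsMaximalIn S₈ (Cfsg.Geo.tensorWreathSubgroup 2 3 e P ⊓ S₈) := by
  classical
  refine CfsgLib.Classical.TensorWreathS.isMaximalIn le_rfl (by norm_num) (by decide)
    (CfsgLib.Classical.GeometricSymp.two_ne_zero hodd) (fun _ => ?_) e P hf₁ hT
  by_contra hc
  push Not at hc
  have hsub : (Finset.univ : Finset F) ⊆ {0, 1, -1} := fun s _ => by
    by_cases h0 : s = 0
    · simp [h0]
    rcases mul_self_eq_one_iff.1 (hc s h0) with h | h <;> simp [h]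
  have h3 := (Finset.card_le_card hsub).trans Finset.card_le_three
  rw [Finset.card_univ] at h3
  omega

theorem orthogonal (heven : ¬ Odd (Fintype.card F)) (Q : (Fin 4 ⊕ Fin 4 → F) → F)
    (hQ : Cfsg.Geo.IsNondegenerateQuadraticForm Q)
    (hpol : ∀ u v : (Fin 4 ⊕ Fin 4 → F), QuadraticMap.polar Q u v = (Cfsg.sympForm 4 F) u v) :
    Cfsg.Geo.IsMaximalIn S₈ (Cfsg.Geo.quadSimilarityGroup Q ⊓ S₈) :=
  CfsgLib.Classical.GeometricSymp.quad (by norm_num) heven Q hQ hpol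

end CfsgLib.EightMaxSymp
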