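import Cfsg.Agent.Lib.Classical.UnitaryMaxTen
import Cfsg.Agent.Lib.Classical.UnitaryPair
import Cfsg.Agent.Lib.Classical.UnitaryDecompMax.Apply
import Cfsg.Agent.Lib.Classical.UnitaryDecompMax.EightFull
import Cfsg.Agent.Lib.Classical.TensorUnitary.Main
import Cfsg.Agent.Lib.Classical.UnitarySubfield
import Cfsg.Agent.Lib.Classical.UnitarySubfieldOdd
import Cfsg.Agent.Lib.Classical.UnitaryOrthSubfield

/-!
The geometric maximal subgroups of `SU_8(q)` other than the normaliser of a group of symplectic type.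
-/

set_option autoImplicit false

namespace CfsgLib.EightMaxUnit

open Cfsg CfsgLib.Classical.Herm
open CfsgLib.ClassicalAut (Unitary.Conj)

variable {F : Type*} [Field F] [Fintype F] {q : ℕ}

local notation "L₈" => Cfsg.GU 8 F q ⊓ Cfsg.Geo.specialLinear (Fin 8) F

theorem singular (hF : Fintype.card F = q ^ 2) (W : Submodule F (Fin 8 → F)) (hW0 : W ≠ ⊥)
    (hW : Cfsg.Geo.IsTotallySingularFor (Cfsg.hermForm 8 F q) W) :
    Cfsg.Geo.IsMaximalIn L₈ (Cfsg.Geo.subspaceStabilizer W ⊓ L₈) := by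
  obtain ⟨K⟩ := exists_conj_of_card hF
  exact isMaximalIn_of (exists_notMem_stab_singular K hW0 hW) (singular_le_or_top K (by omega) hW)

theorem nondegenerate (hF : Fintype.card F = q ^ 2) (W : Submodule F (Fin 8 → F)) (hW0 : W ≠ ⊥)
    (hW : Cfsg.Geo.IsNondegenerateOn (Cfsg.hermForm 8 F q) W) (hdim : 2 * Module.finrank F W < 8) :
    Cfsg.Geo.IsMaximalIn L₈ (Cfsg.Geo.subspaceStabilizer W ⊓ L₈) := by
  obtain ⟨K⟩ := exists_conj_of_card hF
  have hW' : Nondeg (q := q) W := fun w hw h0 => (hW w hw h0).2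
  have hd := finrank_orth K hW'
  exact isMaximalIn_of (exists_notMem_stab_nondeg K hW0 hW' (by omega))
    (nondegenerate_le_or_top' K hW' (by norm_num) hdim)

theorem decomposition {t k : ℕ} (hF : Fintype.card F = q ^ 2) (D : Fin t → Submodule F (Fin 8 → F))
    (hD : Cfsg.Geo.IsNondegenerateMDecomposition (Cfsg.hermForm 8 F q) k D) (hex : ¬ (k = 2 ∧ q = 2)) :
    Cfsg.Geo.IsMaximalIn L₈ (Cfsg.Geo.decompositionStabilizer D ⊓ L₈) := by
  obtain ⟨K⟩ := exists_conj_of_card hF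
  exact CfsgLib.Classical.HermDecompMax.decomposition_maximal_of K (by norm_num)
    (fun _ _ hM _ hg hgm => CfsgLib.Classical.HermDecompMax.top_of_not_mon_eight K hM hg hgm) hD hex

theorem lines (hF : Fintype.card F = q ^ 2) (D : Fin 8 → Submodule F (Fin 8 → F))
    (hD : Cfsg.Geo.IsNondegenerateMDecomposition (Cfsg.hermForm 8 F q) 1 D) :
    Cfsg.Geo.IsMaximalIn L₈ (Cfsg.Geo.decompositionStabilizer D ⊓ L₈) :=
  decomposition hF D hD (by omega)

theorem planes (hF : Fintype.card F = q ^ 2) (hq : 3 ≤ q) (D : Fin 4 → Submodule F (Fin 8 → F))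
    (hD : Cfsg.Geo.IsNondegenerateMDecomposition (Cfsg.hermForm 8 F q) 2 D) :
    Cfsg.Geo.IsMaximalIn L₈ (Cfsg.Geo.decompositionStabilizer D ⊓ L₈) :=
  decomposition hF D hD (by omega)

theorem halves (hF : Fintype.card F = q ^ 2) (D : Fin 2 → Submodule F (Fin 8 → F))
    (hD : Cfsg.Geo.IsNondegenerateMDecomposition (Cfsg.hermForm 8 F q) 4 D) :
    Cfsg.Geo.IsMaximalIn L₈ (Cfsg.Geo.decompositionStabilizer D ⊓ L₈) :=
  decomposition hF D hD (by omega)

theorem isotropicPair (hF : Fintype.card F = q ^ 2) (D : Fin 2 → Submodule F (Fin 8 → F))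
    (hD : Cfsg.Geo.IsMDecomposition 4 D)
    (hts : ∀ i, Cfsg.Geo.IsTotallySingularFor (Cfsg.hermForm 8 F q) (D i)) :
    Cfsg.Geo.IsMaximalIn L₈ (Cfsg.Geo.decompositionStabilizer D ⊓ L₈) := by
  obtain ⟨K⟩ := exists_conj_of_card hF
  exact CfsgLib.Classical.HermPair.isMaximalIn_of_three_le K (k := 4) (by norm_num) (by norm_num) hD hts

theorem tensor (hF : Fintype.card F = q ^ 2) (hq : 3 ≤ q) (e : Fin 8 ≃ Fin 2 × Fin 4)
    (P : Matrix.GeneralLinearGroup (Fin 8) F) (f₁ : (Fin 2 → F) → (Fin 2 → F) → F)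
    (f₂ : (Fin 4 → F) → (Fin 4 → F) → F) (hf₁ : Cfsg.Geo.IsUnitaryFormPow q f₁)
    (hf₂ : Cfsg.Geo.IsUnitaryFormPow q f₂)
    (hT : Cfsg.Geo.IsTensorFormStructure (fun x : F => x ^ q) (Cfsg.hermForm 8 F q) f₁ f₂ e P) :
    Cfsg.Geo.IsMaximalIn L₈ (Cfsg.Geo.tensorProductSubgroup 2 4 e P ⊓ L₈) := by
  obtain ⟨K⟩ := exists_conj_of_card hF
  exact CfsgLib.Classical.TensorUnitary.isMaximalIn K (by norm_num) le_rfl (by norm_num) (by norm_num)
    (by omega) e P hf₁ hf₂ hT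

theorem subfield (hF : Fintype.card F = q ^ 2) (F₀ : Subfield F) (r : ℕ)
    (P : Matrix.GeneralLinearGroup (Fin 8) F) (hr : r.Prime) (hro : Odd r)
    (hcard : Fintype.card F = Nat.card F₀ ^ r)
    (hP : Cfsg.Geo.IsFormRationalStructure (Cfsg.hermForm 8 F q) F₀ 1 P) :
    Cfsg.Geo.IsMaximalIn L₈ (Cfsg.Geo.subfieldSubgroup F₀ P ⊓ L₈) := by
  obtain ⟨K⟩ := exists_conj_of_card hF
  have hcard' : Nat.card F = Nat.card F₀ ^ r := by rw [Nat.card_eq_fintype_card]; exact hcard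
  exact Rat.isMaximalIn_subfield K ⟨hP, by norm_num, hr, hro, hcard'⟩

theorem sympSubfield (hF : Fintype.card F = q ^ 2) (F₀ : Subfield F)
    (P : Matrix.GeneralLinearGroup (Fin 8) F) (ζ : F) (hcard : Fintype.card F = Nat.card F₀ ^ 2)
    (hζ0 : ζ ≠ 0) (hζ : ζ + ζ ^ q = 0)
    (hP : Cfsg.Geo.IsFormRationalStructure (Cfsg.hermForm 8 F q) F₀ ζ P)
    (halt : ∀ u : Fin 8 → F, (∀ i, u i ∈ F₀) → (Cfsg.hermForm 8 F q)
      (Matrix.mulVec (P : Matrix (Fin 8) (Fin 8) F) u) (Matrix.mulVec (P : Matrix (Fin 8) (Fin 8) F) u) = 0) :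
    Cfsg.Geo.IsMaximalIn L₈ (Cfsg.Geo.subfieldSubgroup F₀ P ⊓ L₈) := by
  obtain ⟨K⟩ := exists_conj_of_card hF
  have hcard' : Nat.card F = Nat.card F₀ ^ 2 := by rw [Nat.card_eq_fintype_card]; exact hcard
  have hζ' : ζ + K.bar ζ = 0 := by rw [K.bar_apply]; exact hζ
  have halt' : ∀ a ∈ rat F₀ P, Cfsg.hermForm 8 F q a a = 0 := fun a ha => by
    obtain ⟨u, hu, rfl⟩ := exists_of_mem_rat ha
    exact halt u hu
  exact isMaximalIn_subfield_of (alt_exists_notMem K hcard' hζ0 hζ' hP halt' (by norm_num))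
    (alt_le_or_top K hcard' hζ0 hζ' hP halt' (by norm_num))

theorem orthSubfield (hF : Fintype.card F = q ^ 2) (hodd : Odd q) (F₀ : Subfield F)
    (P : Matrix.GeneralLinearGroup (Fin 8) F) (hcard : Fintype.card F = Nat.card F₀ ^ 2)
    (hP : Cfsg.Geo.IsFormRationalStructure (Cfsg.hermForm 8 F q) F₀ 1 P) :
    Cfsg.Geo.IsMaximalIn L₈ (Cfsg.Geo.subfieldSubgroup F₀ P ⊓ L₈) := by
  classical
  obtain ⟨K⟩ := exists_conj_of_card hF
  have hcard' : Nat.card F = Nat.card F₀ ^ 2 := by rw [Nat.card_eq_fintype_card]; exact hcard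
  have h2 : (2 : F) ≠ 0 := Ring.two_ne_zero fun e => by
    have h1 := FiniteField.even_card_of_char_two e
    rw [hF] at h1
    have h3 : Odd (q ^ 2) := hodd.pow
    rw [Nat.odd_iff] at h3
    omega
  obtain ⟨Q, hB, hQ, -⟩ := OrthSubfield.exists_form K hcard' hP h2
  exact isMaximalIn_subfield_of (OrthSubfield.orth_exists_notMem K hcard' hP h2 hB hQ (by norm_num))
    (fun M hM => OrthSubfield.orth_le_or_top K hcard' hP h2 hM hB hQ (by norm_num))

end CfsgLib.EightMaxUnit
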