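import Cfsg.Agent.Lib.EightMax.Unit
import Cfsg.Agent.Lib.EightMax.UnitGeometric
import Cfsg.Agent.Lib.Classical.UnitarySimple
import Cfsg.Agent.Lib.Classical.UnitaryOrder

/-!
In the unitary setting the blocks only contain normalising matrices.
-/

set_option autoImplicit false
set_option linter.unusedSectionVars false
set_option maxHeartbeats 1000000

namespace CfsgLib.EightMax

open Matrix
open scoped MatrixGroups commutatorElement

variable {F : Type*} [Field F] [Fintype F]

local notation "M4" => Matrix I4 I4 F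
local notation "M8" => Matrix I8 I8 F
local notation "M2" => Matrix (ZMod 2) (ZMod 2) F

variable {p : ℕ} {σ : F →+* F} {i : F} {M : Subgroup (GL I8 F)}

theorem un_diagonal {J : Type*} [Fintype J] [DecidableEq J] {f : J → F} (h : ∀ x, σ (f x) * f x = 1) :
    Un σ (Matrix.diagonal f) := by
  rw [Un, diagonal_map (map_zero σ), diagonal_transpose, diagonal_mul_diagonal, ← diagonal_one]
  exact congrArg diagonal (funext h)

/-- The scalar `i` in one block, as a multiple of normalising matrices. -/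
theorem phase4_act (hi : i * i = -1) (h2 : (2 : F) ≠ 0) :
    ∃ L, Act d4 (Matrix.diagonal fun x : I4 => if x.2 = 0 then sg2 F x.1 * i else 1 : M4) L := by
  have h1i : (1 + i) ≠ 0 := fun e => h2 (by linear_combination (1 - i) * e + hi)
  have h44 : (1 + i) ^ 4 ≠ 0 := pow_ne_zero 4 h1i
  obtain ⟨H, hH⟩ : ∃ H : M4, H = Matrix.diagonal fun x : I4 => if x.2 = 0 then 1 else sg2 F x.1 * i := ⟨_, rfl⟩
  have hdg : ∀ b : I4, G i d4 (((0, 0), b) : I4 × I4) = Matrix.diagonal fun c => 1 + i * sg2 F (d4 b c) := by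
    intro b
    ext r c
    by_cases e : r = c <;> simp [G, E, ec, W_apply, e, Prod.mk_zero_zero, dot4.zero_right]
  have e : H = ((1 + i) ^ 4)⁻¹ • (G i d4 (((0, 0), (1, 0)) : I4 × I4) *
      (G i d4 (((0, 0), (1, 1)) : I4 × I4) * (G i d4 (((0, 0), (1, 1)) : I4 × I4) *
        G i d4 (((0, 0), (1, 1)) : I4 × I4)))) := by
    refine smul_right_injective M4 h44 ?_
    simp only
    rw [smul_inv_smul₀ h44, hdg, hdg, hH, diagonal_mul_diagonal, diagonal_mul_diagonal, diagonal_mul_diagonal,
      ← diagonal_smul]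
    congr 1
    funext ⟨r, k⟩
    rcases z2 r with rfl | rfl <;> rcases z2 k with rfl | rfl <;>
      simp [d4, sg2_zero, sg2_one, show (1 : ZMod 2) + 1 = 0 from rfl] <;>
      first
        | linear_combination (0 : F) * hi
        | linear_combination (i ^ 3 + 5 * i ^ 2 + 3 * i - 1) * hi
        | linear_combination (-(1 + i) ^ 3) * hi
        | linear_combination (8 * i) * hi
  have hHA : ∃ L, Act d4 H L := e ▸ ⟨_, ((dot4.G_act hi _).comp
    ((dot4.G_act hi _).comp ((dot4.G_act hi _).comp (dot4.G_act hi _)))).smul _⟩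
  obtain ⟨L, hL⟩ := hHA
  refine ⟨id ∘ (L ∘ L ∘ L), ?_⟩
  have h := ((dot4.act_W (F := F) (((0, 0), (1, 0)) : I4 × I4)).smul i).comp (hL.comp (hL.comp hL))
  convert h using 1
  rw [show (W F d4 (((0, 0), (1, 0)) : I4 × I4) : M4) = Matrix.diagonal fun x => sg2 F x.1 from by
      ext r c; by_cases e : r = c <;> simp [W_apply, d4, e, Prod.mk_zero_zero],
    hH, ← diagonal_smul, diagonal_mul_diagonal, diagonal_mul_diagonal, diagonal_mul_diagonal]
  congr 1
  funext ⟨r, k⟩
  rcases z2 k with rfl | rfl <;> rcases z2 r with rfl | rfl <;> simp [sg2_zero, sg2_one] <;>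
    first
      | linear_combination (1 - i * i) * hi
      | linear_combination (i * i - 1) * hi

namespace USetup

variable (h : USetup p σ i M)
include h

theorem ne_one : i ≠ 1 ∧ -i ≠ 1 ∧ i ≠ -i := by
  refine ⟨fun e => h.two ?_, fun e => h.two ?_, fun e => h.two ?_⟩
  · linear_combination h.isq - (i + 1) * e
  · linear_combination h.isq + (i - 1) * e
  · have : i * 2 = 0 := by linear_combination e
    exact (mul_eq_zero.1 this).resolve_left (fun e' => by
      have := h.isq; rw [e'] at this; simp at this)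

/-- The unitary group on two qubits has no proper normal subgroup with non-scalar elements. -/
theorem normal_top (K : Subgroup (Cfsg.SU 4 F p)) [K.Normal] {g : Cfsg.SU 4 F p} (hg : g ∈ K)
    (hns : ¬ ∃ c : F, (g.1 : Matrix (Fin 4) (Fin 4) F) = c • 1) : K = ⊤ := by
  haveI : Fact p.Prime := ⟨h.prime⟩
  obtain ⟨q, hq⟩ := CharP.exists F
  haveI := hq
  haveI : Fact q.Prime := ⟨CharP.char_is_prime F q⟩
  obtain ⟨C⟩ := CfsgLib.Classical.Herm.exists_conj_of_card (F := F) (q := p)
    (by rw [← Nat.card_eq_fintype_card, h.card])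
  haveI := CfsgLib.Classical.Herm.isSimpleGroup C q (n := 4) (by norm_num) (by simp)
  set π := QuotientGroup.mk' (Subgroup.center (Cfsg.SU 4 F p)) with hπ
  have hsurj : Function.Surjective π := QuotientGroup.mk'_surjective _
  haveI : (K.map π).Normal := Subgroup.Normal.map inferInstance π hsurj
  have hne : K.map π ≠ ⊥ := by
    intro e
    have hc : g ∈ Subgroup.center (Cfsg.SU 4 F p) := by
      have : π g ∈ K.map π := Subgroup.mem_map_of_mem _ hg
      rw [e, Subgroup.mem_bot, hπ, QuotientGroup.mk'_apply, QuotientGroup.eq_one_iff] at this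
      exact this
    exact hns ((CfsgLib.Classical.Herm.center_iff C (by norm_num) g).1 hc)
  have htop : K.map π = ⊤ :=
    ((IsSimpleGroup.eq_bot_or_eq_top_of_normal _ (inferInstance : (K.map π).Normal))).resolve_left hne
  refine eq_top_iff.2 ((CfsgLib.Classical.Herm.commutator_eq_top C q (n := 4) (by norm_num) (by simp)).ge.trans ?_)
  rw [commutator_def, Subgroup.commutator_le]
  intro a _ b _
  obtain ⟨x, hx, ex⟩ : π a ∈ K.map π := htop ▸ Subgroup.mem_top _
  rw [hπ, QuotientGroup.mk'_apply, QuotientGroup.mk'_apply, QuotientGroup.eq] at ex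
  obtain ⟨z, hz, rfl⟩ : ∃ z ∈ Subgroup.center (Cfsg.SU 4 F p), a = x * z :=
    ⟨x⁻¹ * a, ex, by rw [mul_inv_cancel_left]⟩
  rw [show ⁅x * z, b⁆ = x * (z * b * z⁻¹) * x⁻¹ * b⁻¹ by rw [commutatorElement_def]; group,
    (Subgroup.mem_center_iff.1 hz b).symm, mul_inv_cancel_right,
    show x * b * x⁻¹ * b⁻¹ = x * (b * x⁻¹ * b⁻¹) by group]
  exact mul_mem hx (Subgroup.Normal.conj_mem inferInstance _ (inv_mem hx) b)

/-- With the unitary group in the second block everything belongs to the subgroup. -/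
theorem block_false (hb : ∀ g : Matrix I4 I4 F, g.det = 1 → Un σ g → In M (B2 1 g)) : False := by
  classical
  haveI : Finite (GL I8 F) := Finite.of_injective _ Units.val_injective
  -- the centraliser of the last sign matrix
  have hc : ∀ A : M8, A.det = 1 → Un σ A → A * W F d8 z8 = W F d8 z8 * A → In M A := by
    intro A hd hu hA
    obtain ⟨Q, rfl⟩ := block_of_comm h.two hA
    have hQ : (blockDiagonal Q : M8) = B2 (Q 0) (Q 1) := by
      rw [B2]
      congr 1
      funext k
      rcases z2 k with rfl | rfl <;> simp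
    rw [hQ] at hd hu ⊢
    have hua := un_B2_left hu
    have hub : Un σ (Q 1) := by simpa using un_block (hQ.symm ▸ hu) 1
    obtain ⟨a, ha⟩ : ∃ a, a = (Q 0).det := ⟨_, rfl⟩
    obtain ⟨b, hb'⟩ : ∃ b, b = (Q 1).det := ⟨_, rfl⟩
    rw [B2_det, ← ha, ← hb'] at hd
    have hna : σ a * a = 1 := by
      have := congrArg Matrix.det hua
      rwa [det_mul, det_transpose, ← RingHom.mapMatrix_apply, ← RingHom.map_det, det_one, ← ha] at this
    have hnb : σ b * b = 1 := by
      have := congrArg Matrix.det hub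
      rwa [det_mul, det_transpose, ← RingHom.mapMatrix_apply, ← RingHom.map_det, det_one, ← hb'] at this
    obtain ⟨D, hD⟩ : ∃ D : F → M4, D = fun t => Matrix.diagonal fun x => if x = ((0, 0) : I4) then t else 1 :=
      ⟨_, rfl⟩
    have hDd : ∀ t, (D t).det = t := fun t => by rw [hD, det_diagonal, Fintype.prod_ite_eq']
    have hDu : ∀ t, σ t * t = 1 → Un σ (D t) := fun t ht => by
      rw [hD]
      exact un_diagonal fun x => by by_cases e : x = ((0, 0) : I4) <;> simp [e, ht]
    have hDD : D a * D b = 1 := by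
      rw [hD, diagonal_mul_diagonal, ← diagonal_one]
      congr 1
      funext x
      by_cases e : x = ((0, 0) : I4) <;> simp [e, hd]
    -- the diagonal element
    have hdiag : In M (B2 (D a) (D b)) := by
      obtain ⟨d', hd'⟩ : ∃ d' : M4, d' = Matrix.diagonal fun x : I4 => if x.1 = 0 then (if x.2 = 0 then a else b) else 1 :=
        ⟨_, rfl⟩
      have h1 : In M (B2 1 d') := by
        refine hb d' ?_ ?_
        · rw [hd', det_diagonal, Fintype.prod_prod_type]
          show (∏ x : Fin 2, ∏ y : Fin 2, if (x : ZMod 2) = 0 then (if (y : ZMod 2) = 0 then a else b) else 1) = 1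
          simp only [Fin.prod_univ_two]
          change a * b * (1 * 1) = 1
          rw [hd, one_mul, one_mul]
        · rw [hd']
          exact un_diagonal fun x => by by_cases e : x.1 = 0 <;> by_cases e' : x.2 = 0 <;> simp [e, e', hna, hnb]
      have h2 := h.core.in_sig _ (h.core.in_swap h1) sig fun _ => rfl
      convert h2 using 1
      ext ⟨⟨r, j⟩, k⟩ ⟨⟨s, j'⟩, l⟩
      rcases z2 r with rfl | rfl <;> rcases z2 j with rfl | rfl <;> rcases z2 k with rfl | rfl <;>
        rcases z2 s with rfl | rfl <;> rcases z2 j' with rfl | rfl <;> rcases z2 l with rfl | rfl <;>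
        simp [sig_apply, B2, hd', hD, blockDiagonal_apply]
    have e1 : B2 (Q 0) (Q 1) = B2 (Q 0 * D b) 1 * (B2 1 (Q 1 * D a) * B2 (D a) (D b)) := by
      have hDD' : D b * D a = 1 := mul_eq_one_comm.1 hDD
      rw [B2_mul, B2_mul, Matrix.one_mul, Matrix.one_mul, Matrix.mul_assoc, hDD', Matrix.mul_one, Matrix.mul_assoc,
        hDD, Matrix.mul_one]
    rw [e1]
    exact in_mul (h.core.in_swap (hb _ (by rw [det_mul, hDd, ← ha, hd]) (un_mul hua (hDu b hnb))))
      (in_mul (hb _ (by rw [det_mul, hDd, ← hb', mul_comm, hd]) (un_mul hub (hDu a hna))) hdiag)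
  have hc' : ∀ A : M8, A.det = 1 → Un σ A → A * W F d8 z8 = -(W F d8 z8 * A) → In M A := by
    intro A hd hu hA
    have h1 : In M (A * W F d8 x8) := by
      refine hc _ ?_ (un_mul hu (dot8.un_W x8)) ?_
      · rw [det_mul, hd, W8_det h.isq h.two, one_mul]
      · rw [Matrix.mul_assoc, dot8.W_comm x8 z8, show pf d8 x8 z8 = 1 by decide, sg2_one, neg_one_smul,
          Matrix.mul_neg, ← Matrix.mul_assoc, hA, Matrix.neg_mul, neg_neg, Matrix.mul_assoc]
    exact in_left h1 (h.core.in_W x8)
  -- in the given coordinates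
  obtain ⟨e, -⟩ : ∃ e : I8 ≃ Fin 8, True := ⟨Fintype.equivFinOfCardEq (by simp), trivial⟩
  obtain ⟨φ, hφ⟩ : ∃ φ : GL (Fin 8) F ≃* GL I8 F, ∀ g, (φ g : M8) = (g : Matrix (Fin 8) (Fin 8) F).submatrix e e :=
    ⟨Units.mapEquiv (Matrix.reindexAlgEquiv F F e.symm).toMulEquiv, fun g => rfl⟩
  obtain ⟨ζ, -⟩ : ∃ ζ : Fin 2 ≃ ZMod 2, True := ⟨Fintype.equivOfCardEq (by simp), trivial⟩
  obtain ⟨D, hD⟩ : ∃ D : Fin 2 → Submodule F (Fin 8 → F),
      ∀ k v, v ∈ D k ↔ ∀ x : I8, x.2 ≠ ζ k → v (e x) = 0 :=
    ⟨fun k =>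
      { carrier := {v | ∀ x : I8, x.2 ≠ ζ k → v (e x) = 0}
        add_mem' := fun {a b} ha hb x hx => by simp [ha x hx, hb x hx]
        zero_mem' := fun _ _ => rfl
        smul_mem' := fun c v hv x hx => by simp [hv x hx] }, fun _ _ => Iff.rfl⟩
  have single : ∀ (x : I8), (Pi.single (e x) (1 : F) : Fin 8 → F) ∈ D (ζ.symm x.2) := fun x => by
    rw [hD]
    intro y hy
    rw [Equiv.apply_symm_apply] at hy
    rw [Pi.single_eq_of_ne]
    exact fun e' => hy (by rw [e.injective e'])
  have two_cases : ∀ a b : Fin 2, a ≠ b → ∀ c : ZMod 2, c ≠ ζ a ∨ c ≠ ζ b := fun a b hab c => by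
    by_cases hc : c = ζ a
    · exact Or.inr fun e' => hab (ζ.injective (hc.symm.trans e'))
    · exact Or.inl hc
  have hdec : Cfsg.Geo.IsNondegenerateMDecomposition (Cfsg.hermForm 8 F p) 4 D := by
    refine ⟨⟨le_rfl, by norm_num, fun k => ?_, ?_, ?_⟩, fun k w hw hw0 => ?_, fun a b hab u hu v hv => ?_⟩
    · have Φ : D k ≃ₗ[F] (I4 → F) :=
        { toFun := fun v r => (v : Fin 8 → F) (e (r, ζ k))
          map_add' := fun _ _ => rfl
          map_smul' := fun _ _ => rfl
          invFun := fun w => ⟨fun j => if (e.symm j).2 = ζ k then w (e.symm j).1 else 0, by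
            rw [hD]
            intro x hx
            rw [Equiv.symm_apply_apply, if_neg hx]⟩
          left_inv := fun v => Subtype.ext (funext fun j => by
            obtain ⟨x, rfl⟩ := e.surjective j
            obtain ⟨r, l⟩ := x
            by_cases hx : l = ζ k
            · subst hx; simp
            · simp only [Equiv.symm_apply_apply, if_neg hx]
              exact ((hD k _).1 v.2 (r, l) hx).symm)
          right_inv := fun w => funext fun r => by simp }
      rw [Φ.finrank_eq, Module.finrank_fintype_fun_eq_card, Fintype.card_prod, ZMod.card]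
    · rw [iSupIndep_def]
      intro a
      refine Disjoint.mono_right (show (⨆ (b : Fin 2) (_ : b ≠ a), D b) ≤ D (a + 1) from
        iSup₂_le fun b hb => le_of_eq (congrArg D ((show ∀ a b : Fin 2, b ≠ a → b = a + 1 by decide) a b hb))) ?_
      rw [Submodule.disjoint_def]
      intro v ha hb
      funext j
      obtain ⟨x, rfl⟩ := e.surjective j
      rcases two_cases a (a + 1) ((show ∀ a : Fin 2, a ≠ a + 1 by decide) a) x.2 with hx | hx
      · exact (hD _ _).1 ha x hx
      · exact (hD _ _).1 hb x hx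
    · refine eq_top_iff.2 fun v _ => ?_
      have hv : v = ∑ j, v j • (Pi.single j (1 : F) : Fin 8 → F) := by
        funext l; simp [Finset.sum_apply, Pi.single_apply]
      rw [hv]
      refine Submodule.sum_mem _ fun j _ => Submodule.smul_mem _ _ ?_
      obtain ⟨x, rfl⟩ := e.surjective j
      exact Submodule.mem_iSup_of_mem _ (single x)
    · obtain ⟨j, hj⟩ : ∃ j, w j ≠ 0 := by
        by_contra hall
        push Not at hall
        exact hw0 (funext hall)
      obtain ⟨x, rfl⟩ := e.surjective j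
      have hxk : x.2 = ζ k := by
        by_contra hne
        exact hj ((hD k w).1 hw x hne)
      have hm : (Pi.single (e x) (1 : F) : Fin 8 → F) ∈ D k := by
        have := single x
        rwa [hxk, Equiv.symm_apply_apply] at this
      have hz : (0 : F) ^ p = 0 := zero_pow h.prime.ne_zero
      refine ⟨⟨_, hm, ?_⟩, ⟨_, hm, ?_⟩⟩
      · rw [Cfsg.hermForm, Finset.sum_eq_single (e x) (fun l _ hl => by rw [Pi.single_eq_of_ne hl, zero_mul])
          (by simp), Pi.single_eq_same, one_mul]
        exact pow_ne_zero _ hj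
      · rw [Cfsg.hermForm, Finset.sum_eq_single (e x) (fun l _ hl => by rw [Pi.single_eq_of_ne hl, hz, mul_zero])
          (by simp), Pi.single_eq_same, one_pow, mul_one]
        exact hj
    · refine Finset.sum_eq_zero fun j _ => ?_
      obtain ⟨x, rfl⟩ := e.surjective j
      rcases two_cases a b hab x.2 with hx | hx
      · rw [(hD a u).1 hu x hx, zero_mul]
      · rw [(hD b v).1 hv x hx, zero_pow h.prime.ne_zero, mul_zero]
  have hmax := CfsgLib.EightMaxUnit.halves (q := p) (by rw [← Nat.card_eq_fintype_card, h.card]) D hdec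
  have memU : ∀ g, g ∈ Cfsg.GU 8 F p ↔ Un σ (φ g : M8) := fun g => by
    rw [mem_GU_iff h.frob h.invol e, hφ]
  have memSL : ∀ g, g ∈ Cfsg.Geo.specialLinear (Fin 8) F ↔ (φ g : M8).det = 1 := fun g => by
    rw [hφ, Matrix.det_submatrix_equiv_self]
    constructor
    · intro hg
      obtain ⟨s, hs⟩ := CfsgLib.Classical.MinIndex.mem_specialLinear.1 hg
      rw [← hs]; exact s.2
    · intro hg
      exact CfsgLib.Classical.MinIndex.mem_specialLinear.2 ⟨⟨_, hg⟩, Units.ext rfl⟩
  have hd : (W F d8 z8 : M8) = Matrix.diagonal fun x => sg2 F x.2 := by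
    ext r s
    by_cases e : r = s
    · subst e; simp [W_apply, z8, d8, d4]
    · simp [W_apply, z8, e, Prod.mk_zero_zero]
  -- stabilising elements commute or anticommute
  have hstab : ∀ g ∈ Cfsg.Geo.decompositionStabilizer D,
      (φ g : M8) * W F d8 z8 = W F d8 z8 * (φ g : M8) ∨ (φ g : M8) * W F d8 z8 = -(W F d8 z8 * (φ g : M8)) := by
    rintro g ⟨τ, hτ⟩
    obtain ⟨π, hπ⟩ : ∃ π : Equiv.Perm (ZMod 2), ∀ a, π a = ζ (τ (ζ.symm a)) :=
      ⟨ζ.symm.trans (τ.trans ζ), fun _ => rfl⟩
    have hzero : ∀ x y : I8, x.2 ≠ π y.2 → (φ g : M8) x y = 0 := fun x y hne => by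
      have hm : Matrix.toLin' (g : Matrix (Fin 8) (Fin 8) F) (Pi.single (e y) 1) ∈ D (τ (ζ.symm y.2)) := by
        rw [← hτ]; exact Submodule.mem_map_of_mem (single y)
      have := (hD _ _).1 hm x (by rwa [← hπ])
      rw [hφ]
      simpa [Matrix.toLin'_apply, Matrix.mulVec_single_one] using this
    rcases (show ∀ τ : Equiv.Perm (ZMod 2), (∀ a, τ a = a) ∨ ∀ a, τ a = a + 1 by decide) π with hτ' | hτ'
    · left
      rw [hd]
      ext x y
      rw [Matrix.mul_diagonal, Matrix.diagonal_mul]
      by_cases hxy : x.2 = y.2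
      · rw [hxy, mul_comm]
      · have hz : (φ g : M8) x y = 0 := hzero x y (by
          intro e'; exact hxy (e'.trans (hτ' y.2)))
        rw [hz, zero_mul, mul_zero]
    · right
      rw [hd]
      ext x y
      rw [Matrix.neg_apply, Matrix.mul_diagonal, Matrix.diagonal_mul]
      by_cases hxy : x.2 = y.2 + 1
      · rw [hxy, sg2_add, sg2_one]
        ring
      · have hz : (φ g : M8) x y = 0 := hzero x y (by
          intro e'; exact hxy (e'.trans (hτ' y.2)))
        rw [hz, zero_mul, mul_zero, neg_zero]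
  rcases hmax.2 (M.comap φ.toMonoidHom ⊓ (Cfsg.GU 8 F p ⊓ Cfsg.Geo.specialLinear (Fin 8) F)) (fun g hg => by
      refine ⟨?_, hg.2⟩
      show φ g ∈ M
      obtain ⟨g', hg', eg⟩ : In M (φ g : M8) := (hstab g hg.1).elim
        (hc _ ((memSL g).1 hg.2.2) ((memU g).1 hg.2.1)) (hc' _ ((memSL g).1 hg.2.2) ((memU g).1 hg.2.1))
      rwa [← Units.ext eg]) inf_le_right with hh | hh
  · -- the exchange of the last two qubits does not stabilise
    have hsd : (sig.permMatrix F : M8).det = 1 := by
      rw [det_permutation, show Equiv.Perm.sign sig = 1 by decide +kernel]; norm_num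
    obtain ⟨g, hgM, hg⟩ : In M (sig.permMatrix F : M8) := by
      have := h.core.in_sig _ (in_one (M := M)) sig fun _ => rfl
      exact h.in_act hsd (by
        have e' : (sig.permMatrix F : M8).map σ = sig.permMatrix F := by
          ext r c
          simp [Equiv.Perm.permMatrix, PEquiv.toMatrix_apply, apply_ite σ]
        rw [Un, e', transpose_permMatrix, show sig⁻¹ = sig from Equiv.ext fun _ => rfl, sig_sq]) sig_act
    obtain ⟨g0, rfl⟩ := φ.surjective g
    have hx : g0 ∈ M.comap φ.toMonoidHom ⊓ (Cfsg.GU 8 F p ⊓ Cfsg.Geo.specialLinear (Fin 8) F) :=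
      ⟨hgM, (memU _).2 (h.un _ hgM), (memSL _).2 (h.det _ hgM)⟩
    rw [hh] at hx
    have hcm := hstab g0 hx.1
    rw [hg] at hcm
    obtain ⟨c, hcz⟩ := sig_act (F := F) z8
    have hne := (dot8.act_isom h.two (in_isUnit (M := M) ⟨_, hgM, hg⟩) (sig_act (F := F))).pres z8 z8
    rcases hcm with e' | e' <;> rw [hcz] at e'
    · have e2 := (in_isUnit (M := M) ⟨_, hgM, hg⟩).mul_left_injective
        (show (c • W F d8 (sig z8.1, sig z8.2)) * sig.permMatrix F = W F d8 z8 * sig.permMatrix F by
          rw [Matrix.smul_mul]; exact e')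
      exact absurd (dot8.inj h.two e2.symm) (by decide)
    · have e2 := (in_isUnit (M := M) ⟨_, hgM, hg⟩).mul_left_injective
        (show (c • W F d8 (sig z8.1, sig z8.2)) * sig.permMatrix F = (-W F d8 z8) * sig.permMatrix F by
          rw [Matrix.smul_mul, Matrix.neg_mul]; exact e')
      refine absurd (dot8.inj h.two (c := -c) (v := z8) (w := (sig z8.1, sig z8.2)) ?_) (by decide)
      rw [neg_smul, e2, neg_neg]
  · refine h.ntop fun g hg hu => ?_
    obtain ⟨g0, rfl⟩ := φ.surjective g
    have hx : g0 ∈ Cfsg.GU 8 F p ⊓ Cfsg.Geo.specialLinear (Fin 8) F := ⟨(memU _).2 hu, (memSL _).2 hg⟩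
    rw [← hh] at hx
    exact hx.1

/-- The second blocks belonging to the unit matrix are scalar. -/
theorem ker_scalar (hbig : ∀ g : Matrix I4 I4 F, g.det = 1 → Un σ g → ∃ b, In M (B2 g b))
    {k : Matrix I4 I4 F} (hk : In M (B2 1 k)) : ∃ c : F, k = c • 1 := by
  classical
  have hdk : k.det = 1 := by
    have := h.core.det
    obtain ⟨g, hg, eg⟩ := hk
    have := h.det g hg
    rwa [eg, B2_det, det_one, one_mul] at this
  have huk : Un σ k := by simpa [B2] using un_block (h.in_un hk) 1
  by_contra hns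
  obtain ⟨mat, hmat⟩ : ∃ mat : Cfsg.SU 4 F p → M4, ∀ s, mat s = (s.1 : Matrix (Fin 4) (Fin 4) F).submatrix e4 e4 :=
    ⟨_, fun _ => rfl⟩
  have mone : mat 1 = 1 := by rw [hmat]; exact Matrix.submatrix_one_equiv e4
  have mmul : ∀ x y, mat (x * y) = mat x * mat y := fun x y => by
    rw [hmat, hmat, hmat, Matrix.submatrix_mul_equiv]; rfl
  have mdet : ∀ s, (mat s).det = 1 := fun s => by rw [hmat, det_submatrix_equiv_self]; exact s.1.2
  have mun : ∀ s, Un σ (mat s) := fun s => by
    rw [hmat]
    exact (mem_GU_iff h.frob h.invol e4 (SpecialLinearGroup.toGL s.1)).1 s.2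
  have getS : ∀ A : M4, A.det = 1 → Un σ A → ∃ s, mat s = A := by
    intro A hA hu
    obtain ⟨X, hX⟩ : ∃ X : SpecialLinearGroup (Fin 4) F, (X : Matrix (Fin 4) (Fin 4) F) = A.submatrix e4.symm e4.symm :=
      ⟨⟨A.submatrix e4.symm e4.symm, (det_submatrix_equiv_self e4.symm A).trans hA⟩, rfl⟩
    have hXU : SpecialLinearGroup.toGL X ∈ Cfsg.GU 4 F p := (mem_GU_iff h.frob h.invol e4 _).2 (by
      show Un σ ((X : Matrix (Fin 4) (Fin 4) F).submatrix e4 e4)
      rwa [hX, Matrix.submatrix_submatrix, Equiv.symm_comp_self, Matrix.submatrix_id_id])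
    refine ⟨⟨X, hXU⟩, ?_⟩
    rw [hmat]
    show (X : Matrix (Fin 4) (Fin 4) F).submatrix e4 e4 = A
    rw [hX, Matrix.submatrix_submatrix, Equiv.symm_comp_self, Matrix.submatrix_id_id]
  haveI : Finite (Cfsg.SU 4 F p) := by
    haveI : Finite (SpecialLinearGroup (Fin 4) F) := Finite.of_injective _ Subtype.val_injective
    exact Subtype.finite
  obtain ⟨K, hK⟩ := exists_subgroup (fun s : Cfsg.SU 4 F p => In M (B2 1 (mat s)))
    (by rw [mone, B2_one]; exact in_one)
    (fun x y hx hy => by
      have := in_mul hx hy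
      rwa [B2_mul, one_mul, ← mmul] at this)
  have hn : K.Normal := ⟨fun x hx s => by
    rw [hK] at hx ⊢
    obtain ⟨b, hb⟩ := hbig (mat s) (mdet s) (mun s)
    have hb' := h.core.in_swap hb
    obtain ⟨B, bB, -⟩ := exists_inv (isUnit_of_B2 hb).2
    have hS : mat s * mat s⁻¹ = 1 := by rw [← mmul, mul_inv_cancel, mone]
    have := in_mul (in_mul hb' hx) (in_B2_inv hb' bB hS)
    rwa [B2_mul, B2_mul, mul_one, bB, ← mmul, ← mmul] at this⟩
  obtain ⟨s, rfl⟩ := getS k hdk huk
  have htop := h.normal_top K ((hK s).2 hk) (fun ⟨c, hc⟩ => hns ⟨c, by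
    rw [hmat, hc, Matrix.submatrix_smul, Pi.smul_apply, Pi.smul_apply, Matrix.submatrix_one_equiv]⟩)
  refine h.block_false fun g hg hu => ?_
  obtain ⟨t, rfl⟩ := getS g hg hu
  exact (hK t).1 (by rw [htop]; exact Subgroup.mem_top _)

/-- There is no such group. -/
theorem big_false (hbig : ∀ g : Matrix I4 I4 F, g.det = 1 → Un σ g → ∃ b, In M (B2 g b)) : False := by
  classical
  obtain ⟨hi1, hi2, hi3⟩ := h.ne_one
  have hi0 : i ≠ 0 := fun e => by have := h.isq; rw [e] at this; simp at this
  obtain ⟨u, hu⟩ : ∃ u : M2, u = Matrix.of fun r c => (2 : F)⁻¹ *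
      (if r = 0 then (if c = 0 then -1 + i else 1 + i) else (if c = 0 then -1 + i else -1 - i)) := ⟨_, rfl⟩
  have hud : u.det = 1 := by
    have : u.det = u 0 0 * u 1 1 - u 0 1 * u 1 0 := Matrix.det_fin_two u
    rw [this, hu]
    simp only [Matrix.of_apply, if_true, one_ne_zero, if_false]
    have := h.two
    field_simp
    linear_combination (-2 : F) * h.isq
  have hσ2 : σ (2 : F)⁻¹ = (2 : F)⁻¹ := by rw [map_inv₀, map_ofNat]
  have huu : Un σ u := by
    have := h.two
    ext r c
    rw [Matrix.mul_apply]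
    show (∑ x : Fin 2, ((u.map σ)ᵀ r x) * u x c) = _
    rw [Fin.sum_univ_two]
    change (u.map σ)ᵀ r (0 : ZMod 2) * u (0 : ZMod 2) c + (u.map σ)ᵀ r (1 : ZMod 2) * u (1 : ZMod 2) c = _
    rcases z2 r with rfl | rfl <;> rcases z2 c with rfl | rfl <;>
      simp [hu, hσ2, h.conj, Matrix.one_apply] <;> field_simp <;>
      first
        | linear_combination (-2 : F) * h.isq
        | linear_combination (2 : F) * h.isq
        | ring1
  -- its partner
  have hgd : (D2 1 u).det = 1 := by rw [D2_det, det_one, one_mul, hud]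
  have hgu : Un σ (D2 1 u) := un_blockDiagonal fun k => by split <;> [exact un_one; exact huu]
  obtain ⟨hh, hg⟩ := hbig _ hgd hgu
  obtain ⟨H1, hH1, -⟩ := exists_inv (isUnit_of_B2 hg).1
  obtain ⟨H2, hH2, hH2'⟩ := exists_inv (isUnit_of_B2 hg).2
  -- a normalising matrix fixed by it
  obtain ⟨f, hf⟩ : ∃ f : I4 → F, f = fun x => if x.2 = 0 then sg2 F x.1 * i else 1 := ⟨_, rfl⟩
  obtain ⟨n, hn⟩ : ∃ n : M4, n = Matrix.diagonal f := ⟨_, rfl⟩
  have hnd : n.det = 1 := by
    rw [hn, det_diagonal, Fintype.prod_prod_type, hf]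
    show (∏ x : Fin 2, ∏ y : Fin 2, if (y : ZMod 2) = 0 then sg2 F (x : ZMod 2) * i else 1) = 1
    simp only [Fin.prod_univ_two]
    change sg2 F (0 : ZMod 2) * i * 1 * (sg2 F (1 : ZMod 2) * i * 1) = 1
    rw [sg2_zero, sg2_one]
    linear_combination -h.isq
  have hnu : Un σ n := by
    rw [hn]
    refine un_diagonal fun x => ?_
    rw [hf]
    simp only
    split_ifs
    · rw [map_mul, sigma_sg2, h.conj]
      linear_combination (-(i * i)) * sg2_self (F := F) x.1 - h.isq
    · rw [map_one, one_mul]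
  obtain ⟨Ln, hLn⟩ := phase4_act h.isq h.two
  have hnM : In M (B2 n n) := h.in_nkron hnd hnu (hn ▸ hf ▸ hLn)
  obtain ⟨N', hN', hN''⟩ := exists_inv (isUnit_of_B2 hnM).1
  have hgn : D2 1 u * n = n * D2 1 u := by
    rw [hn]
    ext ⟨r, k⟩ ⟨c, l⟩
    rw [Matrix.mul_diagonal, Matrix.diagonal_mul, hf]
    rcases z2 k with rfl | rfl <;> rcases z2 l with rfl | rfl <;> by_cases e : r = c <;>
      simp [D2, blockDiagonal_apply, e, mul_comm]
  obtain ⟨c, hc⟩ : ∃ c : F, hh * n = c • (n * hh) := by
    have hk := in_mul (in_mul (in_mul hg hnM) (in_B2_inv hg hH1 hH2)) (in_B2_inv hnM hN' hN')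
    simp only [B2_mul] at hk
    rw [hgn, Matrix.mul_assoc n, hH1, Matrix.mul_one, hN'] at hk
    obtain ⟨c, hc⟩ := h.ker_scalar hbig hk
    refine ⟨c, ?_⟩
    have := congrArg (fun X => X * n * hh) hc
    simp only [Matrix.mul_assoc, Matrix.smul_mul, Matrix.one_mul] at this
    rw [← Matrix.mul_assoc N' n, hN'', Matrix.one_mul, hH2', Matrix.mul_one] at this
    exact this
  have hent : ∀ x y, hh x y ≠ 0 → f y = c * f x := fun x y hne => by
    have e := congrFun₂ hc x y
    rw [hn, Matrix.mul_diagonal, Matrix.smul_apply, Matrix.diagonal_mul, smul_eq_mul] at e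
    exact mul_left_cancel₀ hne (by linear_combination e)
  have f00 : f (0, 0) = i := by simp [hf, sg2_zero]
  have f10 : f (1, 0) = -i := by simp [hf, sg2_one]
  have f1 : ∀ r, f (r, 1) = 1 := fun r => by simp [hf]
  have hc1 : c = 1 := by
    by_contra hne
    have hz : ∀ r s, hh (r, 1) (s, 1) = 0 := fun r s => by
      by_contra h0
      exact hne (by have := hent _ _ h0; rw [f1, f1, mul_one] at this; exact this.symm)
    have key : ∃ s0, ∀ r y, y ≠ (s0, (0 : ZMod 2)) → hh (r, 1) y = 0 := by
      by_cases e : c = i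
      · refine ⟨0, fun r y hy => ?_⟩
        obtain ⟨s, l⟩ := y
        rcases z2 l with rfl | rfl
        · rcases z2 s with rfl | rfl
          · exact absurd rfl hy
          · by_contra h0
            have := hent _ _ h0
            rw [f10, f1, mul_one, e] at this
            exact hi3 this.symm
        · exact hz r s
      · refine ⟨1, fun r y hy => ?_⟩
        obtain ⟨s, l⟩ := y
        rcases z2 l with rfl | rfl
        · rcases z2 s with rfl | rfl
          · by_contra h0
            have := hent _ _ h0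
            rw [f00, f1, mul_one] at this
            exact e this.symm
          · exact absurd rfl hy
        · exact hz r s
    obtain ⟨s0, hs0⟩ := key
    have row : ∀ r y, (hh * H2) (r, 1) y = hh (r, 1) (s0, 0) * H2 (s0, 0) y := fun r y => by
      rw [Matrix.mul_apply, Finset.sum_eq_single (s0, (0 : ZMod 2))]
      · intro z _ hz'; rw [hs0 r z hz', zero_mul]
      · simp
    have a1 := row 0 (0, 1)
    have a2 := row 1 (0, 1)
    have a3 := row 1 (1, 1)
    rw [hH2, Matrix.one_apply_eq] at a1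
    rw [hH2, Matrix.one_apply_ne (by decide)] at a2
    rw [hH2, Matrix.one_apply_eq] at a3
    rcases mul_eq_zero.1 a2.symm with e | e
    · rw [e, zero_mul] at a3; exact one_ne_zero a3
    · rw [e, mul_zero] at a1; exact one_ne_zero a1
  obtain ⟨a, d, hhd, ha⟩ : ∃ a d : M2, hh = D2 a d ∧ ∀ r s, r ≠ s → a r s = 0 := by
    refine ⟨Matrix.of fun r s => hh (r, 0) (s, 0), Matrix.of fun r s => hh (r, 1) (s, 1), ?_, fun r s hrs => ?_⟩
    · ext ⟨r, k⟩ ⟨s, l⟩
      have hoff : k ≠ l → hh (r, k) (s, l) = 0 := fun hkl => by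
        by_contra h0
        have := hent _ _ h0
        rw [hc1, one_mul] at this
        rcases z2 k with rfl | rfl <;> rcases z2 l with rfl | rfl <;>
          first
            | exact hkl rfl
            | (rcases z2 r with rfl | rfl <;> simp only [f00, f10, f1] at this <;>
                first | exact hi1 this.symm | exact hi2 this.symm)
            | (rcases z2 s with rfl | rfl <;> simp only [f00, f10, f1] at this <;>
                first | exact hi1 this | exact hi2 this)
      rcases z2 k with rfl | rfl <;> rcases z2 l with rfl | rfl <;>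
        simp [D2, blockDiagonal_apply] <;> exact hoff (by decide)
    · show hh (r, 0) (s, 0) = 0
      by_contra h0
      have := hent _ _ h0
      rw [hc1, one_mul] at this
      rcases z2 r with rfl | rfl <;> rcases z2 s with rfl | rfl <;> simp only [f00, f10] at this <;>
        first | exact hrs rfl | exact hi3 this | exact hi3 this.symm
  subst hhd
  have hB' := h.core.in_sig _ hg sig fun _ => rfl
  rw [B2_D2_sig] at hB'
  obtain ⟨A', hA', -⟩ := exists_inv (isUnit_of_B2 hB').1
  obtain ⟨G', hG', hG''⟩ := exists_inv (isUnit_of_B2 hB').2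
  obtain ⟨Z2, hZ2⟩ : ∃ Z2 : M2, Z2 = Matrix.diagonal fun r => sg2 F r := ⟨_, rfl⟩
  obtain ⟨X, hX⟩ : ∃ X : M4, X = W F d4 (((0, 0), (1, 0)) : I4 × I4) := ⟨_, rfl⟩
  have hX' : X = D2 Z2 Z2 := by
    rw [hX]
    ext ⟨r, k⟩ ⟨s, l⟩
    rcases z2 k with rfl | rfl <;> rcases z2 l with rfl | rfl <;> by_cases e : r = s <;>
      simp [W_apply, d4, D2, hZ2, blockDiagonal_apply, e]
  have XX : X * X = 1 := by
    rw [hX, dot4.W_sq, show d4 ((1, 0) : I4) ((0, 0) : I4) = 0 from by decide, sg2_zero, one_smul]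
  have hXM : In M (B2 X X) := hX ▸ h.core.in_WW _
  have hk := in_mul (in_mul (in_mul hB' hXM) (in_B2_inv hB' hA' hG')) hXM
  simp only [B2_mul] at hk
  have haZ : a * Z2 = Z2 * a := by
    ext r s
    rw [hZ2, Matrix.mul_diagonal, Matrix.diagonal_mul]
    by_cases e : r = s
    · rw [e, mul_comm]
    · rw [ha r s e, zero_mul, mul_zero]
  have hc2 : D2 1 a * X * A' * X = 1 := by
    have : D2 1 a * X = X * D2 1 a := by rw [hX', D2_mul, D2_mul, haZ, one_mul, mul_one]
    rw [this, Matrix.mul_assoc X, hA', Matrix.mul_one, XX]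
  rw [hc2] at hk
  obtain ⟨e, he⟩ := h.ker_scalar hbig hk
  have e1 : D2 u d * X = e • (X * D2 u d) := by
    have := congrArg (fun Y => Y * X * D2 u d) he
    simp only [Matrix.mul_assoc, Matrix.smul_mul, Matrix.one_mul] at this
    rw [← Matrix.mul_assoc X X, XX, Matrix.one_mul, hG'', Matrix.mul_one] at this
    exact this
  rw [hX', D2_mul, D2_mul, D2_smul] at e1
  have e2 := congrFun₂ (D2_inj e1).1
  have q1 := e2 0 0
  have q2 := e2 0 1
  rw [hZ2, Matrix.smul_apply, Matrix.mul_diagonal, Matrix.diagonal_mul, sg2_zero, mul_one, one_mul, smul_eq_mul] at q1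
  rw [hZ2, Matrix.smul_apply, Matrix.mul_diagonal, Matrix.diagonal_mul, sg2_zero, sg2_one, one_mul, smul_eq_mul] at q2
  have u00 : u 0 0 ≠ 0 := by
    rw [hu]
    simp [h.two]
    intro e'
    exact hi1 (by linear_combination e')
  have u01 : u 0 1 ≠ 0 := by
    rw [hu]
    simp [h.two]
    intro e'
    exact hi2 (by linear_combination -e')
  have e11 : e = 1 := (mul_right_cancel₀ u00 (by linear_combination q1)).symm
  rw [e11, one_mul] at q2
  exact h.two ((mul_eq_zero.1 (show u 0 1 * 2 = 0 by linear_combination -q2)).resolve_left u01)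

/-- The blocks of determinant one normalise. -/
theorem small : Small M := by
  classical
  haveI : Finite (GL I4 F) := Finite.of_injective _ Units.val_injective
  obtain ⟨P, hP⟩ := exists_subgroup
    (fun g : GL I4 F => (g : M4).det = 1 ∧ Un σ (g : M4) ∧ ∃ b, In M (B2 (g : M4) b))
    ⟨by simp, by rw [Units.val_one]; exact un_one, 1, by rw [Units.val_one, B2_one]; exact in_one⟩
    (by
      rintro x y ⟨hx, hxu, b, hb⟩ ⟨hy, hyu, b', hb'⟩
      refine ⟨by rw [Units.val_mul, det_mul, hx, hy, one_mul], by rw [Units.val_mul]; exact un_mul hxu hyu, b * b', ?_⟩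
      rw [Units.val_mul, ← B2_mul]
      exact in_mul hb hb')
  rcases four_dichU h.prime h.mod (by rw [← Nat.card_eq_fintype_card, h.card]) h.frob h.invol h.isq h.conj P
      (fun g hd hu hg => (hP g).2 ⟨hd, hu, _, hg.elim fun L hL => h.in_nkron hd hu hL⟩) with hall | hall
  · refine (h.big_false fun g hg hu => ?_).elim
    exact ((hP (GeneralLinearGroup.mkOfDetNeZero g (by rw [hg]; exact one_ne_zero))).1 (hall _ hg hu)).2.2
  · intro a b hab hd
    have hua := un_B2_left (h.in_un hab)
    obtain ⟨u, rfl⟩ := (isUnit_of_B2 hab).1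
    exact hall u ((hP u).2 ⟨hd, hua, b, hab⟩) hd hua

end USetup

end CfsgLib.EightMax
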