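import Cfsg.Agent.Lib.EightMax.UBig
import Cfsg.Agent.Lib.EightMax.Main

/-!
The normaliser of a symplectic-type group of order `2⁸` is maximal in `SU₈(p)` for `p ≡ 3 (mod 4)`.
-/

set_option autoImplicit false
set_option linter.unusedSectionVars false
set_option maxHeartbeats 1000000

namespace CfsgLib.EightMax

open Matrix
open scoped MatrixGroups commutatorElement
open CfsgLib.Pauli (commutator_le_center square_and_commutator)

variable {F : Type*} [Field F] [Fintype F]

local notation "M8" => Matrix I8 I8 F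
local notation "G8" => GL I8 F

theorem un_conj {J : Type*} [Fintype J] [DecidableEq J] {σ : F →+* F} {P A B : Matrix J J F} {k : F}
    (hk : k ≠ 0) (hP : (P.map σ)ᵀ * P = k • 1) (hA : Un σ A) (e : P * B = A * P) : Un σ B := by
  refine smul_right_injective (Matrix J J F) hk ?_
  show k • ((B.map σ)ᵀ * B) = k • 1
  calc k • ((B.map σ)ᵀ * B) = (B.map σ)ᵀ * (k • (1 : Matrix J J F)) * B := by
        rw [Matrix.mul_smul, Matrix.mul_one, Matrix.smul_mul]
    _ = ((P * B).map σ)ᵀ * (P * B) := by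
        rw [← hP, Matrix.map_mul, Matrix.transpose_mul]
        simp only [Matrix.mul_assoc]
    _ = (P.map σ)ᵀ * ((A.map σ)ᵀ * A) * P := by
        rw [e, Matrix.map_mul, Matrix.transpose_mul]
        simp only [Matrix.mul_assoc]
    _ = k • 1 := by rw [hA, Matrix.mul_one, hP]

/-- A diagonal unitary matrix of determinant one which does not normalise. -/
theorem exists_not_act {σ : F →+* F} {i : F} (hi : i * i = -1) (hσi : σ i = -i) (h2 : (2 : F) ≠ 0) :
    ∃ A : M8, A.det = 1 ∧ Un σ A ∧ ∀ L, ¬ Act d8 A L := by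
  have hi0 : i ≠ 0 := fun e => by rw [e] at hi; simp at hi
  refine ⟨B2 (Matrix.diagonal fun x : I4 => if x = 0 then i else 1)
    (Matrix.diagonal fun x : I4 => if x = 0 then -i else 1), ?_, ?_, fun L hA => ?_⟩
  · rw [B2_det, det_diagonal, det_diagonal, Fintype.prod_ite_eq', Fintype.prod_ite_eq']
    linear_combination -hi
  · refine un_B2 (un_diagonal fun x => ?_) (un_diagonal fun x => ?_) <;>
      by_cases e : x = 0 <;> simp [e, hσi, hi]
  obtain ⟨A, hAdef⟩ : ∃ A : M8, A = B2 (Matrix.diagonal fun x : I4 => if x = 0 then i else 1)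
      (Matrix.diagonal fun x : I4 => if x = 0 then -i else 1) := ⟨_, rfl⟩
  rw [← hAdef] at hA
  obtain ⟨f, hf⟩ : ∃ f : I8 → F, f = fun x => if x.2 = 0 then (if x.1 = 0 then i else 1)
      else (if x.1 = 0 then -i else 1) := ⟨_, rfl⟩
  have hAd : A = Matrix.diagonal f := by
    rw [hAdef, hf]
    ext ⟨r, k⟩ ⟨s, l⟩
    rcases z2 k with rfl | rfl <;> rcases z2 l with rfl | rfl <;> by_cases e : r = s <;>
      simp [B2, blockDiagonal_apply, e]
  obtain ⟨c, hc⟩ := hA x8
  obtain ⟨v, hv⟩ : ∃ v, v = L x8 := ⟨_, rfl⟩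
  rw [← hv] at hc
  have key : ∀ r : I4, f (r, 1) = if ((r, 1) : I8) = (r, 0) + v.1 then c * sg2 F (d8 v.2 (r, 0)) * f (r, 0) else 0 := by
    intro r
    have e := congrFun₂ hc (r, (1 : ZMod 2)) (r, (0 : ZMod 2))
    rw [hAd, Matrix.diagonal_mul, Matrix.smul_apply, Matrix.mul_diagonal, W_apply, W_apply, smul_eq_mul,
      show x8.2 = (0 : I8) from rfl, dot8.zero_left, sg2_zero,
      if_pos (show ((r, (1 : ZMod 2)) : I8) = (r, 0) + x8.1 by simp [x8, Prod.mk_zero_zero]), mul_one] at e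
    rw [e]
    split_ifs <;> ring
  have g0 : f ((0 : I4), (0 : ZMod 2)) = i ∧ f ((0 : I4), (1 : ZMod 2)) = -i := by simp [hf]
  have gr : ∀ r : I4, r ≠ 0 → f (r, 0) = 1 ∧ f (r, 1) = 1 := fun r hr => by simp [hf, hr]
  have hv1 : v.1 = ((0, 1) : I8) := by
    have k := key 0
    by_contra hne
    rw [if_neg (fun e => hne (by rw [show ((((0 : I4), (0 : ZMod 2))) : I8) = 0 from rfl, zero_add] at e; exact e.symm)),
      g0.2] at k
    exact hi0 (neg_eq_zero.1 k)
  have key' : ∀ r : I4, f (r, 1) = c * sg2 F (d4 v.2.1 r) * f (r, 0) := fun r => by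
    rw [key r, if_pos (by rw [hv1]; simp)]
    simp [d8]
  have k0 := key' 0
  rw [g0.1, g0.2, dot4.zero_right, sg2_zero, mul_one] at k0
  have hc1 : c = -1 := mul_right_cancel₀ hi0 (by linear_combination -k0)
  have k1 := key' (1, 0)
  have k2 := key' (0, 1)
  have k3 := key' (1, 1)
  rw [(gr _ (by decide)).1, (gr _ (by decide)).2, hc1] at k1 k2 k3
  rw [show ((1, 1) : I4) = (1, 0) + (0, 1) by decide, dot4.add_right, sg2_add] at k3
  refine h2 ?_
  linear_combination k3 - (sg2 F (d4 v.2.1 (0, 1))) * k1 + k2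

/-- Class six in dimension eight, unitary case. -/
theorem isMaximalIn_symplecticType_unitary {p : ℕ} (hp : p.Prime) (hF : Fintype.card F = p ^ 2) (hp4 : p % 4 = 3)
    (R : Subgroup (GL (Fin 8) F)) (hs : Cfsg.Geo.IsSymplecticTypeGroup 2 R)
    (habs : Cfsg.Geo.ActsAbsolutelyIrreducibly (Cfsg.Geo.matrixSet R)) (hRU : R ≤ Cfsg.GU 8 F p)
    (hZ : Nat.card (Subgroup.center R) = 4) :
    Cfsg.Geo.IsMaximalIn (Cfsg.GU 8 F p ⊓ Cfsg.Geo.specialLinear (Fin 8) F)
      (Cfsg.Geo.subgroupNormalizer R ⊓ (Cfsg.GU 8 F p ⊓ Cfsg.Geo.specialLinear (Fin 8) F)) := by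
  classical
  haveI : Fact p.Prime := ⟨hp⟩
  haveI : CharP F p := by
    obtain ⟨r, hr⟩ := CharP.exists F
    haveI : Fact r.Prime := ⟨CharP.char_is_prime F r⟩
    obtain ⟨k, -, hk⟩ := FiniteField.card F r
    have : r = p := (Nat.prime_dvd_prime_iff_eq (Fact.out) hp).1
      ((Fact.out : r.Prime).dvd_of_dvd_pow (show r ∣ p ^ 2 by rw [← hF, hk]; exact dvd_pow_self r k.ne_zero))
    exact this ▸ hr
  have h2 : (2 : F) ≠ 0 := by
    have h : ((2 : ℕ) : F) ≠ 0 := fun e => by
      have := (Nat.prime_dvd_prime_iff_eq hp Nat.prime_two).1 ((CharP.cast_eq_zero_iff F p 2).1 e)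
      omega
    exact_mod_cast h
  obtain ⟨σ, hσ⟩ : ∃ σ : F →+* F, ∀ x, σ x = x ^ p := ⟨frobenius F p, fun x => frobenius_def p x⟩
  have hσ2 : ∀ x, σ (σ x) = x := fun x => by rw [hσ, hσ, ← pow_mul, ← pow_two, ← hF, FiniteField.pow_card]
  haveI : Finite G8 := Finite.of_injective _ Units.val_injective
  haveI : Finite (GL (Fin 8) F) := Finite.of_injective _ Units.val_injective
  obtain ⟨e, -⟩ : ∃ e : I8 ≃ Fin 8, True := ⟨Fintype.equivFinOfCardEq (by simp), trivial⟩
  obtain ⟨φ, hφ⟩ : ∃ φ : GL (Fin 8) F ≃* G8, ∀ g, (φ g : M8) = (g : Matrix (Fin 8) (Fin 8) F).submatrix e e :=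
    ⟨Units.mapEquiv (Matrix.reindexAlgEquiv F F e.symm).toMulEquiv, fun g => rfl⟩
  have hdet : ∀ g, (φ g : M8).det = (g : Matrix (Fin 8) (Fin 8) F).det := fun g => by
    rw [hφ, Matrix.det_submatrix_equiv_self]
  have memU0 : ∀ g, g ∈ Cfsg.GU 8 F p ↔ Un σ (φ g : M8) := fun g => by
    rw [mem_GU_iff hσ hσ2 e, hφ]
  -- the data of the group
  have h4' : ∀ x : R, x ^ 4 = 1 := fun x => by
    have := Monoid.pow_exponent_eq_one x
    rwa [hs.exponent_eq, show 2 * Nat.gcd 2 2 = 4 from rfl] at this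
  have hD := commutator_le_center hs.pGroup h4' hs.cyclic_of_characteristic (Or.inl hZ)
  obtain ⟨ρ, hρ⟩ : ∃ ρ : R →* G8, ρ = φ.toMonoidHom.comp R.subtype := ⟨_, rfl⟩
  have hρv : ∀ g : R, (ρ g : M8) = ((g : GL (Fin 8) F) : Matrix (Fin 8) (Fin 8) F).submatrix e e := fun g => by
    rw [hρ]; exact hφ _
  have hρi : Function.Injective ρ := by
    rw [hρ]; exact φ.injective.comp R.subtype_injective
  have scal : ∀ A : M8, (∀ g, A * (ρ g : M8) = (ρ g : M8) * A) → ∃ c : F, A = c • 1 := by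
    intro A hA
    obtain ⟨c, hc⟩ := habs.2 (A.submatrix e.symm e.symm) (by
      rintro _ ⟨g, hg, rfl⟩
      have := congrArg (fun X : M8 => X.submatrix e.symm e.symm) (hA ⟨g, hg⟩)
      simp only [hρv] at this
      rw [← Matrix.submatrix_mul_equiv A _ e.symm e.symm e.symm,
        ← Matrix.submatrix_mul_equiv _ A e.symm e.symm e.symm, Matrix.submatrix_submatrix,
        Equiv.self_comp_symm, Matrix.submatrix_id_id] at this
      exact this)
    refine ⟨c, ?_⟩
    have := congrArg (fun X : Matrix (Fin 8) (Fin 8) F => X.submatrix e e) hc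
    simpa [Matrix.submatrix_smul, Matrix.submatrix_one_equiv] using this
  have irr : ∀ U : Submodule F (I8 → F), (∀ g, ∀ x ∈ U, (ρ g : M8) *ᵥ x ∈ U) → U = ⊥ ∨ U = ⊤ := by
    intro U hU
    have key := habs.1 (U.comap (LinearMap.funLeft F F e)) (by
      rintro _ ⟨g, hg, rfl⟩ _ ⟨x, hx, rfl⟩
      show LinearMap.funLeft F F e _ ∈ U
      have := hU ⟨g, hg⟩ _ hx
      rw [hρv, show LinearMap.funLeft F F e x = x ∘ e from rfl, Matrix.submatrix_mulVec_equiv] at this
      simpa [LinearMap.funLeft, Function.comp_def, Matrix.toLin'_apply] using this)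
    have hsurj : Function.Surjective (LinearMap.funLeft F F e) :=
      LinearMap.funLeft_surjective_of_injective F F e e.injective
    rcases key with k | k
    · exact Or.inl (Submodule.comap_injective_of_surjective hsurj (k.trans
        ((Submodule.comap_bot _).trans (LinearMap.ker_eq_bot.2
          (LinearMap.funLeft_injective_of_surjective F F e e.surjective))).symm))
    · exact Or.inr (Submodule.comap_injective_of_surjective hsurj (k.trans (Submodule.comap_top _).symm))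
  have hscal : ∀ u : R, u ∈ Subgroup.center R → ∃ c : F, (ρ u : M8) = c • 1 := fun u hu => scal _ fun g => by
    rw [← Units.val_mul, ← Units.val_mul, ← map_mul, ← map_mul, Subgroup.mem_center_iff.1 hu g]
  have hsmul : ∀ c : F, c • (1 : M8) = 1 → c = 1 := fun c e => by simpa using congrFun₂ e 0 0
  have hsign : ∀ u : R, u ∈ Subgroup.center R → u ^ 2 = 1 → (ρ u : M8) = 1 ∨ (ρ u : M8) = -1 := by
    intro u hu hu2
    obtain ⟨c, hc⟩ := hscal u hu
    have e := congrArg (fun x : R => (ρ x : M8)) hu2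
    simp only [map_pow, map_one, Units.val_pow_eq_pow_val, hc, _root_.smul_pow, one_pow, Units.val_one] at e
    rcases sq_eq_one_iff.1 (hsmul _ e) with rfl | rfl
    · left; rw [hc, one_smul]
    · right; rw [hc, neg_one_smul]
  obtain ⟨i, hi, u, hui⟩ : ∃ i : F, i * i = -1 ∧ ∃ u : R, (ρ u : M8) = i • 1 := by
    obtain ⟨u, hu, hu2⟩ : ∃ u : R, u ∈ Subgroup.center R ∧ u ^ 2 ≠ 1 := by
      by_contra hall
      push Not at hall
      have hinj : Function.Injective (fun u : Subgroup.center R => decide ((ρ (u : R) : M8) = 1)) := by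
        intro u v e
        simp only [decide_eq_decide] at e
        refine Subtype.ext (hρi (Units.ext ?_))
        rcases hsign _ u.2 (hall _ u.2) with hu | hu
        · rw [hu, e.1 hu]
        · rcases hsign _ v.2 (hall _ v.2) with hv | hv
          · rw [e.2 hv, hv]
          · rw [hu, hv]
      have := Nat.card_le_card_of_injective _ hinj
      rw [hZ, Nat.card_eq_fintype_card, Fintype.card_bool] at this
      omega
    obtain ⟨c, hc⟩ := hscal u hu
    refine ⟨c, ?_, u, hc⟩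
    have e4 : (c ^ 2) ^ 2 = 1 := hsmul _ (by
      have e := congrArg (fun x : R => (ρ x : M8)) (h4' u)
      simpa [hc, _root_.smul_pow, ← pow_mul] using e)
    rcases sq_eq_one_iff.1 e4 with e | e
    · refine absurd (hρi (Units.ext ?_)) hu2
      simp [hc, _root_.smul_pow, e]
    · rw [← pow_two, e]
  have hσi : σ i = -i := by
    have e1 : i ^ p = i ^ (p % 4) := by
      conv_lhs => rw [← Nat.div_add_mod p 4, pow_add, pow_mul,
        show i ^ 4 = 1 by linear_combination (i * i - 1) * hi, one_pow, one_mul]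
    rw [hσ, e1, hp4]
    linear_combination i * hi
  obtain ⟨S, hS⟩ : ∃ S : Set M8, S = Set.range fun g : R => (ρ g : M8) := ⟨_, rfl⟩
  have T : TwoSet i S :=
    { two := h2
      isq := hi
      mul := by
        subst hS
        rintro _ ⟨a, rfl⟩ _ ⟨b, rfl⟩
        exact ⟨a * b, by simp [map_mul]⟩
      mem_i := hS ▸ ⟨u, hui⟩
      sq := by
        subst hS
        rintro _ ⟨g, rfl⟩
        obtain ⟨hc1, -, -⟩ := square_and_commutator h4' hD g g
        have := hsign _ hc1 (by rw [← pow_mul]; exact h4' _)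
        simpa [pow_two] using this
      comm := by
        subst hS
        rintro _ ⟨a, rfl⟩ _ ⟨b, rfl⟩
        obtain ⟨-, hc1, hc2⟩ := square_and_commutator h4' hD a b
        have e : a * b = ⁅a, b⁆ * (b * a) := by rw [commutatorElement_def]; group
        have e' := congrArg (fun x : R => (ρ x : M8)) e
        simp only [map_mul, Units.val_mul] at e'
        rcases hsign _ hc1 hc2 with h1 | h1 <;> rw [h1] at e'
        · left; rw [e', one_mul]
        · right; rw [e', neg_one_mul]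
      scal := fun A hA => scal A fun g => hA _ (hS ▸ ⟨g, rfl⟩)
      irr := fun U hU => irr U fun g x hx => hU _ (hS ▸ ⟨g, rfl⟩) x hx }
  obtain ⟨P, hP⟩ := standard T
  -- the change of basis is a similitude
  obtain ⟨k, hk⟩ : ∃ k : F, ((P : M8).map σ)ᵀ * (P : M8) = k • 1 := by
    refine dot8.scal h2 fun v => ?_
    obtain ⟨Q, hQ⟩ : ∃ Q : M8, Q = ((P : M8).map σ)ᵀ * (P : M8) := ⟨_, rfl⟩
    obtain ⟨X, hX, eX⟩ : ∃ X ∈ S, X * (P : M8) = (P : M8) * W F d8 v := by
      refine ⟨(P : M8) * W F d8 v * ((P⁻¹ : G8) : M8), (hP _).2 ⟨1, v, one_pow 4, ?_⟩, ?_⟩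
      · rw [Matrix.mul_assoc, P.inv_mul, Matrix.mul_one, one_smul]
      · rw [Matrix.mul_assoc, P.inv_mul, Matrix.mul_one]
    have hXu : Un σ X := by
      rw [hS] at hX
      obtain ⟨g, rfl⟩ := hX
      rw [hρ]
      exact (memU0 _).1 (hRU g.2)
    rw [← hQ]
    have e1 : ((W F d8 v).map σ)ᵀ * Q * W F d8 v = Q := by
      calc ((W F d8 v).map σ)ᵀ * Q * W F d8 v = (((P : M8) * W F d8 v).map σ)ᵀ * ((P : M8) * W F d8 v) := by
            rw [hQ, Matrix.map_mul, Matrix.transpose_mul]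
            simp only [Matrix.mul_assoc]
        _ = ((P : M8).map σ)ᵀ * ((X.map σ)ᵀ * X) * (P : M8) := by
            rw [← eX, Matrix.map_mul, Matrix.transpose_mul]
            simp only [Matrix.mul_assoc]
        _ = Q := by rw [hXu, Matrix.mul_one, ← hQ]
    have hWW : W F d8 v * ((W F d8 v).map σ)ᵀ = 1 := mul_eq_one_comm.1 (dot8.un_W v)
    conv_rhs => rw [← e1]
    rw [← Matrix.mul_assoc, ← Matrix.mul_assoc, hWW, Matrix.one_mul]
  have hk0 : k ≠ 0 := fun e => by
    have hu : IsUnit (((P : M8).map σ)ᵀ * (P : M8)) := by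
      refine IsUnit.mul ?_ P.isUnit
      rw [Matrix.isUnit_iff_isUnit_det, det_transpose, ← RingHom.mapMatrix_apply, ← RingHom.map_det]
      exact ((Matrix.isUnit_iff_isUnit_det _).1 P.isUnit).map σ
    rw [hk, e, zero_smul] at hu
    exact not_isUnit_zero hu
  have hk' : (((P⁻¹ : G8) : M8).map σ)ᵀ * ((P⁻¹ : G8) : M8) = k⁻¹ • 1 := by
    have h1 : (((P⁻¹ : G8) : M8).map σ)ᵀ * ((P : M8).map σ)ᵀ = 1 := by
      rw [← Matrix.transpose_mul, ← Matrix.map_mul, P.mul_inv, Matrix.map_one σ (map_zero σ) (map_one σ),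
        Matrix.transpose_one]
    calc (((P⁻¹ : G8) : M8).map σ)ᵀ * ((P⁻¹ : G8) : M8)
        = k⁻¹ • ((((P⁻¹ : G8) : M8).map σ)ᵀ * (k • 1) * ((P⁻¹ : G8) : M8)) := by
          rw [Matrix.mul_smul, Matrix.mul_one, Matrix.smul_mul, inv_smul_smul₀ hk0]
      _ = k⁻¹ • 1 := by
          rw [← hk, ← Matrix.mul_assoc, h1, Matrix.one_mul, P.mul_inv]
  -- change of coordinates
  obtain ⟨ψ, hψ⟩ : ∃ ψ : GL (Fin 8) F ≃* G8, ∀ g, ψ g = P⁻¹ * φ g * P :=
    ⟨φ.trans (MulAut.conj P⁻¹), fun g => by simp⟩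
  have memSL : ∀ g, g ∈ Cfsg.Geo.specialLinear (Fin 8) F ↔ (ψ g : M8).det = 1 := fun g => by
    rw [hψ, Units.val_mul, Units.val_mul, det_mul, det_mul, mul_right_comm, ← det_mul, P.inv_mul, det_one, one_mul,
      hdet]
    constructor
    · intro hg
      obtain ⟨s, hs⟩ := CfsgLib.Classical.MinIndex.mem_specialLinear.1 hg
      rw [← hs]; exact s.2
    · intro hg
      exact CfsgLib.Classical.MinIndex.mem_specialLinear.2 ⟨⟨_, hg⟩, Units.ext rfl⟩
  have memU : ∀ g, g ∈ Cfsg.GU 8 F p ↔ Un σ (ψ g : M8) := fun g => by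
    rw [memU0, hψ]
    have eB : (P : M8) * ((P⁻¹ * φ g * P : G8) : M8) = (φ g : M8) * (P : M8) := by
      rw [← Units.val_mul, ← Units.val_mul]; congr 1; group
    constructor
    · exact fun h => un_conj hk0 hk h eB
    · intro h
      refine un_conj (inv_ne_zero hk0) hk' h ?_
      rw [← Units.val_mul, ← Units.val_mul]; congr 1; group
  have memR : ∀ x, x ∈ R ↔ ψ x ∈ dot8.grp (F := F) := fun x => by
    have e0 : ∀ (c : F) v, (φ x : M8) * (P : M8) = c • ((P : M8) * W F d8 v) ↔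
        ((P⁻¹ * φ x * P : G8) : M8) = c • W F d8 v := fun c v => by
      rw [← Matrix.mul_smul, Units.val_mul, Units.val_mul, Matrix.mul_assoc]
      constructor
      · intro h; rw [h, ← Matrix.mul_assoc, P.inv_mul, Matrix.one_mul]
      · intro h; rw [← h, ← Matrix.mul_assoc, P.mul_inv, Matrix.one_mul]
    rw [hψ, dot8.mem_grp]
    simp only [← e0, ← hP, hS]
    refine ⟨fun hx => ⟨⟨x, hx⟩, by rw [hρ]; rfl⟩, ?_⟩
    rintro ⟨y, hy⟩
    rw [hρ] at hy
    exact (φ.injective (Units.ext hy) : (y : GL (Fin 8) F) = x) ▸ y.2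
  have hmap : R.map ψ.toMonoidHom = dot8.grp (F := F) := by
    ext y
    obtain ⟨x, rfl⟩ := ψ.surjective y
    rw [← memR, Subgroup.mem_map]
    exact ⟨fun ⟨x', hx', e'⟩ => ψ.injective e' ▸ hx', fun hx => ⟨x, hx, rfl⟩⟩
  have memX : ∀ g, g ∈ Cfsg.Geo.subgroupNormalizer R ↔ ∃ L, Act d8 (ψ g : M8) L := fun g => by
    rw [← dot8.mem_normalizer_iff, Cfsg.Geo.subgroupNormalizer, ← hmap, ← Subgroup.map_equiv_normalizer_eq]
    exact ⟨fun hg => ⟨g, hg, rfl⟩, fun ⟨g', hg', e'⟩ => ψ.injective e' ▸ hg'⟩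
  refine ⟨lt_of_le_not_ge inf_le_right fun hle => ?_, fun M hM hM' => ?_⟩
  · obtain ⟨A, hAd, hAu, hA⟩ := exists_not_act hi hσi h2
    obtain ⟨g, hg⟩ := ψ.surjective (GeneralLinearGroup.mkOfDetNeZero A (by rw [hAd]; exact one_ne_zero))
    have hgv : (ψ g : M8) = A := by rw [hg]; rfl
    obtain ⟨L, hL⟩ := (memX g).1 (hle ⟨(memU g).2 (hgv.symm ▸ hAu), (memSL g).2 (hgv.symm ▸ hAd)⟩).1
    exact hA L (hgv ▸ hL)
  by_cases hall : ∀ g ∈ Cfsg.GU 8 F p ⊓ Cfsg.Geo.specialLinear (Fin 8) F, g ∈ M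
  · exact Or.inr (le_antisymm hM' hall)
  obtain ⟨M', hM''⟩ : ∃ M' : Subgroup G8, M' = M.map ψ.toMonoidHom := ⟨_, rfl⟩
  have hmem : ∀ g, ψ g ∈ M' ↔ g ∈ M := fun g => by
    rw [hM'', Subgroup.mem_map]
    exact ⟨fun ⟨g', hg', e'⟩ => ψ.injective e' ▸ hg', fun hg => ⟨g, hg, rfl⟩⟩
  have hU : USetup p σ i M' :=
    { prime := hp
      mod := hp4
      card := by rw [Nat.card_eq_fintype_card, hF]
      frob := hσ
      invol := hσ2
      two := h2
      isq := hi
      conj := hσi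
      det := fun g hg => by
        obtain ⟨g, rfl⟩ := ψ.surjective g
        exact (memSL g).1 (hM' ((hmem g).1 hg)).2
      un := fun g hg => by
        obtain ⟨g, rfl⟩ := ψ.surjective g
        exact (memU g).1 (hM' ((hmem g).1 hg)).1
      le := fun g hd hu hL => by
        obtain ⟨g, rfl⟩ := ψ.surjective g
        exact (hmem g).2 (hM ⟨(memX g).2 hL, (memU g).2 hu, (memSL g).2 hd⟩)
      ntop := fun h => hall fun g hg => (hmem g).1 (h _ ((memSL g).1 hg.2) ((memU g).1 hg.1)) }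
  exact Or.inl (le_antisymm (fun g hg => ⟨(memX g).2 (hU.core.all_act hU.small ((hmem g).2 hg)), hM' hg⟩) hM)

end CfsgLib.EightMax
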