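import Cfsg.Agent.Lib.EightMax.Big
import Cfsg.Agent.Lib.Classical.SUFour.Symp
import Cfsg.Agent.Lib.Classical.UnitaryConj

/-!
The unitary setting: the gates are unitary, so they lie in a group containing the unitary normaliser.
-/

set_option autoImplicit false
set_option linter.unusedSectionVars false
set_option maxHeartbeats 1000000

namespace CfsgLib.EightMax

open Matrix
open scoped MatrixGroups

variable {F : Type*} [Field F]

local notation "M4" => Matrix I4 I4 F
local notation "M8" => Matrix I8 I8 F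

section Un

variable {J : Type*} [Fintype J] [DecidableEq J]

/-- Unitary with respect to the conjugation `σ`. -/
def Un (σ : F →+* F) (A : Matrix J J F) : Prop := (A.map σ)ᵀ * A = 1

variable {σ : F →+* F}

theorem un_one : Un σ (1 : Matrix J J F) := by
  rw [Un, Matrix.map_one σ (map_zero σ) (map_one σ), Matrix.transpose_one, Matrix.one_mul]

theorem un_mul {A B : Matrix J J F} (hA : Un σ A) (hB : Un σ B) : Un σ (A * B) := by
  rw [Un, Matrix.map_mul, Matrix.transpose_mul, Matrix.mul_assoc, ← Matrix.mul_assoc (A.map σ)ᵀ, hA, Matrix.one_mul, hB]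

theorem un_smul {A : Matrix J J F} (hA : Un σ A) {c : F} (hc : σ c * c = 1) : Un σ (c • A) := by
  have e : (c • A).map σ = σ c • A.map σ := by ext r s; simp
  rw [Un, e, Matrix.transpose_smul, Matrix.smul_mul, Matrix.mul_smul, hA, smul_smul, hc, one_smul]

theorem un_isUnit {A : Matrix J J F} (hA : Un σ A) : IsUnit A := IsUnit.of_mul_eq_one_right _ hA

theorem un_scalar [Nonempty J] {A : Matrix J J F} (hA : Un σ A) {c : F} (hcA : Un σ (c • A)) : σ c * c = 1 := by
  have e : (c • A).map σ = σ c • A.map σ := by ext r s; simp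
  rw [Un, e, Matrix.transpose_smul, Matrix.smul_mul, Matrix.mul_smul, hA, smul_smul] at hcA
  simpa using congrFun₂ hcA (Classical.arbitrary J) (Classical.arbitrary J)

theorem un_submatrix {K : Type*} [Fintype K] [DecidableEq K] {A : Matrix J J F} (hA : Un σ A) (e : K ≃ J) :
    Un σ (A.submatrix e e) := by
  rw [Un, ← Matrix.submatrix_map, Matrix.transpose_submatrix, Matrix.submatrix_mul_equiv, hA,
    Matrix.submatrix_one_equiv]

theorem un_blockDiagonal {K : Type*} [Fintype K] [DecidableEq K] {Q : K → Matrix J J F}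
    (h : ∀ k, Un σ (Q k)) : Un σ (blockDiagonal Q) := by
  rw [Un, blockDiagonal_map _ σ (map_zero σ), blockDiagonal_transpose, ← blockDiagonal_mul,
    show (fun k => ((Q k).map σ)ᵀ * Q k) = fun _ => (1 : Matrix J J F) from funext h]
  exact blockDiagonal_one

theorem un_block {K : Type*} [Fintype K] [DecidableEq K] {Q : K → Matrix J J F}
    (h : Un σ (blockDiagonal Q)) (k : K) : Un σ (Q k) := by
  rw [Un, blockDiagonal_map _ σ (map_zero σ), blockDiagonal_transpose, ← blockDiagonal_mul] at h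
  ext r s
  have e := congrFun₂ h (r, k) (s, k)
  simpa [blockDiagonal_apply, Matrix.one_apply] using e

variable {i : F} [AddCommGroup J] {d : J → J → ZMod 2}

theorem sigma_sg2 (x : ZMod 2) : σ (sg2 F x) = sg2 F x := by
  rcases z2 x with rfl | rfl <;> simp [sg2_zero, sg2_one]

theorem Dot.W_adj (D : Dot d) (v : J × J) :
    ((W F d v).map σ)ᵀ = sg2 F (d v.2 v.1) • W F d v := by
  ext r c
  simp only [Matrix.transpose_apply, Matrix.map_apply, Matrix.smul_apply, W_apply, smul_eq_mul]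
  by_cases h : r = c + v.1
  · have h' : c = r + v.1 := by rw [h, add_assoc, D.two, add_zero]
    rw [if_pos h', if_pos h, sigma_sg2, h, D.add_right, sg2_add, mul_comm]
  · rw [if_neg h, if_neg (fun h' => h (by rw [h', add_assoc, D.two, add_zero])), map_zero, mul_zero]

theorem Dot.un_W (D : Dot d) (v : J × J) : Un σ (W F d v) := by
  rw [Un, D.W_adj, Matrix.smul_mul, D.W_sq, smul_smul, sg2_self, one_smul]

theorem Dot.un_G (D : Dot d) (hi : i * i = -1) (hσi : σ i = -i) (v : J × J) :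
    Un σ ((1 + i)⁻¹ • G i d v) ∧ σ (1 + i)⁻¹ * (1 + i)⁻¹ * 2 = (1 : F) ∨ (2 : F) = 0 := by
  by_cases h2 : (2 : F) = 0
  · exact Or.inr h2
  left
  have hec : σ (ec i d v) * sg2 F (d v.2 v.1) = ec i d v := by
    rcases z2 (d v.2 v.1) with e | e <;> simp [ec, e, sg2_zero, sg2_one, hσi]
  have hE : ((E i d v).map σ)ᵀ = E i d v := by
    have e : (ec i d v • W F d v).map σ = σ (ec i d v) • (W F d v).map σ := by ext r s; simp
    rw [E, e, Matrix.transpose_smul, D.W_adj, smul_smul, hec]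
  have hG : ((G i d v).map σ)ᵀ = 1 - i • E i d v := by
    have e : (i • E i d v).map σ = σ i • (E i d v).map σ := by ext r s; simp
    rw [G, Matrix.map_add σ (map_add σ), Matrix.map_one σ (map_zero σ) (map_one σ), e, Matrix.transpose_add,
      Matrix.transpose_one, Matrix.transpose_smul, hE, hσi, neg_smul, sub_eq_add_neg]
  have hk : σ (1 + i)⁻¹ * (1 + i)⁻¹ * 2 = (1 : F) := by
    rw [map_inv₀, map_add, map_one, hσi, ← mul_inv, show (1 + -i) * (1 + i) = (2 : F) by linear_combination -hi]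
    exact inv_mul_cancel₀ h2
  refine ⟨?_, hk⟩
  have e : ((1 + i)⁻¹ • G i d v).map σ = σ (1 + i)⁻¹ • (G i d v).map σ := by ext r s; simp
  have hGG : (1 - i • E i d v) * G i d v = (2 : F) • (1 : Matrix J J F) := by
    simp only [G, Matrix.mul_add, Matrix.sub_mul, Matrix.mul_one, Matrix.one_mul, Matrix.smul_mul,
      Matrix.mul_smul, D.E_sq hi, smul_smul, hi]
    match_scalars <;> first | ring1 | linear_combination -hi
  rw [Un, e, Matrix.transpose_smul, hG, Matrix.smul_mul, Matrix.mul_smul, hGG, smul_smul, smul_smul, hk, one_smul]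

theorem Dot.un_G' (D : Dot d) (hi : i * i = -1) (hσi : σ i = -i) (h2 : (2 : F) ≠ 0) (v : J × J) :
    Un σ ((1 + i)⁻¹ • G i d v) := ((D.un_G hi hσi v).resolve_right h2).1

end Un

variable {σ : F →+* F} {i : F}

theorem un_B2 {a b : M4} (ha : Un σ a) (hb : Un σ b) : Un σ (B2 a b) :=
  un_blockDiagonal fun k => by split <;> assumption

theorem un_B2_left {a b : M4} (h : Un σ (B2 a b)) : Un σ a := by simpa using un_block h 0

theorem G4_scale_det (hi : i * i = -1) (h2 : (2 : F) ≠ 0) {v : I4 × I4} (hv : v ≠ 0) :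
    ((1 + i)⁻¹ • G i d4 v).det = -1 := by
  rw [det_smul, G4_det hi h2 hv, Fintype.card_prod, ZMod.card, inv_pow,
    show (1 + i) ^ (2 * 2) = -4 by linear_combination ((1 + i) ^ 2 + 2 * i + (4 : F)) * hi]
  have h4 : (4 : F) ≠ 0 := by rw [show (4 : F) = 2 * 2 by norm_num]; exact mul_ne_zero h2 h2
  field_simp

theorem G8_scale_det (hi : i * i = -1) (h2 : (2 : F) ≠ 0) {v : I8 × I8} (hv : v ≠ 0) :
    ((1 + i)⁻¹ • G i d8 v).det = 1 := by
  rw [det_smul, G8_det hi h2 hv, Fintype.card_prod, Fintype.card_prod, ZMod.card, inv_pow,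
    show (1 + i) ^ (2 * 2 * 2) = 16 by
      rw [pow_mul, show (1 + i) ^ (2 * 2) = -4 by linear_combination ((1 + i) ^ 2 + 2 * i + (4 : F)) * hi]
      norm_num]
  refine inv_mul_cancel₀ ?_
  rw [show (16 : F) = 2 ^ 4 by norm_num]
  exact pow_ne_zero _ h2

/-- An isometry of two qubits is induced by a unitary matrix of determinant with square one. -/
theorem lift4u (hi : i * i = -1) (hσi : σ i = -i) (h2 : (2 : F) ≠ 0) {L : I4 × I4 → I4 × I4}
    (hL : Isom (pf d4) L) : ∃ A : M4, A.det * A.det = 1 ∧ Un σ A ∧ Act d4 A L := by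
  refine dot4.sform.isom_induction (fun L => ∃ A : M4, A.det * A.det = 1 ∧ Un σ A ∧ Act d4 A L)
    ⟨1, by rw [det_one, one_mul], un_one, act_one d4⟩ ?_ L hL
  rintro a L ⟨A, hd, hu, hA⟩
  by_cases ha : a = 0
  · subst ha
    refine ⟨A, hd, hu, ?_⟩
    rwa [show tr (pf d4) 0 ∘ L = L from funext fun x => tr_zero (dot4.sform.zero_right _)]
  refine ⟨((1 + i)⁻¹ • G i d4 a) * A, ?_, un_mul (dot4.un_G' hi hσi h2 a) hu, ((dot4.G_act hi a).smul _).comp hA⟩
  rw [det_mul, G4_scale_det hi h2 ha]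
  linear_combination hd

/-- An isometry of three qubits is induced by a unitary matrix of determinant one. -/
theorem lift8u (hi : i * i = -1) (hσi : σ i = -i) (h2 : (2 : F) ≠ 0) {L : I8 × I8 → I8 × I8}
    (hL : Isom (pf d8) L) : ∃ A : M8, A.det = 1 ∧ Un σ A ∧ Act d8 A L := by
  refine dot8.sform.isom_induction (fun L => ∃ A : M8, A.det = 1 ∧ Un σ A ∧ Act d8 A L)
    ⟨1, det_one, un_one, act_one d8⟩ ?_ L hL
  rintro a L ⟨A, hd, hu, hA⟩
  by_cases ha : a = 0
  · subst ha
    refine ⟨A, hd, hu, ?_⟩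
    rwa [show tr (pf d8) 0 ∘ L = L from funext fun x => tr_zero (dot8.sform.zero_right _)]
  exact ⟨((1 + i)⁻¹ • G i d8 a) * A, by rw [det_mul, G8_scale_det hi h2 ha, hd, one_mul],
    un_mul (dot8.un_G' hi hσi h2 a) hu, ((dot8.G_act hi a).smul _).comp hA⟩

/-- The Frobenius map as the conjugation. -/
theorem mem_GU_iff [Finite F] {p : ℕ} (hσ : ∀ x, σ x = x ^ p) (hσ2 : ∀ x, σ (σ x) = x) {J : Type*} [Fintype J]
    [DecidableEq J] {n : ℕ} (e : J ≃ Fin n) (g : GL (Fin n) F) :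
    g ∈ Cfsg.GU n F p ↔ Un σ ((g : Matrix (Fin n) (Fin n) F).submatrix e e) := by
  rw [CfsgLib.Classical.UnitaryConj.mem_gu_iff σ hσ hσ2]
  constructor
  · intro h
    exact un_submatrix (show Un σ (g : Matrix (Fin n) (Fin n) F) from congrArg Units.val h) e
  · intro h
    have := un_submatrix h e.symm
    rw [Matrix.submatrix_submatrix, Equiv.self_comp_symm, Matrix.submatrix_id_id] at this
    exact Units.ext this

/-- The setting in the unitary case. -/
structure USetup (p : ℕ) (σ : F →+* F) (i : F) (M : Subgroup (GL I8 F)) : Prop where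
  prime : p.Prime
  mod : p % 4 = 3
  card : Nat.card F = p ^ 2
  frob : ∀ x, σ x = x ^ p
  invol : ∀ x, σ (σ x) = x
  two : (2 : F) ≠ 0
  isq : i * i = -1
  conj : σ i = -i
  det : ∀ g ∈ M, (g : M8).det = 1
  un : ∀ g ∈ M, Un σ (g : M8)
  le : ∀ g : GL I8 F, (g : M8).det = 1 → Un σ (g : M8) → (∃ L, Act d8 (g : M8) L) → g ∈ M
  ntop : ¬ ∀ g : GL I8 F, (g : M8).det = 1 → Un σ (g : M8) → g ∈ M

namespace USetup

variable [Fintype F] {p : ℕ} {M : Subgroup (GL I8 F)} (h : USetup p σ i M)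
include h

theorem in_act {A : M8} (hd : A.det = 1) (hu : Un σ A) {L : I8 × I8 → I8 × I8} (hA : Act d8 A L) : In M A :=
  ⟨GeneralLinearGroup.mkOfDetNeZero A (by rw [hd]; exact one_ne_zero), h.le _ hd hu ⟨L, hA⟩, rfl⟩

theorem in_un {A : M8} (hA : In M A) : Un σ A := by
  obtain ⟨g, hg, rfl⟩ := hA
  exact h.un g hg

theorem in_nkron {n : M4} (hd : n.det = 1) (hu : Un σ n) {L : I4 × I4 → I4 × I4} (hn : Act d4 n L) :
    In M (B2 n n) := by
  obtain ⟨L', hL'⟩ := kron_act hn
  rw [← B2_const] at hL'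
  exact h.in_act (by rw [B2_det, hd, one_mul]) (un_B2 hu hu) hL'

theorem core : Core i M where
  two := h.two
  isq := h.isq
  det := h.det
  in_W v := h.in_act (W8_det h.isq h.two v) (dot8.un_W v) (dot8.act_W v)
  in_G v hv := h.in_act (G8_scale_det h.isq h.two hv) (dot8.un_G' h.isq h.conj h.two v) ((dot8.G_act h.isq v).smul _)
  in_lift L hL := by
    obtain ⟨A, hd, hu, hA⟩ := lift8u h.isq h.conj h.two hL
    exact ⟨A, h.in_act hd hu hA, hA⟩
  in_ctl u := by
    obtain ⟨L, hL⟩ := ctl_act (F := F) u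
    refine h.in_act (L := L) ?_ (un_B2 un_one (dot4.un_W u)) hL
    rw [B2_det, det_one, one_mul, W4_det h.isq h.two]
  in_sig A hA τ hτ := by
    rw [show τ = sig from Equiv.ext hτ]
    have hs : In M (sig.permMatrix F : M8) := h.in_act (by
      rw [det_permutation, show Equiv.Perm.sign sig = 1 by decide +kernel]; norm_num) (by
      have e : (sig.permMatrix F : M8).map σ = sig.permMatrix F := by
        ext r c
        simp [Equiv.Perm.permMatrix, PEquiv.toMatrix_apply, apply_ite σ]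
      rw [Un, e, transpose_permMatrix, show sig⁻¹ = sig from Equiv.ext fun _ => rfl, sig_sq]) sig_act
    rw [← sig_conj]
    exact in_mul (in_mul hs hA) hs
  in_kronG a := by
    have h1i : (1 + i) ≠ 0 := fun e => h.two (by linear_combination (1 - i) * e + h.isq)
    refine ⟨(1 + i)⁻¹, inv_ne_zero h1i, ?_⟩
    obtain ⟨L', hL'⟩ := kron_act ((dot4.G_act h.isq a).smul ((1 + i)⁻¹))
    rw [← B2_const] at hL'
    refine h.in_act ?_ (un_B2 (dot4.un_G' h.isq h.conj h.two a) (dot4.un_G' h.isq h.conj h.two a)) hL'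
    rw [B2_det]
    by_cases ha : a = 0
    · subst ha
      have : G i d4 (0 : I4 × I4) = (1 + i) • (1 : M4) := by
        rw [G, E, dot4.W_zero, show ec i d4 (0 : I4 × I4) = 1 from if_pos (by decide), one_smul, add_smul, one_smul]
      rw [this, smul_smul, inv_mul_cancel₀ h1i, one_smul, det_one, one_mul]
    · rw [G4_scale_det h.isq h.two ha]; ring
  in_kron a b hab L hL := by
    have hua : Un σ a := un_B2_left (h.in_un hab)
    obtain ⟨A, hd, hu, hA⟩ := lift4u h.isq h.conj h.two (dot4.act_isom h.two (un_isUnit hua) hL)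
    obtain ⟨c, u, hc, e⟩ := dot4.act_eq h.two (un_isUnit hua) (un_isUnit hu) hL hA
    refine ⟨c⁻¹, inv_ne_zero hc, ?_⟩
    rw [e, smul_smul, inv_mul_cancel₀ hc, one_smul]
    obtain ⟨L', hL'⟩ := kron_act (hA.comp (dot4.act_W u))
    rw [← B2_const] at hL'
    refine h.in_act ?_ (un_B2 (un_mul hu (dot4.un_W u)) (un_mul hu (dot4.un_W u))) hL'
    rw [B2_det, det_mul, W4_det h.isq h.two, mul_one, hd]
  move4 v w hv hw := by
    obtain ⟨z, h1, h1'⟩ := dot4.sform.exists_one_one hv hw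
    have hne : ∀ {x y : I4 × I4}, pf d4 x y = 1 → x + y ≠ 0 := fun {x y} e e0 => by
      rw [dot4.sform.eq_of_add_eq_zero e0, dot4.sform.alt] at e
      exact absurd e (by decide)
    obtain ⟨A, hAdef⟩ : ∃ A : M4, A = ((1 + i)⁻¹ • G i d4 (z + w)) * ((1 + i)⁻¹ • G i d4 (v + z)) := ⟨_, rfl⟩
    have hd : A.det = 1 := by
      rw [hAdef, det_mul, G4_scale_det h.isq h.two (hne (by rw [dot4.sform.symm, h1'])),
        G4_scale_det h.isq h.two (hne h1), neg_mul_neg, one_mul]
    have hu : Un σ A := hAdef ▸ un_mul (dot4.un_G' h.isq h.conj h.two _) (dot4.un_G' h.isq h.conj h.two _)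
    have hA : Act d4 A (tr (pf d4) (z + w) ∘ tr (pf d4) (v + z)) :=
      hAdef ▸ ((dot4.G_act h.isq _).smul _).comp ((dot4.G_act h.isq _).smul _)
    exact ⟨A, _, hd, h.in_nkron hd hu hA, hA, by
      rw [Function.comp_apply, dot4.sform.tr_move h1, dot4.sform.tr_move (by rw [dot4.sform.symm, h1'])]⟩

end USetup

section std

open CfsgLib.Classical.SLFour.SympFour (std A0 B0 C0 D0)

/-- A group containing the unitary normaliser on two qubits contains the unitary group or consists, in the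
unitary group, of normalising matrices. -/
theorem four_dichU [Fintype F] {p : ℕ} (hp : p.Prime) (hp4 : p % 4 = 3) (hcard : Fintype.card F = p ^ 2)
    (hσ : ∀ x, σ x = x ^ p) (hσ2 : ∀ x, σ (σ x) = x) (hi : i * i = -1) (hσi : σ i = -i) (P : Subgroup (GL I4 F))
    (hP : ∀ g : GL I4 F, (g : M4).det = 1 → Un σ (g : M4) → (∃ L, Act d4 (g : M4) L) → g ∈ P) :
    (∀ g : GL I4 F, (g : M4).det = 1 → Un σ (g : M4) → g ∈ P) ∨
      ∀ g ∈ P, (g : M4).det = 1 → Un σ (g : M4) → ∃ L, Act d4 (g : M4) L := by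
  classical
  haveI : Finite (GL I4 F) := Finite.of_injective _ Units.val_injective
  obtain ⟨φ, hφ⟩ : ∃ φ : GL I4 F ≃* GL (Fin 4) F, ∀ g, (φ g : Matrix (Fin 4) (Fin 4) F) =
      (g : M4).submatrix e4.symm e4.symm :=
    ⟨Units.mapEquiv (Matrix.reindexAlgEquiv F F e4).toMulEquiv, fun g => rfl⟩
  have memU : ∀ g, φ g ∈ Cfsg.GU 4 F p ↔ Un σ (g : M4) := fun g => by
    rw [mem_GU_iff hσ hσ2 e4, hφ, Matrix.submatrix_submatrix, Equiv.symm_comp_self, Matrix.submatrix_id_id]
  obtain ⟨R, hR⟩ : ∃ R : Subgroup (GL (Fin 4) F), R = (dot4.grp (F := F)).map φ.toMonoidHom := ⟨_, rfl⟩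
  have memR : ∀ X : Matrix (Fin 4) (Fin 4) F, (∃ (c : F) (w : I4 × I4), c ^ 4 = 1 ∧
      X = c • (W F d4 w).submatrix e4.symm e4.symm) → X ∈ Cfsg.Geo.matrixSet R := by
    rintro X ⟨c, w, hc, rfl⟩
    have hc0 : c ≠ 0 := fun e => by rw [e] at hc; simp at hc
    obtain ⟨g, hg⟩ : ∃ g : GL I4 F, (g : M4) = c • W F d4 w :=
      ⟨GeneralLinearGroup.mkOfDetNeZero (c • W F d4 w)
        (by rw [det_smul]; exact mul_ne_zero (pow_ne_zero _ hc0) (dot4.det_ne w)), rfl⟩
    refine ⟨φ g, ?_, ?_⟩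
    · rw [hR]; exact ⟨g, ⟨c, w, hc, hg⟩, rfl⟩
    · show (φ g : Matrix (Fin 4) (Fin 4) F) = _
      rw [hφ, hg, Matrix.submatrix_smul]
      rfl
  have h4 : i ^ 4 = 1 := by linear_combination (i * i - 1) * hi
  have hu4 : ∀ c : F, c ^ 4 = 1 → σ c * c = 1 := fun c hc => by
    rw [hσ, ← pow_succ, show p + 1 = 4 * (p / 4 + 1) by omega, pow_mul, hc, one_pow]
  have hS : Pauli.Spans (std i hi) R := by
    refine ⟨?_, ?_, ?_, ?_, ?_⟩
    · exact memR _ ⟨1, _, one_pow 4, by rw [one_smul]; exact (std_gen i).1⟩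
    · exact memR _ ⟨1, _, one_pow 4, by rw [one_smul]; exact (std_gen i).2.1⟩
    · exact memR _ ⟨i, _, h4, (std_gen i).2.2.1⟩
    · exact memR _ ⟨1, _, one_pow 4, by rw [one_smul]; exact (std_gen i).2.2.2⟩
    · rw [hR]
      rintro _ ⟨g, ⟨c, w, -, eg⟩, rfl⟩
      obtain ⟨v, u, hu⟩ := M_std hi w
      refine ⟨v, c * u, ?_⟩
      show (φ g : Matrix (Fin 4) (Fin 4) F) = _
      rw [hφ, eg, Matrix.submatrix_smul, Pi.smul_apply, Pi.smul_apply, hu, smul_smul]
  have hmax := CfsgLib.Classical.HermFour.Symp.isMaximalIn_std hp hp4 hcard hi (R := R) (by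
      rw [hR]
      rintro _ ⟨g, ⟨c, w, hc, eg⟩, rfl⟩
      refine (memU g).2 ?_
      rw [eg]
      exact un_smul (dot4.un_W w) (hu4 c hc)) hS
    (memR _ ⟨-1, 0, by ring, by rw [dot4.W_zero, Matrix.submatrix_one_equiv, neg_one_smul]⟩)
    (memR _ ⟨i, 0, h4, by rw [dot4.W_zero, Matrix.submatrix_one_equiv]⟩) (by
      rw [hR]
      rintro _ ⟨g, ⟨c, w, hc, eg⟩, rfl⟩
      rw [← map_pow]
      have e : g ^ 4 = 1 := Units.ext (by
        rw [Units.val_pow_eq_pow_val, eg, smul_pow, hc, one_smul, Units.val_one, show 4 = 2 * 2 from rfl, pow_mul,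
          show W F d4 w ^ 2 = sg2 F (d4 w.2 w.1) • (1 : M4) from (pow_two _).trans (dot4.W_sq w), smul_pow, one_pow,
          pow_two, sg2_self, one_smul])
      rw [e, map_one])
  have hdet : ∀ g, (φ g : Matrix (Fin 4) (Fin 4) F).det = (g : M4).det := fun g => by
    rw [hφ, Matrix.det_submatrix_equiv_self]
  have memSL : ∀ g, φ g ∈ Cfsg.Geo.specialLinear (Fin 4) F ↔ (g : M4).det = 1 := fun g => by
    rw [← hdet]
    constructor
    · intro hg
      obtain ⟨s, hs⟩ := CfsgLib.Classical.MinIndex.mem_specialLinear.1 hg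
      rw [← hs]; exact s.2
    · intro hg
      exact CfsgLib.Classical.MinIndex.mem_specialLinear.2 ⟨⟨_, hg⟩, Units.ext rfl⟩
  have memN : ∀ g, φ g ∈ Cfsg.Geo.subgroupNormalizer R ↔ ∃ L, Act d4 (g : M4) L := fun g => by
    rw [← dot4.mem_normalizer_iff, Cfsg.Geo.subgroupNormalizer, hR]
    constructor
    · intro hg
      rw [← Subgroup.map_equiv_normalizer_eq] at hg
      obtain ⟨g', hg', e⟩ := hg
      exact φ.injective e ▸ hg'
    · intro hg
      rw [← Subgroup.map_equiv_normalizer_eq]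
      exact ⟨g, hg, rfl⟩
  rcases hmax.2 (P.map φ.toMonoidHom ⊓ (Cfsg.GU 4 F p ⊓ Cfsg.Geo.specialLinear (Fin 4) F)) (fun x hx => by
      obtain ⟨g, rfl⟩ := φ.surjective x
      exact ⟨⟨g, hP g ((memSL g).1 hx.2.2) ((memU g).1 hx.2.1) ((memN g).1 hx.1), rfl⟩, hx.2⟩) inf_le_right
    with h | h
  · refine Or.inr fun g hg hd hu => (memN g).1 ?_
    have hx : φ g ∈ P.map φ.toMonoidHom ⊓ (Cfsg.GU 4 F p ⊓ Cfsg.Geo.specialLinear (Fin 4) F) :=
      ⟨⟨g, hg, rfl⟩, (memU g).2 hu, (memSL g).2 hd⟩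
    rw [h] at hx
    exact hx.1
  · refine Or.inl fun g hd hu => ?_
    have hx : φ g ∈ Cfsg.GU 4 F p ⊓ Cfsg.Geo.specialLinear (Fin 4) F := ⟨(memU g).2 hu, (memSL g).2 hd⟩
    rw [← h] at hx
    obtain ⟨g', hg', e⟩ := hx.1
    exact φ.injective e ▸ hg'

end std

end CfsgLib.EightMax
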